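import Mathlib
import Cfsg.Prelude.Def_Transfer
import Cfsg.Agent.H31.ExtraspecialTwo
import Cfsg.Agent.H70.JankoTwoOrder

/-!
Groups of Hall–Janko type, part 1: the extraspecial subgroup of an involution centraliser
`2^(1+4).A₅`.
-/

set_option autoImplicit false

namespace H36.HJ

open scoped commutatorElement

local notation "A5" => alternatingGroup (Fin 5)

theorem a5_exists_five : ∃ a : A5, a ^ 5 = 1 ∧ a ≠ 1 := by decide +kernel

theorem a5_four : ∀ a : A5, a ^ 4 = 1 → a * a = 1 := by decide +kernel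

theorem a5_invol_conj : ∀ b : A5, b * b = 1 → b ≠ 1 → ∀ a : A5, a * a = 1 → a ≠ 1 →
    ∃ c : A5, c * a * c⁻¹ = b := by
  decide +kernel

theorem a5_invol_three : ∀ a b : A5, a * a = 1 → a ≠ 1 → b ^ 3 = 1 → b ≠ 1 → a * b ≠ b * a := by
  decide +kernel

theorem a5_cent_invol : ∀ a : A5, a * a = 1 → a ≠ 1 →
    (Finset.univ.filter fun b : A5 => a * b = b * a).card = 4 := by
  decide +kernel

variable {G : Type*} [Group G] [Finite G]

/-- An involution whose centraliser maps onto `A₅` with self-centralising extraspecial kernel of order 32,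
and which is not weakly closed in that kernel. -/
structure Hyp (z : G) (Q : Subgroup G) (χ : Subgroup.centralizer ({z} : Set G) →* A5) : Prop where
  ord : orderOf z = 2
  le : Q ≤ Subgroup.centralizer ({z} : Set G)
  surj : Function.Surjective χ
  ker : ∀ x : Subgroup.centralizer ({z} : Set G), χ x = 1 ↔ (x : G) ∈ Q
  extra : Cfsg.IsExtraspecial 2 Q
  card : Nat.card Q = 32
  zmem : z ∈ Q
  self : ∀ c : G, Commute c z → (∀ q ∈ Q, Commute c q) → c ∈ Q
  nwc : ∃ g : G, g * z * g⁻¹ ∈ Q ∧ g * z * g⁻¹ ≠ z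

variable {z : G} {Q : Subgroup G} {χ : Subgroup.centralizer ({z} : Set G) →* A5}

theorem mem_C {g : G} : g ∈ Subgroup.centralizer ({z} : Set G) ↔ Commute g z :=
  Subgroup.mem_centralizer_singleton_iff

/-- The image in `A₅` of an element commuting with `z`. -/
noncomputable def img (χ : Subgroup.centralizer ({z} : Set G) →* A5) {g : G} (hg : Commute g z) : A5 :=
  χ ⟨g, mem_C.mpr hg⟩

namespace Hyp

theorem img_eq_one (H : Hyp z Q χ) {g : G} (hg : Commute g z) : img χ hg = 1 ↔ g ∈ Q :=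
  H.ker ⟨g, mem_C.mpr hg⟩

theorem comm_z (H : Hyp z Q χ) {q : G} (hq : q ∈ Q) : Commute q z := mem_C.mp (H.le hq)

theorem zz (H : Hyp z Q χ) : z * z = 1 := (by rw [← pow_two, ← H.ord, pow_orderOf_eq_one])

theorem z_ne (H : Hyp z Q χ) : z ≠ 1 := fun h => by have := H.ord; rw [h, orderOf_one] at this; omega

theorem conj_memQ (H : Hyp z Q χ) {c q : G} (hc : Commute c z) (hq : q ∈ Q) : c * q * c⁻¹ ∈ Q := by
  have h1 : Commute (c * q * c⁻¹) z :=
    (hc.mul_left (H.comm_z hq)).mul_left hc.inv_left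
  rw [← H.img_eq_one h1, img,
    show (⟨c * q * c⁻¹, mem_C.mpr h1⟩ : Subgroup.centralizer ({z} : Set G)) =
      ⟨c, mem_C.mpr hc⟩ * ⟨q, H.le hq⟩ * ⟨c, mem_C.mpr hc⟩⁻¹ from rfl,
    map_mul, map_mul, map_inv, (H.ker ⟨q, H.le hq⟩).mpr hq, mul_one, mul_inv_cancel]

theorem conj_memQ' (H : Hyp z Q χ) {c q : G} (hc : Commute c z) (hq : q ∈ Q) : c⁻¹ * q * c ∈ Q := by
  simpa using H.conj_memQ hc.inv_left hq

theorem center_mem (H : Hyp z Q χ) {w : G} (hw : w ∈ Q) (hc : ∀ q ∈ Q, Commute w q) :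
    w = 1 ∨ w = z := by
  obtain ⟨z', hz'c, -, -, huniq⟩ := H31.Extra2.center_data H.extra
  have hzc : (⟨z, H.zmem⟩ : ↥Q) ∈ Subgroup.center ↥Q :=
    Subgroup.mem_center_iff.mpr fun q => Subtype.ext (H.comm_z q.2).eq
  have hwc : (⟨w, hw⟩ : ↥Q) ∈ Subgroup.center ↥Q :=
    Subgroup.mem_center_iff.mpr fun q => Subtype.ext (hc q q.2).eq.symm
  have hzz' : (⟨z, H.zmem⟩ : ↥Q) = z' :=
    (huniq _ hzc).resolve_left fun h => H.z_ne (congrArg Subtype.val h)
  rcases huniq _ hwc with h | h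
  · exact Or.inl (congrArg Subtype.val h)
  · exact Or.inr (congrArg Subtype.val (h.trans hzz'.symm))

theorem comm_cases (H : Hyp z Q χ) {a b : G} (ha : a ∈ Q) (hb : b ∈ Q) :
    a * b = b * a ∨ a * b = b * a * z := by
  have hm : ⁅(⟨a, ha⟩ : ↥Q), ⟨b, hb⟩⁆ ∈ Subgroup.center ↥Q :=
    H6.extraspecial_commutator_mem_center H.extra _ _
  have hwQ : ((⁅(⟨a, ha⟩ : ↥Q), ⟨b, hb⟩⁆ : ↥Q) : G) ∈ Q := (⁅(⟨a, ha⟩ : ↥Q), ⟨b, hb⟩⁆ : ↥Q).2
  have hwc : ∀ q ∈ Q, Commute ((⁅(⟨a, ha⟩ : ↥Q), ⟨b, hb⟩⁆ : ↥Q) : G) q := fun q hq =>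
    (congrArg Subtype.val (Subgroup.mem_center_iff.mp hm ⟨q, hq⟩)).symm
  have e : a * b = ((⁅(⟨a, ha⟩ : ↥Q), ⟨b, hb⟩⁆ : ↥Q) : G) * (b * a) := by
    simp [commutatorElement_def, mul_assoc]
  rcases H.center_mem hwQ hwc with h | h <;> rw [h] at e
  · exact Or.inl (by rw [e, one_mul])
  · exact Or.inr (by rw [e, ((H.comm_z hb).mul_left (H.comm_z ha)).eq])

theorem sq_cases (H : Hyp z Q χ) {a : G} (ha : a ∈ Q) : a * a = 1 ∨ a * a = z := by
  have hm : (⟨a, ha⟩ : ↥Q) ^ 2 ∈ Subgroup.center ↥Q := H6.extraspecial_pow_mem_center H.extra _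
  have hwQ : a * a ∈ Q := mul_mem ha ha
  refine H.center_mem hwQ fun q hq => ?_
  have := congrArg Subtype.val (Subgroup.mem_center_iff.mp hm ⟨q, hq⟩)
  simpa [pow_two, Commute, SemiconjBy] using this.symm

/-- An element of order five of the centraliser fixes only `⟨z⟩` in `Q`. -/
theorem exists_five (H : Hyp z Q χ) : ∃ f : G, Commute f z ∧ f ^ 5 = 1 ∧ f ≠ 1 ∧
    ∀ q ∈ Q, Commute f q → q = 1 ∨ q = z := by
  classical
  haveI : Fact (Nat.Prime 5) := ⟨by norm_num⟩
  obtain ⟨a, ha5, ha1⟩ := a5_exists_five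
  obtain ⟨x, rfl⟩ := H.surj a
  have hd : 5 ∣ Nat.card (Subgroup.centralizer ({z} : Set G)) := by
    refine dvd_trans ?_ (orderOf_dvd_natCard x)
    refine dvd_trans ?_ (orderOf_map_dvd χ x)
    rw [orderOf_eq_prime ha5 ha1]
  obtain ⟨⟨f, hf⟩, hfo⟩ := exists_prime_orderOf_dvd_card' 5 hd
  rw [Subgroup.orderOf_mk] at hfo
  have hfz : Commute f z := mem_C.mp hf
  have hf5 : f ^ 5 = 1 := hfo ▸ pow_orderOf_eq_one f
  have hf1 : f ≠ 1 := fun h => by rw [h, orderOf_one] at hfo; omega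
  have hfQ : f ∉ Q := fun h => by
    have h32 := orderOf_dvd_natCard (⟨f, h⟩ : ↥Q)
    rw [Subgroup.orderOf_mk, hfo, H.card] at h32
    norm_num at h32
  refine ⟨f, hfz, hf5, hf1, fun q hq hfq => ?_⟩
  by_contra hne
  push Not at hne
  set A := Subgroup.zpowers f
  have hA : IsPGroup 5 A := IsPGroup.of_card (n := 1) (by rw [Nat.card_zpowers, hfo, pow_one])
  have hAz : ∀ a : A, Commute (a : G) z := fun a => by
    obtain ⟨i, hi⟩ := Subgroup.mem_zpowers_iff.mp a.2
    rw [← hi]; exact hfz.zpow_left i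
  letI : MulAction A Q :=
    { smul := fun a x => ⟨(a : G) * x * (a : G)⁻¹, H.conj_memQ (hAz a) x.2⟩
      one_smul := fun x => Subtype.ext (by show (1 : G) * x * 1⁻¹ = x; simp)
      mul_smul := fun u v x => Subtype.ext (by
        show ((u : G) * v) * x * ((u : G) * v)⁻¹ = u * (v * x * (v : G)⁻¹) * (u : G)⁻¹
        group) }
  set D := Q ⊓ Subgroup.centralizer ({f} : Set G) with hD
  have hfix : Nat.card (MulAction.fixedPoints A Q) = Nat.card D := by
    refine Nat.card_congr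
      { toFun := fun x => ⟨((x : Q) : G), (x : Q).2, Subgroup.mem_centralizer_singleton_iff.mpr ?_⟩
        invFun := fun x => ⟨⟨(x : G), x.2.1⟩, ?_⟩
        left_inv := fun x => rfl
        right_inv := fun x => rfl }
    · have := congrArg Subtype.val (x.2 ⟨f, Subgroup.mem_zpowers f⟩)
      change f * ((x : Q) : G) * f⁻¹ = ((x : Q) : G) at this
      exact (mul_inv_eq_iff_eq_mul.mp this).symm
    · rintro ⟨_, i, rfl⟩
      refine Subtype.ext ?_
      show f ^ i * (x : G) * (f ^ i)⁻¹ = (x : G)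
      rw [mul_inv_eq_iff_eq_mul]
      exact ((show Commute f (x : G) from
        (Subgroup.mem_centralizer_singleton_iff.mp x.2.2).symm).zpow_left i).eq
  have hmod := hA.card_modEq_card_fixedPoints Q
  rw [hfix, H.card] at hmod
  have hdvd : Nat.card D ∣ 2 ^ 5 := by
    rw [show (2 : ℕ) ^ 5 = Nat.card Q by rw [H.card]; norm_num]
    exact Subgroup.card_dvd_of_le inf_le_left
  obtain ⟨k, hk, hDk⟩ := (Nat.dvd_prime_pow Nat.prime_two).mp hdvd
  have hmemD : ∀ w, w ∈ Q → Commute f w → w ∈ D :=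
    fun w hw hc => ⟨hw, Subgroup.mem_centralizer_singleton_iff.mpr hc.symm.eq⟩
  have h3 : 3 ≤ Nat.card D := by
    let g : Fin 3 → D := ![1, ⟨z, hmemD z H.zmem hfz⟩, ⟨q, hmemD q hq hfq⟩]
    have := Nat.card_le_card_of_injective g (by
      have h1 := H.z_ne
      intro i j hij
      fin_cases i <;> fin_cases j <;>
        first
        | rfl
        | (have h' := congrArg Subtype.val hij
           simp [g] at h'
           first
           | exact absurd h' h1
           | exact absurd h'.symm h1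
           | exact absurd h' hne.1
           | exact absurd h'.symm hne.1
           | exact absurd h' hne.2
           | exact absurd h'.symm hne.2))
    simpa using this
  rw [hDk] at hmod h3
  have hk5 : k = 5 := by
    interval_cases k <;> first | rfl | (exfalso; omega) | (exfalso; revert hmod; decide)
  have hDQ : D = Q := Subgroup.eq_of_le_of_card_ge inf_le_left (by rw [H.card, hDk, hk5]; norm_num)
  exact hfQ (H.self f hfz fun w hw =>
    (Subgroup.mem_centralizer_singleton_iff.mp (hDQ ▸ hw : w ∈ D).2 : w * f = f * w).symm)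

/-- Non-central involutions of `Q`. -/
def Sat (z : G) (Q : Subgroup G) (u : G) : Prop := u ∈ Q ∧ u * u = 1 ∧ u ≠ 1 ∧ u ≠ z

theorem sat_mul_z (H : Hyp z Q χ) {u : G} (hu : Sat z Q u) : Sat z Q (u * z) := by
  obtain ⟨hQ, h2, h1, hz⟩ := hu
  refine ⟨mul_mem hQ H.zmem, ?_, ?_, ?_⟩
  · rw [mul_assoc, ← mul_assoc z, ← (H.comm_z hQ).eq, mul_assoc u z z, H.zz, mul_one, h2]
  · intro h; exact hz (by rw [eq_inv_of_mul_eq_one_left h, inv_eq_of_mul_eq_one_right H.zz])
  · intro h; exact h1 (mul_eq_right.mp h)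

theorem sat_conj (H : Hyp z Q χ) {u c : G} (hu : Sat z Q u) (hc : Commute c z) :
    Sat z Q (c * u * c⁻¹) := by
  obtain ⟨hQ, h2, h1, hz⟩ := hu
  refine ⟨H.conj_memQ hc hQ, ?_, ?_, ?_⟩
  · rw [show c * u * c⁻¹ * (c * u * c⁻¹) = c * (u * u) * c⁻¹ by group, h2, mul_one, mul_inv_cancel]
  · simpa using h1
  · intro h
    apply hz
    have : c * u = z * c := mul_inv_eq_iff_eq_mul.mp h
    rw [← hc.eq] at this
    exact mul_left_cancel this

theorem exists_sat (H : Hyp z Q χ) : ∃ g : G, Sat z Q (g * z * g⁻¹) := by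
  obtain ⟨g, h1, h2⟩ := H.nwc
  exact ⟨g, h1, by rw [show g * z * g⁻¹ * (g * z * g⁻¹) = g * (z * z) * g⁻¹ by group, H.zz, mul_one,
    mul_inv_cancel], by simpa using H.z_ne, h2⟩

theorem not_central_sat (H : Hyp z Q χ) {u : G} (hu : Sat z Q u) : ∃ q ∈ Q, ¬ Commute u q := by
  by_contra h
  push Not at h
  rcases H.center_mem hu.1 h with e | e
  · exact hu.2.2.1 e
  · exact hu.2.2.2 e

theorem sat_conj_mul_z (H : Hyp z Q χ) {u : G} (hu : Sat z Q u) :
    ∃ q ∈ Q, q * u * q⁻¹ = u * z := by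
  obtain ⟨q, hq, hn⟩ := H.not_central_sat hu
  refine ⟨q, hq, ?_⟩
  have := (H.comm_cases hq hu.1).resolve_left fun h => hn h.symm
  rw [this]
  rw [mul_assoc (u * q) z, ← (H.comm_z hq).inv_left.eq]
  group

theorem card_sat_add_two (H : Hyp z Q χ) :
    H31.Extra2.invCount ↥Q = Nat.card {u : G // Sat z Q u} + 2 := by
  classical
  haveI := Fintype.ofFinite G
  rw [H31.Extra2.invCount]
  have hsplit : (Finset.univ.filter fun x : G => x ∈ Q ∧ x ^ 2 = 1) =
      insert 1 (insert z (Finset.univ.filter fun u : G => Sat z Q u)) := by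
    ext x
    simp only [Finset.mem_filter, Finset.mem_univ, true_and, Finset.mem_insert, pow_two]
    constructor
    · rintro ⟨h1, h2⟩
      by_cases hx1 : x = 1
      · exact Or.inl hx1
      · by_cases hxz : x = z
        · exact Or.inr (Or.inl hxz)
        · exact Or.inr (Or.inr ⟨h1, h2, hx1, hxz⟩)
    · rintro (rfl | rfl | ⟨h1, h2, -, -⟩)
      · exact ⟨one_mem Q, one_mul 1⟩
      · exact ⟨H.zmem, H.zz⟩
      · exact ⟨h1, h2⟩
  calc Nat.card {x : ↥Q // x ^ 2 = 1} = Nat.card {x : G // x ∈ Q ∧ x ^ 2 = 1} :=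
        Nat.card_congr (((Equiv.refl ↥Q).subtypeEquiv (fun x => by simp [Subtype.ext_iff])).trans
          (Equiv.subtypeSubtypeEquivSubtypeInter (fun x => x ∈ Q) (fun x => x ^ 2 = 1)))
    _ = Nat.card {u : G // Sat z Q u} + 2 := by
        rw [Nat.card_eq_fintype_card, Fintype.card_subtype, hsplit, Finset.card_insert_of_notMem,
          Finset.card_insert_of_notMem, ← Fintype.card_subtype, ← Nat.card_eq_fintype_card]
        · intro h
          exact (Finset.mem_filter.mp h).2.2.2.2 rfl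
        · intro h
          rcases Finset.mem_insert.mp h with h | h
          · exact H.z_ne h.symm
          · exact (Finset.mem_filter.mp h).2.2.2.1 rfl

/-- The ten non-central involutions of `Q` form one orbit under the centraliser. -/
theorem sat_main (H : Hyp z Q χ) :
    Nat.card {u : G // Sat z Q u} = 10 ∧
      ∀ a b, Sat z Q a → Sat z Q b → ∃ c, Commute c z ∧ c * a * c⁻¹ = b := by
  classical
  obtain ⟨f, hfz, hf5, hf1, hffix⟩ := H.exists_five
  haveI : Fact (Nat.Prime 5) := ⟨by norm_num⟩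
  haveI := Fintype.ofFinite G
  have hiter : ∀ (S : G → Prop) (σ : Equiv.Perm (Subtype S)),
      (∀ x, (σ x : G) = f * x * f⁻¹) → σ ^ 5 ^ 1 = 1 := by
    intro S σ hσ
    ext x
    have : ∀ n, (((σ ^ n) x : Subtype S) : G) = f ^ n * x * (f ^ n)⁻¹ := by
      intro n
      induction n with
      | zero => simp
      | succ n ih => rw [pow_succ', Equiv.Perm.mul_apply, hσ, ih, pow_succ']; group
    rw [this, pow_one, hf5]; simp
  let σ : Equiv.Perm {u : G // Sat z Q u} := (MulAut.conj f).toEquiv.subtypeEquiv fun u => by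
    simp only [MulEquiv.toEquiv_eq_coe, MulEquiv.coe_toEquiv, MulAut.conj_apply]
    refine ⟨fun h => H.sat_conj h hfz, fun h => ?_⟩
    have := H.sat_conj h hfz.inv_left
    simpa [mul_assoc] using this
  have h5 : 5 ∣ Nat.card {u : G // Sat z Q u} := by
    by_contra hnd
    rw [Nat.card_eq_fintype_card] at hnd
    obtain ⟨⟨w, hw⟩, hfix⟩ :=
      Equiv.Perm.exists_fixed_point_of_prime (p := 5) hnd (hiter _ σ fun x => rfl)
    have hc : Commute f w := mul_inv_eq_iff_eq_mul.mp (congrArg Subtype.val hfix)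
    rcases hffix w hw.1 hc with e | e
    · exact hw.2.2.1 e
    · exact hw.2.2.2 e
  have h10 : Nat.card {u : G // Sat z Q u} = 10 := by
    have := H.card_sat_add_two
    rcases H31.Extra2.count_values 1 H.extra (by rw [H.card]; norm_num) with h | h <;>
      rw [this] at h <;> norm_num [-Nat.card_eq_fintype_card] at h <;> omega
  refine ⟨h10, ?_⟩
  suffices key : ∀ a, Sat z Q a → ∀ b, Sat z Q b → ∃ c, Commute c z ∧ c * a * c⁻¹ = b from
    fun a b ha hb => key a ha b hb
  intro a ha b hb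
  obtain ⟨q, hq, hqa⟩ := H.sat_conj_mul_z ha
  let F : Fin 2 × Fin 5 → {u : G // Sat z Q u} := fun p =>
    ⟨f ^ (p.2 : ℕ) * (if p.1 = 0 then a else a * z) * (f ^ (p.2 : ℕ))⁻¹,
      H.sat_conj (by split; exacts [ha, H.sat_mul_z ha]) (hfz.pow_left _)⟩
  have hinj : Function.Injective F := by
    -- powers of `f` fixing `a` or `a z`
    have hstab : ∀ k : ℕ, k < 5 → ∀ w, Sat z Q w → f ^ k * w * (f ^ k)⁻¹ = w → k = 0 := by
      intro k hk w hw he
      by_contra hk0
      have hcop : Nat.Coprime k (orderOf f) := by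
        rw [orderOf_eq_prime hf5 hf1]
        exact ((Nat.Prime.coprime_iff_not_dvd (by norm_num)).mpr fun h => by
          have := Nat.le_of_dvd (by omega) h; omega).symm
      obtain ⟨m, hm⟩ := exists_pow_eq_self_of_coprime hcop
      have hc : Commute (f ^ k) w := mul_inv_eq_iff_eq_mul.mp he
      have hc' := hc.pow_left m
      rw [hm] at hc'
      rcases hffix w hw.1 hc' with e | e
      · exact hw.2.2.1 e
      · exact hw.2.2.2 e
    have hflip : ∀ k : ℕ, k < 5 → f ^ k * a * (f ^ k)⁻¹ ≠ a * z := by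
      intro k hk he
      have hz' : f ^ k * z * (f ^ k)⁻¹ = z := by rw [(hfz.pow_left k).eq, mul_inv_cancel_right]
      have h2 : f ^ (k + k) * a * (f ^ (k + k))⁻¹ = a := by
        calc f ^ (k + k) * a * (f ^ (k + k))⁻¹ = f ^ k * (f ^ k * a * (f ^ k)⁻¹) * (f ^ k)⁻¹ := by
              rw [pow_add]; group
          _ = f ^ k * (a * z) * (f ^ k)⁻¹ := by rw [he]
          _ = (f ^ k * a * (f ^ k)⁻¹) * (f ^ k * z * (f ^ k)⁻¹) := by group
          _ = a := by rw [he, hz', mul_assoc, H.zz, mul_one]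
      rw [show f ^ (k + k) = f ^ ((k + k) % 5) by
        conv_lhs => rw [← Nat.mod_add_div (k + k) 5, pow_add, pow_mul, hf5, one_pow, mul_one]] at h2
      have := hstab _ (Nat.mod_lt _ (by norm_num)) a ha h2
      have hk0 : k = 0 := by omega
      subst hk0
      simp only [pow_zero, one_mul, inv_one, mul_one] at he
      exact H.z_ne (mul_eq_left.mp he.symm)
    rintro ⟨i, k⟩ ⟨j, l⟩ he
    have he' := congrArg Subtype.val he
    simp only [F] at he'
    have hred : f ^ (((k : ℕ) + (5 - (l : ℕ))) % 5) * (if i = 0 then a else a * z) *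
        (f ^ (((k : ℕ) + (5 - (l : ℕ))) % 5))⁻¹ = (if j = 0 then a else a * z) := by
      have e1 : f ^ (((k : ℕ) + (5 - (l : ℕ))) % 5) = (f ^ (l : ℕ))⁻¹ * f ^ (k : ℕ) := by
        have : f ^ (((k : ℕ) + (5 - (l : ℕ))) % 5) = f ^ ((k : ℕ) + (5 - (l : ℕ))) := by
          conv_rhs => rw [← Nat.mod_add_div ((k : ℕ) + (5 - (l : ℕ))) 5, pow_add, pow_mul, hf5,
            one_pow, mul_one]
        rw [this, eq_inv_mul_iff_mul_eq, ← pow_add,
          show (l : ℕ) + ((k : ℕ) + (5 - (l : ℕ))) = k + 5 by omega, pow_add, hf5, mul_one]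
      rw [e1, mul_inv_rev, inv_inv]
      calc _ = (f ^ (l : ℕ))⁻¹ * (f ^ (k : ℕ) * (if i = 0 then a else a * z) * (f ^ (k : ℕ))⁻¹) *
            f ^ (l : ℕ) := by group
        _ = _ := by rw [he']; group
    set m := ((k : ℕ) + (5 - (l : ℕ))) % 5
    have hm : m < 5 := Nat.mod_lt _ (by norm_num)
    have hmul : ∀ w, f ^ m * (w * z) * (f ^ m)⁻¹ = f ^ m * w * (f ^ m)⁻¹ * z := fun w => by
      calc f ^ m * (w * z) * (f ^ m)⁻¹ = f ^ m * w * (z * (f ^ m)⁻¹) := by group
        _ = _ := by rw [← (hfz.pow_left m).inv_left.eq]; group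
    by_cases hi : i = 0 <;> by_cases hj : j = 0 <;> simp only [hi, hj, if_true, if_false] at hred
    · have := hstab m hm a ha hred
      refine Prod.ext (hi.trans hj.symm) (Fin.ext ?_)
      show (k : ℕ) = l
      omega
    · exact absurd hred (hflip m hm)
    · rw [hmul] at hred
      exact absurd (by rw [eq_mul_inv_of_mul_eq hred, inv_eq_of_mul_eq_one_right H.zz]) (hflip m hm)
    · rw [hmul] at hred
      have := hstab m hm a ha (mul_right_cancel hred)
      refine Prod.ext (show i = j by omega) (Fin.ext ?_)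
      show (k : ℕ) = l
      omega
  have hbij : Function.Bijective F := by
    rw [Nat.bijective_iff_injective_and_card]
    exact ⟨hinj, by rw [h10]; simp⟩
  obtain ⟨⟨i, k⟩, hik⟩ := hbij.2 ⟨b, hb⟩
  have he := congrArg Subtype.val hik
  simp only [F] at he
  by_cases hi : i = 0
  · exact ⟨f ^ (k : ℕ), hfz.pow_left _, by simpa [hi] using he⟩
  · refine ⟨f ^ (k : ℕ) * q, (hfz.pow_left _).mul_left (H.comm_z hq), ?_⟩
    rw [← he, if_neg hi, ← hqa]
    group

/-- Non-central involutions in different cosets of `⟨z⟩` do not commute. -/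
theorem sat_noncomm (H : Hyp z Q χ) {a b : G} (ha : Sat z Q a) (hb : Sat z Q b) (hne : b ≠ a)
    (hne' : b ≠ a * z) : a * b = b * a * z := by
  refine (H.comm_cases ha.1 hb.1).resolve_left fun hcm => ?_
  have hab : ∀ w : ↥Q, w ∈ Subgroup.center ↥Q → (w : G) = 1 ∨ (w : G) = z := fun w hw =>
    H.center_mem w.2 fun q hq => (congrArg Subtype.val (Subgroup.mem_center_iff.mp hw ⟨q, hq⟩)).symm
  have hnc : ∀ w : G, ∀ hw : w ∈ Q, w ≠ 1 → w ≠ z → (⟨w, hw⟩ : ↥Q) ∉ Subgroup.center ↥Q :=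
    fun w hw h1 h2 hc => (hab _ hc).elim h1 h2
  have h20 := H70.J2Ord.invCount_of_four H.extra H.card
    (u := ⟨a, ha.1⟩) (w := ⟨b, hb.1⟩) (Subtype.ext (by simp [pow_two, ha.2.1]))
    (Subtype.ext (by simp [pow_two, hb.2.1])) (Subtype.ext hcm) (hnc a ha.1 ha.2.2.1 ha.2.2.2)
    (hnc b hb.1 hb.2.2.1 hb.2.2.2)
    (hnc (a * b) (mul_mem ha.1 hb.1)
      (fun h => hne (by
        rw [← mul_eq_one_iff_inv_eq.mp h]
        exact inv_eq_of_mul_eq_one_right ha.2.1))
      (fun h => hne' (by rw [← h, ← mul_assoc, ha.2.1, one_mul])))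
  rw [H.card_sat_add_two, H.sat_main.1] at h20
  omega

end Hyp

end H36.HJ
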