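import Cfsg.Agent.H36.HJ.Fusion
import Cfsg.Agent.H70.AbelianSylowTwo
import Cfsg.Agent.H70.SelfCentKlein

/-!
Groups of Hall–Janko type, part 5: the centraliser of an involution not conjugate to `z` has a normal
subgroup of index four with self-centralising four-group.
-/

set_option autoImplicit false

namespace H36.HJ

open scoped commutatorElement

local notation "A5" => alternatingGroup (Fin 5)

variable {G : Type*} [Group G] [Finite G]
variable {z : G} {Q : Subgroup G} {χ : Subgroup.centralizer ({z} : Set G) →* A5}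
variable {u h x c : G}

theorem Ctx.TT_cosets (H : Hyp z Q χ) (K : Ctx z Q u h x c) {r s : G} (hr : r ∈ TT z (x * c))
    (hs : s ∈ TT z (x * c)) (hrn : ¬ InE z u r) (hyr : ¬ InE z u (x * c * r)) :
    InE z u s ∨ InE z u (x * c * s) ∨ InE z u (r * s) ∨ InE z u (x * c * r * s) := by
  classical
  obtain ⟨hrz, hry⟩ := mem_TT.mp hr
  obtain ⟨hsz, hsy⟩ := mem_TT.mp hs
  have hyz := K.comm_z H
  set τ := img χ hyz
  set ρ := img χ hrz
  set σ := img χ hsz
  have hτ2 : τ * τ = 1 := by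
    rw [← H.img_mul hyz hyz]; exact (H.img_eq_one _).mpr (by rw [K.sq H]; exact one_mem Q)
  have hτ1 : τ ≠ 1 := fun e => K.not_mem H ((H.img_eq_one _).mp e)
  have hr2 := K.cent_sq H hrz hry
  have hs2 := K.cent_sq H hsz hsy
  have hρ2 : ρ * ρ = 1 := by
    rw [← H.img_mul hrz hrz]; exact (H.img_eq_one _).mpr (by rw [hr2]; exact one_mem Q)
  have hρ1 : ρ ≠ 1 := fun e => hrn (K.cent_Q H ((H.img_eq_one _).mp e) hry.symm)
  have hτρ : τ ≠ ρ := fun e => by
    have h' := (H.img_eq_iff hyz hrz).mp e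
    rw [inv_eq_of_mul_eq_one_right (K.sq H)] at h'
    exact hyr (K.cent_Q H h' ((Commute.refl _).mul_right hry.symm))
  have hcm : ∀ {w : G} (hwz : Commute w z), Commute w (x * c) → τ * img χ hwz = img χ hwz * τ := by
    intro w hwz hwy
    rw [← H.img_mul hyz hwz, ← H.img_mul hwz hyz, H.img_eq_iff, hwy.eq, inv_mul_cancel]
    exact one_mem Q
  have hsub : ({1, τ, ρ, τ * ρ} : Finset A5) ⊆ Finset.univ.filter fun b => τ * b = b * τ := by
    intro b hb
    simp only [Finset.mem_insert, Finset.mem_singleton] at hb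
    rw [Finset.mem_filter]
    refine ⟨Finset.mem_univ _, ?_⟩
    rcases hb with rfl | rfl | rfl | rfl
    · simp
    · rfl
    · exact hcm hrz hry
    · exact ((Commute.refl τ).mul_right (hcm hrz hry)).eq
  have hc4 : ({1, τ, ρ, τ * ρ} : Finset A5).card = 4 := by
    rw [Finset.card_insert_of_notMem, Finset.card_insert_of_notMem, Finset.card_insert_of_notMem,
      Finset.card_singleton]
    · simp only [Finset.mem_singleton]; exact fun e => hτ1 (mul_eq_right.mp e.symm)
    · simp only [Finset.mem_insert, Finset.mem_singleton, not_or]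
      exact ⟨hτρ, fun e => hρ1 (mul_eq_left.mp e.symm)⟩
    · simp only [Finset.mem_insert, Finset.mem_singleton, not_or]
      refine ⟨hτ1.symm, hρ1.symm, fun e => hτρ ?_⟩
      rw [← inv_eq_of_mul_eq_one_right hτ2]
      exact inv_eq_of_mul_eq_one_right e.symm
  have hσ : σ ∈ ({1, τ, ρ, τ * ρ} : Finset A5) := by
    rw [Finset.eq_of_subset_of_card_le hsub (by rw [a5_cent_invol τ hτ2 hτ1, hc4]), Finset.mem_filter]
    exact ⟨Finset.mem_univ _, hcm hsz hsy⟩
  have hys : Commute (x * c) s := hsy.symm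
  simp only [Finset.mem_insert, Finset.mem_singleton] at hσ
  rcases hσ with e | e | e | e
  · exact Or.inl (K.cent_Q H ((H.img_eq_one _).mp e) hys)
  · refine Or.inr (Or.inl (K.cent_Q H ?_ ((Commute.refl _).mul_right hys)))
    have := (H.img_eq_iff hyz hsz).mp e.symm
    rwa [inv_eq_of_mul_eq_one_right (K.sq H)] at this
  · refine Or.inr (Or.inr (Or.inl (K.cent_Q H ?_ (hry.symm.mul_right hys))))
    have := (H.img_eq_iff hrz hsz).mp e.symm
    rwa [inv_eq_of_mul_eq_one_right hr2] at this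
  · refine Or.inr (Or.inr (Or.inr (K.cent_Q H ?_
      (((Commute.refl _).mul_right hry.symm).mul_right hys))))
    have h' : img χ (hyz.mul_left hrz) = σ := by rw [H.img_mul hyz hrz]; exact e.symm
    have := (H.img_eq_iff _ hsz).mp h'
    rwa [mul_inv_rev, inv_eq_of_mul_eq_one_right hr2, inv_eq_of_mul_eq_one_right (K.sq H), ← hry.symm.eq]
      at this

theorem Ctx.TT_comm (H : Hyp z Q χ) (K : Ctx z Q u h x c) {r s : G} (hr : r ∈ TT z (x * c))
    (hs : s ∈ TT z (x * c)) : Commute r s := by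
  have h1 := K.cent_sq H (mem_TT.mp hr).1 (mem_TT.mp hr).2
  have h2 := K.cent_sq H (mem_TT.mp hs).1 (mem_TT.mp hs).2
  have h3 := K.cent_sq H (mem_TT.mp (mul_mem hr hs)).1 (mem_TT.mp (mul_mem hr hs)).2
  show r * s = s * r
  calc r * s = (r * s)⁻¹ := (inv_eq_of_mul_eq_one_right h3).symm
    _ = s * r := by rw [mul_inv_rev, inv_eq_of_mul_eq_one_right h1, inv_eq_of_mul_eq_one_right h2]

theorem Two.TT_conj_mem (W : Two z Q χ) (K : Ctx z Q u h x c) {r : G} (hr : r ∈ TT z (x * c))
    (hc : IsConj z r) : InE z u r := by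
  obtain ⟨hrz, hry⟩ := mem_TT.mp hr
  refine K.cent_Q W.toHyp ?_ hry.symm
  by_contra hQ
  obtain ⟨k, -, hk⟩ := W.toHyp.invol_conj K hrz (K.cent_sq W.toHyp hrz hry) hQ
  exact W.nconj K (hc.trans (isConj_iff.mpr ⟨k, hk⟩).symm)

theorem Two.TT_u (W : Two z Q χ) (K : Ctx z Q u h x c) :
    TT u (x * c) = TT z (x * c) ∧ TT (u * z) (x * c) = TT z (x * c) := by
  have H := W.toHyp
  have aux : ∀ v, IsConj z v → InE z u v → TT v (x * c) = TT z (x * c) := by
    intro v hv hE
    refine (Subgroup.eq_of_le_of_card_ge (fun r hr => ?_) ?_).symm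
    · obtain ⟨hrz, hry⟩ := mem_TT.mp hr
      exact mem_TT.mpr ⟨K.pair.inE_comm hE hrz (K.cent_u H hrz hry), hry⟩
    · rw [K.card_TT H, (W.card_TT hv (K.sq H) (K.ne_one H) (W.nconj K)
        (K.pair.inE_comm hE (K.comm_z H) (K.comm_u H))).1]
  exact ⟨aux u (H.sat_isConj K.pair.sat) (Or.inr (Or.inr (Or.inl rfl))),
    aux (u * z) (H.sat_isConj (H.sat_mul_z K.pair.sat)) (Or.inr (Or.inr (Or.inr rfl)))⟩

/-- An element of `C(xc)` normalising `{z, u, uz}` in pairs fixes one of them. -/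
theorem Two.isSylow_TT (W : Two z Q χ) (K : Ctx z Q u h x c) :
    ∃ S : Sylow 2 (Subgroup.centralizer ({x * c} : Set G)),
      (S : Subgroup (Subgroup.centralizer ({x * c} : Set G))) =
        (TT z (x * c)).subgroupOf (Subgroup.centralizer ({x * c} : Set G)) := by
  classical
  haveI : Fact (Nat.Prime 2) := ⟨Nat.prime_two⟩
  have H := W.toHyp
  have P := K.pair
  set X := Subgroup.centralizer ({x * c} : Set G)
  set T := TT z (x * c)
  have hTX : T ≤ X := inf_le_right
  have hTp : IsPGroup 2 T := IsPGroup.of_card (n := 4) (by rw [K.card_TT H]; norm_num)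
  obtain ⟨S, hS⟩ := (hTp.comap_of_injective X.subtype Subtype.val_injective :
    IsPGroup 2 (T.subgroupOf X)).exists_le_sylow
  refine ⟨S, ?_⟩
  by_contra hne
  have hlt : (T.subgroupOf X).subgroupOf (S : Subgroup X) < ⊤ := lt_top_iff_ne_top.mpr fun e =>
    hne (le_antisymm (Subgroup.subgroupOf_eq_top.mp e) hS)
  haveI : Group.IsNilpotent (S : Subgroup X) := S.2.isNilpotent
  obtain ⟨⟨g, hg⟩, hgn, hgT⟩ :=
    SetLike.exists_of_lt (Group.normalizerCondition_of_isNilpotent _ hlt)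
  rw [Subgroup.mem_subgroupOf, Subgroup.mem_subgroupOf] at hgT
  change (g : G) ∉ T at hgT
  have hnorm : ∀ w ∈ T, (g : G) * w * (g : G)⁻¹ ∈ T := fun w hw => by
    have hwS : (⟨w, hTX hw⟩ : X) ∈ (S : Subgroup X) := hS hw
    exact (Subgroup.mem_normalizer_iff.mp hgn ⟨⟨w, hTX hw⟩, hwS⟩).mp hw
  obtain ⟨k, hk⟩ := S.2 ⟨g, hg⟩
  have hk' : (g : G) ^ 2 ^ k = 1 := by
    have := congrArg (fun a : (S : Subgroup X) => ((a : X) : G)) hk
    simpa using this
  -- an element of order two modulo `T`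
  have hex : ∃ j, (g : G) ^ 2 ^ j ∈ T := ⟨k, by rw [hk']; exact one_mem T⟩
  have hj0 : Nat.find hex ≠ 0 := fun e => hgT (by
    have := Nat.find_spec hex
    rwa [e, pow_zero, pow_one] at this)
  obtain ⟨i, hi⟩ := Nat.exists_eq_succ_of_ne_zero hj0
  set g0 := (g : G) ^ 2 ^ i
  have hg0T : g0 ∉ T := Nat.find_min hex (by omega)
  have hg02 : g0 * g0 ∈ T := by
    have := Nat.find_spec hex
    rwa [hi, pow_succ, pow_mul, pow_two] at this
  have hg0y : Commute g0 (x * c) := Commute.pow_left (show Commute (g : G) (x * c) from Subgroup.mem_centralizer_singleton_iff.mp g.2) _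
  have hg0n : ∀ w ∈ T, g0 * w * g0⁻¹ ∈ T := by
    intro w hw
    have : ∀ n : ℕ, (g : G) ^ n * w * ((g : G) ^ n)⁻¹ ∈ T := by
      intro n
      induction n with
      | zero => simpa using hw
      | succ n ih =>
        rw [pow_succ', show (g : G) * (g : G) ^ n * w * ((g : G) * (g : G) ^ n)⁻¹ =
          g * ((g : G) ^ n * w * ((g : G) ^ n)⁻¹) * (g : G)⁻¹ by group]
        exact hnorm _ ih
    exact this _
  obtain ⟨e1, e2⟩ := W.TT_u K
  have hfix : ∀ v, TT v (x * c) = T → g0 * v * g0⁻¹ = v → False := fun v hv he =>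
    hg0T (hv ▸ mem_TT.mpr ⟨mul_inv_eq_iff_eq_mul.mp he, hg0y⟩)
  have hsqz : g0 * (g0 * z * g0⁻¹) * g0⁻¹ = z := by
    rw [show g0 * (g0 * z * g0⁻¹) * g0⁻¹ = (g0 * g0) * z * (g0 * g0)⁻¹ by group,
      (mem_TT.mp hg02).1.eq, mul_inv_cancel_right]
  rcases W.TT_conj_mem K (hg0n z (K.mem_TT_of_inE H (Or.inr (Or.inl rfl))))
      (isConj_iff.mpr ⟨g0, rfl⟩) with e | e | e | e
  · exact H.z_ne (conj_eq_one_iff.mp e)
  · exact hfix z rfl e
  · rw [e] at hsqz
    refine hfix (u * z) e2 ?_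
    rw [show g0 * (u * z) * g0⁻¹ = (g0 * u * g0⁻¹) * (g0 * z * g0⁻¹) by group, hsqz, e,
      (P.u_comm H).eq]
  · refine hfix u e1 ?_
    rw [e] at hsqz
    rw [show g0 * (u * z) * g0⁻¹ = (g0 * u * g0⁻¹) * (g0 * z * g0⁻¹) by group, e] at hsqz
    have huz2 := (H.sat_mul_z P.sat).2.1
    calc g0 * u * g0⁻¹ = g0 * u * g0⁻¹ * (u * z) * (u * z) := by
          rw [mul_assoc (g0 * u * g0⁻¹), huz2, mul_one]
      _ = z * (u * z) := by rw [hsqz]
      _ = u := by rw [← mul_assoc, ← (P.u_comm H).eq, mul_assoc, H.zz, mul_one]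

/-- The normal subgroup of index four of `C(xc)`. -/
structure Kernel (z u y : G) (X0 : Subgroup G) : Prop where
  le : X0 ≤ Subgroup.centralizer ({y} : Set G)
  inter : ∀ r ∈ TT z y, (r ∈ X0 ↔ InE z u r)
  card : Nat.card (Subgroup.centralizer ({y} : Set G)) = 4 * Nat.card X0
  normal : ∀ g, Commute g y → ∀ k ∈ X0, g * k * g⁻¹ ∈ X0
  prod : ∀ g, Commute g y → ∃ t ∈ TT z y, t⁻¹ * g ∈ X0
  dichotomy : Nat.card X0 = 12 ∨ Nat.card X0 = 60

theorem Two.exists_kernel (W : Two z Q χ) (K : Ctx z Q u h x c) :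
    ∃ X0, Kernel z u (x * c) X0 := by
  classical
  haveI : Fact (Nat.Prime 2) := ⟨Nat.prime_two⟩
  have H := W.toHyp
  have P := K.pair
  obtain ⟨n, hny, hnz, hnu⟩ := W.exists_cycle K
  set X := Subgroup.centralizer ({x * c} : Set G)
  set T := TT z (x * c) with hT
  obtain ⟨S, hS⟩ : ∃ S : Sylow 2 X, (S : Subgroup X) = T.subgroupOf X := W.isSylow_TT K
  have hTX : T ≤ X := inf_le_right
  have hmemX : ∀ {g : G}, g ∈ X ↔ Commute g (x * c) := Subgroup.mem_centralizer_singleton_iff
  have hzT : z ∈ T := K.mem_TT_of_inE H (Or.inr (Or.inl rfl))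
  have huz2 := (H.sat_mul_z P.sat).2.1
  have hnuz : n * (u * z) * n⁻¹ = z := by
    rw [show n * (u * z) * n⁻¹ = (n * u * n⁻¹) * (n * z * n⁻¹) by group, hnz, hnu,
      (P.u_comm H).eq, mul_assoc, P.uu, mul_one]
  have hn3z : Commute (n * n * n) z := by
    refine mul_inv_eq_iff_eq_mul.mp ?_
    rw [show n * n * n * z * (n * n * n)⁻¹ = n * (n * (n * z * n⁻¹) * n⁻¹) * n⁻¹ by group, hnz, hnu, hnuz]
  have hn3 : n * n * n ∈ T := mem_TT.mpr ⟨hn3z, (hny.mul_left hny).mul_left hny⟩
  have hnT : ∀ r ∈ T, n * r * n⁻¹ ∈ T := by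
    intro r hr
    have hm := TT_map n z (x * c)
    rw [hnz, hny.eq, mul_inv_cancel_right, (W.TT_u K).1] at hm
    rw [hT, hm]
    exact ⟨r, hr, rfl⟩
  have hn3fix : ∀ r ∈ T, n * (n * (n * r * n⁻¹) * n⁻¹) * n⁻¹ = r := fun r hr => by
    rw [show n * (n * (n * r * n⁻¹) * n⁻¹) * n⁻¹ = n * n * n * r * (n * n * n)⁻¹ by group,
      (K.TT_comm H hn3 hr).eq, mul_inv_cancel_right]
  have hnE : ∀ {g : G}, InE z u g → InE z u (n * g * n⁻¹) := by
    intro g hg
    rcases hg with rfl | rfl | rfl | rfl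
    · left; group
    · right; right; left; exact hnz
    · right; right; right; exact hnu
    · right; left; exact hnuz
  -- `n` centralises `T / E`
  have hmod : ∀ r ∈ T, InE z u (r * (n * r * n⁻¹)) := by
    intro r hr
    have hsT := hnT r hr
    have hr2 := K.cent_sq H (mem_TT.mp hr).1 (mem_TT.mp hr).2
    by_cases hrE : InE z u r
    · exact P.inE_mul H hrE (hnE hrE)
    have hry : n * (x * c) * n⁻¹ = x * c := by rw [hny.eq, mul_inv_cancel_right]
    by_cases hyr : InE z u (x * c * r)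
    · have hcm := K.TT_comm H hr (mem_TT.mpr ⟨K.comm_z H, Commute.refl _⟩)
      rw [show r * (n * r * n⁻¹) = (x * c * r) * (n * (x * c * r) * n⁻¹) by
        rw [show n * (x * c * r) * n⁻¹ = (n * (x * c) * n⁻¹) * (n * r * n⁻¹) by group, hry,
          show x * c * r * (x * c * (n * r * n⁻¹)) = x * c * (r * (x * c)) * (n * r * n⁻¹) by group,
          hcm.eq, ← mul_assoc (x * c) (x * c), K.sq H, one_mul]]
      exact P.inE_mul H hyr (hnE hyr)
    rcases K.TT_cosets H hr hsT hrE hyr with e | e | e | e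
    · exfalso
      have := hnE (hnE e)
      rw [hn3fix r hr] at this
      exact hrE this
    · exfalso
      have he := hnE (hnE e)
      rw [show n * (n * (x * c * (n * r * n⁻¹)) * n⁻¹) * n⁻¹ =
        (n * (n * (x * c) * n⁻¹) * n⁻¹) * (n * (n * (n * r * n⁻¹) * n⁻¹) * n⁻¹) by group,
        hry, hry, hn3fix r hr] at he
      exact hyr he
    · exact e
    · exfalso
      -- `n³` would not fix `r`
      set e0 := x * c * r * (n * r * n⁻¹)
      have h1 : InE z u (n * e0 * n⁻¹) := hnE e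
      have h2 : InE z u (n * (n * e0 * n⁻¹) * n⁻¹) := hnE h1
      have h3 := P.inE_mul H (P.inE_mul H e h1) h2
      have hA := mem_TT.mpr (show Commute (x * c) z ∧ Commute (x * c) (x * c) from
        ⟨K.comm_z H, Commute.refl _⟩)
      have hc1 := K.TT_comm H hA hr
      have hc2 := K.TT_comm H hA hsT
      set s := n * r * n⁻¹
      have hs2T := hnT s hsT
      have hc3 := K.TT_comm H hA hs2T
      set s2 := n * s * n⁻¹
      have hn1 : n * e0 * n⁻¹ = x * c * s * s2 := by
        simp only [e0, s2, s]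
        rw [show n * (x * c * r * (n * r * n⁻¹)) * n⁻¹ =
          (n * (x * c) * n⁻¹) * (n * r * n⁻¹) * (n * (n * r * n⁻¹) * n⁻¹) by group, hry]
      have hn2 : n * (n * e0 * n⁻¹) * n⁻¹ = x * c * s2 * r := by
        rw [hn1, show n * (x * c * s * s2) * n⁻¹ =
          (n * (x * c) * n⁻¹) * (n * s * n⁻¹) * (n * s2 * n⁻¹) by group, hry]
        congr 1
        exact hn3fix r hr
      rw [hn2, hn1] at h3
      have hs2 := K.cent_sq H (mem_TT.mp hsT).1 (mem_TT.mp hsT).2
      have hs22 := K.cent_sq H (mem_TT.mp hs2T).1 (mem_TT.mp hs2T).2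
      have hfin : e0 * (x * c * s * s2) * (x * c * s2 * r) = x * c := by
        calc x * c * r * s * (x * c * s * s2) * (x * c * s2 * r)
            = x * c * r * (s * (x * c) * s) * (s2 * (x * c) * s2) * r := by group
          _ = x * c * r * (x * c * (s * s)) * (x * c * (s2 * s2)) * r := by
              rw [← hc2.eq, ← hc3.eq]; group
          _ = x * c * r * ((x * c) * (x * c)) * r := by rw [hs2, hs22]; group
          _ = x * c := by rw [K.sq H, mul_one, mul_assoc, hr2, mul_one]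
      rw [hfin] at h3
      exact K.not_mem H (mem_AA.mp (P.inE_mem_A H h3)).1
  -- `T ∩ X' = E`
  have hSmem : ∀ r : X, r ∈ (S : Subgroup X) ↔ (r : G) ∈ T := fun r => by rw [hS]; rfl
  have hab : IsMulCommutative ↥(S : Subgroup X) :=
    ⟨⟨fun a b => Subtype.ext (Subtype.ext
      (K.TT_comm H ((hSmem _).mp a.2) ((hSmem _).mp b.2)).eq)⟩⟩
  set nX : X := ⟨n, hmemX.mpr hny⟩
  have hcomm : ∀ w : X, (⁅nX, w⁆ : X) ∈ commutator X := fun w => by
    rw [commutator_def]
    exact Subgroup.commutator_mem_commutator (Subgroup.mem_top _) (Subgroup.mem_top _)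
  have hE_mem : ∀ g : X, InE z u (g : G) → g ∈ commutator X := by
    have e1 : (⟨u * z, hTX (K.mem_TT_of_inE H (Or.inr (Or.inr (Or.inr rfl))))⟩ : X) ∈ commutator X := by
      convert hcomm ⟨z, hTX hzT⟩ using 1
      refine Subtype.ext ?_
      show u * z = n * z * n⁻¹ * z⁻¹
      rw [hnz, inv_eq_of_mul_eq_one_right H.zz]
    have e2 : (⟨z, hTX hzT⟩ : X) ∈ commutator X := by
      convert hcomm ⟨u, hTX (K.mem_TT_of_inE H (Or.inr (Or.inr (Or.inl rfl))))⟩ using 1
      refine Subtype.ext ?_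
      show z = n * u * n⁻¹ * u⁻¹
      rw [hnu, inv_eq_of_mul_eq_one_right P.uu, (P.u_comm H).eq, mul_assoc, P.uu, mul_one]
    intro g hg
    rcases hg with e | e | e | e
    · rw [show g = 1 from Subtype.ext e]; exact one_mem _
    · rwa [show g = ⟨z, hTX hzT⟩ from Subtype.ext e]
    · convert mul_mem e1 e2 using 1
      refine Subtype.ext ?_
      show (g : G) = u * z * z
      rw [e, mul_assoc, H.zz, mul_one]
    · rwa [show g = ⟨u * z, hTX (K.mem_TT_of_inE H (Or.inr (Or.inr (Or.inr rfl))))⟩ from Subtype.ext e]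
  have hXE : ∀ r : X, (r : G) ∈ T → r ∈ commutator X → InE z u (r : G) := by
    intro r hrT hr'
    have hsT := hnT _ hrT
    have hs2T := hnT _ hsT
    have hp : (r : G) * (n * r * n⁻¹) * (n * (n * r * n⁻¹) * n⁻¹) ∈ T := mul_mem (mul_mem hrT hsT) hs2T
    set p : X := r * (nX * r * nX⁻¹) * (nX * (nX * r * nX⁻¹) * nX⁻¹)
    have hp' : p ∈ commutator X := by
      have hn := (inferInstance : (commutator X).Normal)
      exact mul_mem (mul_mem hr' (hn.conj_mem _ hr' nX)) (hn.conj_mem _ (hn.conj_mem _ hr' nX) nX)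
    have hnp : n * (p : G) * n⁻¹ = (p : G) := by
      show n * ((r : G) * (n * r * n⁻¹) * (n * (n * r * n⁻¹) * n⁻¹)) * n⁻¹ =
        (r : G) * (n * r * n⁻¹) * (n * (n * r * n⁻¹) * n⁻¹)
      rw [show n * ((r : G) * (n * r * n⁻¹) * (n * (n * r * n⁻¹) * n⁻¹)) * n⁻¹ =
        (n * r * n⁻¹) * (n * (n * r * n⁻¹) * n⁻¹) * (n * (n * (n * r * n⁻¹) * n⁻¹) * n⁻¹) by group,
        hn3fix _ hrT, mul_assoc ((r : G)), ← (K.TT_comm H hrT (mul_mem hsT hs2T)).eq]
    have hp1 : p = 1 := by
      refine H70.eq_one_of_mem_commutator_of_fixed S hab ((hSmem p).mpr hp) hp' fun g hg => ?_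
      have hgT : ∀ w ∈ T, (g : G) * w * (g : G)⁻¹ ∈ T := fun w hw =>
        (hSmem _).mp ((Subgroup.mem_normalizer_iff.mp hg ⟨w, hTX hw⟩).mp ((hSmem _).mpr hw))
      have hgy : Commute (g : G) (x * c) := hmemX.mp g.2
      refine Subtype.ext ?_
      show (g : G) * (p : G) * (g : G)⁻¹ = (p : G)
      have hfixT : ∀ w ∈ T, w * (p : G) * w⁻¹ = (p : G) := fun w hw => by
        rw [(K.TT_comm H hw (show (p : G) ∈ T from hp)).eq, mul_inv_cancel_right]
      have hni : n⁻¹ * (p : G) * n = (p : G) := by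
        conv_lhs => rw [← hnp]
        group
      rcases W.TT_conj_mem K (hgT z hzT) (isConj_iff.mpr ⟨_, rfl⟩) with e | e | e | e
      · exact absurd (conj_eq_one_iff.mp e) H.z_ne
      · exact hfixT _ (mem_TT.mpr ⟨mul_inv_eq_iff_eq_mul.mp e, hgy⟩)
      · have h1 := hfixT (n⁻¹ * g) (mem_TT.mpr ⟨mul_inv_eq_iff_eq_mul.mp (by
          rw [show n⁻¹ * (g : G) * z * (n⁻¹ * g)⁻¹ = n⁻¹ * ((g : G) * z * (g : G)⁻¹) * n by group, e]
          conv_lhs => rw [← hnz]
          group), hny.inv_left.mul_left hgy⟩)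
        calc (g : G) * (p : G) * (g : G)⁻¹ = n * (n⁻¹ * g * (p : G) * (n⁻¹ * g)⁻¹) * n⁻¹ := by group
          _ = (p : G) := by rw [h1, hnp]
      · have h1 := hfixT (n * g) (mem_TT.mpr ⟨mul_inv_eq_iff_eq_mul.mp (by
          rw [show n * (g : G) * z * (n * g)⁻¹ = n * ((g : G) * z * (g : G)⁻¹) * n⁻¹ by group, e, hnuz]),
          hny.mul_left hgy⟩)
        calc (g : G) * (p : G) * (g : G)⁻¹ = n⁻¹ * (n * g * (p : G) * (n * g)⁻¹) * n := by group
          _ = (p : G) := by rw [h1, hni]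
    have hr2 := K.cent_sq H (mem_TT.mp hrT).1 (mem_TT.mp hrT).2
    have h3 : (r : G) * (n * r * n⁻¹) * (n * (n * r * n⁻¹) * n⁻¹) = 1 := congrArg Subtype.val hp1
    have h4 : InE z u (n * (n * (r : G) * n⁻¹) * n⁻¹) := by
      have := hmod r hrT
      rwa [eq_inv_of_mul_eq_one_right h3, P.inE_inv H this]
    have := hnE h4
    rwa [hn3fix _ hrT] at this
  -- the homomorphism
  have hm : Odd (S : Subgroup X).index := by
    rw [Nat.odd_iff, ← Nat.two_dvd_ne_zero]; exact S.not_dvd_index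
  set m := (S : Subgroup X).index with hmdef
  let φ : X →* Abelianization X := (powMonoidHom m).comp Abelianization.of
  have hScard : Nat.card (S : Subgroup X) = 16 := by
    rw [hS, Nat.card_congr (Subgroup.subgroupOfEquivOfLe hTX).toEquiv, K.card_TT H]
  have hφ : ∀ g, φ g = Abelianization.of (g ^ m) := fun g => (map_pow _ g m).symm
  have hTpow : ∀ r : X, (r : G) ∈ T → r ^ m = r := by
    intro r hr
    obtain ⟨j, hj⟩ := hm
    refine Subtype.ext ?_
    rw [SubgroupClass.coe_pow, hj, pow_succ, pow_mul, pow_two,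
      K.cent_sq H (mem_TT.mp hr).1 (mem_TT.mp hr).2, one_pow, one_mul]
  have hker : ∀ r : X, (r : G) ∈ T → (φ r = 1 ↔ InE z u (r : G)) := by
    intro r hr
    rw [hφ, hTpow r hr]
    constructor
    · exact fun e => hXE r hr ((QuotientGroup.eq_one_iff r).mp e)
    · exact fun e => (QuotientGroup.eq_one_iff r).mpr (hE_mem r e)
  set X0' := φ.ker
  have hrange : ∀ g, ∃ t : X, (t : G) ∈ T ∧ φ t = φ g := by
    intro g
    have hcard : Nat.card X = 16 * m := by rw [← hScard, hmdef, Subgroup.card_mul_index]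
    have hgp : IsPGroup 2 (Subgroup.zpowers (g ^ m)) := by
      rintro ⟨_, i, rfl⟩
      refine ⟨4, Subtype.ext ?_⟩
      show ((g ^ m) ^ i) ^ 2 ^ 4 = 1
      rw [← zpow_natCast, ← zpow_mul, mul_comm, zpow_mul, zpow_natCast, ← pow_mul,
        show m * 2 ^ 4 = Nat.card X by rw [hcard]; ring, pow_card_eq_one', one_zpow]
    obtain ⟨S', hS'⟩ := hgp.exists_le_sylow
    obtain ⟨k, hk⟩ := MulAction.exists_smul_eq X S' S
    have htS : k * g ^ m * k⁻¹ ∈ (S : Subgroup X) := by
      rw [← hk, Sylow.coe_subgroup_smul]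
      exact ⟨g ^ m, hS' (Subgroup.mem_zpowers _), rfl⟩
    have hcop : Nat.Coprime m 16 := by
      rw [show (16 : ℕ) = 2 ^ 4 by norm_num]
      exact (Nat.coprime_two_right.mpr hm).pow_right 4
    obtain ⟨l, hl⟩ := Nat.exists_mul_mod_eq_one_of_coprime hcop (by norm_num)
    refine ⟨(k * g ^ m * k⁻¹) ^ l, T.pow_mem ((hSmem _).mp htS) l, ?_⟩
    have h16 : φ g ^ 16 = 1 := by
      rw [hφ, ← map_pow, ← pow_mul, show m * 16 = Nat.card X by rw [hcard]; ring, pow_card_eq_one', map_one]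
    rw [map_pow, map_mul, map_mul, map_inv, mul_right_comm, mul_inv_cancel, one_mul, map_pow, ← pow_mul,
      ← Nat.mod_add_div (m * l) 16, hl.2, pow_add, pow_one, pow_mul, h16, one_pow, mul_one]
  set X0 := X0'.map X.subtype with hX0
  have hmem0 : ∀ {g : G} (hg : g ∈ X), g ∈ X0 ↔ φ ⟨g, hg⟩ = 1 := by
    intro g hg
    constructor
    · rintro ⟨g', hg', rfl⟩; exact hg'
    · exact fun e => ⟨⟨g, hg⟩, e, rfl⟩
  have hle : X0 ≤ X := Subgroup.map_subtype_le _
  have hinter : ∀ r ∈ T, (r ∈ X0 ↔ InE z u r) := fun r hr => by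
    rw [hmem0 (hTX hr)]; exact hker ⟨r, hTX hr⟩ hr
  have hnormal : ∀ g, Commute g (x * c) → ∀ k ∈ X0, g * k * g⁻¹ ∈ X0 := by
    rintro g hg _ ⟨k, hk, rfl⟩
    exact ⟨⟨g, hmemX.mpr hg⟩ * k * ⟨g, hmemX.mpr hg⟩⁻¹,
      (inferInstance : φ.ker.Normal).conj_mem k hk _, rfl⟩
  have hprod : ∀ g, Commute g (x * c) → ∃ t ∈ T, t⁻¹ * g ∈ X0 := by
    intro g hg
    obtain ⟨t, ht, e⟩ := hrange ⟨g, hmemX.mpr hg⟩
    refine ⟨t, ht, ⟨t⁻¹ * ⟨g, hmemX.mpr hg⟩, ?_, rfl⟩⟩
    rw [SetLike.mem_coe, MonoidHom.mem_ker, map_mul, map_inv, e, inv_mul_cancel]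
  have hcard4 : Nat.card X = 4 * Nat.card X0 := by
    have hK : Nat.card X0 = Nat.card φ.ker :=
      (Nat.card_congr (φ.ker.equivMapOfInjective X.subtype Subtype.val_injective).toEquiv).symm
    let ψ : T →* Abelianization X := φ.comp (Subgroup.inclusion hTX)
    have hψ : ψ.range = φ.range := by
      refine le_antisymm ?_ ?_
      · rintro _ ⟨t, rfl⟩; exact ⟨_, rfl⟩
      · rintro _ ⟨g, rfl⟩
        obtain ⟨t, ht, e⟩ := hrange g
        exact ⟨⟨t, ht⟩, by rw [← e]; rfl⟩
    have hψk : Nat.card ψ.ker = 4 := by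
      have hc' : Nat.card ψ.ker = Nat.card {g : G // InE z u g} := Nat.card_congr
        { toFun := fun t => ⟨((t : T) : G), (hker ⟨_, hTX (t : T).2⟩ (t : T).2).mp t.2⟩
          invFun := fun g => ⟨⟨g.1, K.mem_TT_of_inE H g.2⟩,
            (hker ⟨g.1, hTX (K.mem_TT_of_inE H g.2)⟩ (K.mem_TT_of_inE H g.2)).mpr g.2⟩
          left_inv := fun t => rfl
          right_inv := fun t => rfl }
      haveI := Fintype.ofFinite G
      rw [hc', Nat.card_eq_fintype_card, Fintype.card_subtype,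
        show (Finset.univ.filter fun g => InE z u g) = {1, z, u, u * z} by
          ext g
          rw [Finset.mem_filter]
          simp [InE],
        Finset.card_insert_of_notMem, Finset.card_insert_of_notMem, Finset.card_insert_of_notMem,
        Finset.card_singleton]
      · simp only [Finset.mem_singleton]; exact fun e => H.z_ne (mul_eq_left.mp e.symm)
      · simp only [Finset.mem_insert, Finset.mem_singleton, not_or]
        exact ⟨P.u_ne.symm, P.uz_ne_z.symm⟩
      · simp only [Finset.mem_insert, Finset.mem_singleton, not_or]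
        exact ⟨H.z_ne.symm, P.u_ne_one.symm, (P.uz_ne_one H).symm⟩
    have h1 := Subgroup.card_mul_index ψ.ker
    have h2 := Subgroup.card_mul_index φ.ker
    rw [Subgroup.index_ker, hψk, hψ, K.card_TT H] at h1
    rw [Subgroup.index_ker, ← hK] at h2
    rw [← h2, show Nat.card φ.range = 4 by omega, mul_comm]
  -- `n²` lies in the kernel
  have hn2 : n * n ∈ X0 := by
    rw [hmem0 (hmemX.mpr (hny.mul_left hny)),
      show (⟨n * n, hmemX.mpr (hny.mul_left hny)⟩ : X) = nX * nX from rfl, map_mul]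
    obtain ⟨t, ht, e⟩ := hrange nX
    rw [← e, ← map_mul, show t * t = 1 from Subtype.ext (K.cent_sq H (mem_TT.mp ht).1 (mem_TT.mp ht).2),
      map_one]
  -- self-centralising four-group of the kernel
  set V : Subgroup X0 := T.subgroupOf X0 with hV
  have hVmem : ∀ r : X0, r ∈ V ↔ InE z u (r : G) := fun r =>
    ⟨fun hr => (hinter _ hr).mp r.2, fun hr => K.mem_TT_of_inE H hr⟩
  have hEX0 : ∀ {g : G}, InE z u g → g ∈ X0 := fun hg => (hinter _ (K.mem_TT_of_inE H hg)).mpr hg
  set z0 : X0 := ⟨z, hEX0 (Or.inr (Or.inl rfl))⟩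
  set u0 : X0 := ⟨u, hEX0 (Or.inr (Or.inr (Or.inl rfl)))⟩
  set m0 : X0 := ⟨n * n, hn2⟩
  have hmz : m0 * z0 * m0⁻¹ = u0 * z0 := Subtype.ext (by
    show n * n * z * (n * n)⁻¹ = u * z
    rw [show n * n * z * (n * n)⁻¹ = n * (n * z * n⁻¹) * n⁻¹ by group, hnz, hnu])
  have hmuz : m0 * (u0 * z0) * m0⁻¹ = u0 := Subtype.ext (by
    show n * n * (u * z) * (n * n)⁻¹ = u
    rw [show n * n * (u * z) * (n * n)⁻¹ = n * (n * (u * z) * n⁻¹) * n⁻¹ by group, hnuz, hnz])
  have hall : ∀ a : X0, a ≠ 1 → InE z u (a : G) → IsConj z0 a := by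
    intro a ha hE
    rcases hE with e | e | e | e
    · exact absurd (Subtype.ext e) ha
    · rw [show a = z0 from Subtype.ext e]
    · rw [show a = u0 from Subtype.ext e]
      exact (isConj_iff.mpr ⟨m0, hmz⟩).trans (isConj_iff.mpr ⟨m0, hmuz⟩)
    · rw [show a = u0 * z0 from Subtype.ext e]
      exact isConj_iff.mpr ⟨m0, hmz⟩
  have hVn : ∀ v : X0, v ∈ V → ∀ {g : X0}, g ∈ Subgroup.normalizer (V : Set X0) → g * v * g⁻¹ ∈ V :=
    fun v hv g hg => (Subgroup.mem_normalizer_iff.mp hg v).mp hv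
  have hV4 : Nat.card V = 4 := by
    have hc' : Nat.card V = Nat.card {g : G // InE z u g} := Nat.card_congr
      { toFun := fun r => ⟨((r : X0) : G), (hVmem _).mp r.2⟩
        invFun := fun g => ⟨⟨g.1, hEX0 g.2⟩, (hVmem _).mpr g.2⟩
        left_inv := fun r => rfl
        right_inv := fun r => rfl }
    haveI := Fintype.ofFinite G
    rw [hc', Nat.card_eq_fintype_card, Fintype.card_subtype,
      show (Finset.univ.filter fun g => InE z u g) = {1, z, u, u * z} by
        ext g
        rw [Finset.mem_filter]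
        simp [InE],
      Finset.card_insert_of_notMem, Finset.card_insert_of_notMem, Finset.card_insert_of_notMem,
      Finset.card_singleton]
    · simp only [Finset.mem_singleton]; exact fun e => H.z_ne (mul_eq_left.mp e.symm)
    · simp only [Finset.mem_insert, Finset.mem_singleton, not_or]
      exact ⟨P.u_ne.symm, P.uz_ne_z.symm⟩
    · simp only [Finset.mem_insert, Finset.mem_singleton, not_or]
      exact ⟨H.z_ne.symm, P.u_ne_one.symm, (P.uz_ne_one H).symm⟩
  have hcent : ∀ v ∈ V, v ≠ 1 → Subgroup.centralizer ({v} : Set X0) = V := by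
    intro v hv hv1
    ext r
    rw [Subgroup.mem_centralizer_singleton_iff, hVmem]
    constructor
    · intro hc
      have hc' : Commute (r : G) (v : G) := congrArg Subtype.val hc
      have hr' : (r : G) ∈ TT (v : G) (x * c) := mem_TT.mpr ⟨hc', hmemX.mp (hle r.2)⟩
      rcases (hVmem v).mp hv with e | e | e | e
      · exact absurd (Subtype.ext e) hv1
      · rw [e] at hr'; exact (hinter _ hr').mp r.2
      · rw [e, (W.TT_u K).1] at hr'; exact (hinter _ hr').mp r.2
      · rw [e, (W.TT_u K).2] at hr'; exact (hinter _ hr').mp r.2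
    · intro hr
      exact Subtype.ext
        (K.TT_comm H (K.mem_TT_of_inE H hr) (K.mem_TT_of_inE H ((hVmem v).mp hv))).eq
  have hconj : ∀ t : X0, orderOf t = 2 → ∀ a ∈ V, a ≠ 1 → IsConj a t := by
    intro t ht a ha ha1
    have ht2 : t * t = 1 := by rw [← pow_two, ← ht, pow_orderOf_eq_one]
    have htp : IsPGroup 2 (Subgroup.zpowers (Subgroup.inclusion hle t)) := by
      refine IsPGroup.of_card (n := 1) ?_
      rw [Nat.card_zpowers, orderOf_injective (Subgroup.inclusion hle) (Subgroup.inclusion_injective hle),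
        ht, pow_one]
    obtain ⟨S', hS'⟩ := htp.exists_le_sylow
    obtain ⟨k, hk⟩ := MulAction.exists_smul_eq X S' S
    have htS : k * Subgroup.inclusion hle t * k⁻¹ ∈ (S : Subgroup X) := by
      rw [← hk, Sylow.coe_subgroup_smul]
      exact ⟨_, hS' (Subgroup.mem_zpowers _), rfl⟩
    have htT : (k : G) * (t : G) * (k : G)⁻¹ ∈ T := (hSmem _).mp htS
    obtain ⟨s, hs, hsk⟩ := hprod k (hmemX.mp k.2)
    set w : X0 := ⟨s⁻¹ * (k : G), hsk⟩
    have hw : (w * t * w⁻¹ : X0) ∈ V := by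
      show ((w * t * w⁻¹ : X0) : G) ∈ T
      have : ((w * t * w⁻¹ : X0) : G) = s⁻¹ * ((k : G) * (t : G) * (k : G)⁻¹) * s := by
        simp [w]; group
      rw [this]
      exact mul_mem (mul_mem (inv_mem hs) htT) hs
    have h1 : w * t * w⁻¹ ≠ 1 := fun e => by
      rw [conj_eq_one_iff] at e
      rw [e, orderOf_one] at ht
      omega
    exact ((hall a ha1 ((hVmem a).mp ha)).symm.trans (hall _ h1 ((hVmem _).mp hw))).trans
      (isConj_iff.mpr ⟨w⁻¹, by group⟩)
  have hnorm12 : Nat.card (Subgroup.normalizer (V : Set X0)) = 12 := by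
    set N := Subgroup.normalizer (V : Set X0)
    have hzV : z0 ∈ V := (hVmem z0).mpr (Or.inr (Or.inl rfl))
    have hmN : m0 ∈ N := by
      rw [Subgroup.mem_normalizer_iff]
      have h1 : ∀ r : X0, InE z u (r : G) → InE z u ((m0 * r * m0⁻¹ : X0) : G) := fun r hr => by
        have e := hnE (hnE hr)
        have e' : ((m0 * r * m0⁻¹ : X0) : G) = n * (n * (r : G) * n⁻¹) * n⁻¹ := by simp [m0]; group
        rw [e']; exact e
      intro r
      rw [hVmem, hVmem]
      refine ⟨h1 r, fun hr => ?_⟩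
      have := h1 _ (h1 _ hr)
      rwa [show m0 * (m0 * (m0 * r * m0⁻¹) * m0⁻¹) * m0⁻¹ = r from Subtype.ext (by
        show n * n * (n * n * (n * n * (r : G) * (n * n)⁻¹) * (n * n)⁻¹) * (n * n)⁻¹ = r
        rw [show n * n * (n * n * (n * n * (r : G) * (n * n)⁻¹) * (n * n)⁻¹) * (n * n)⁻¹ =
          (n * n * n) * ((n * n * n) * r * (n * n * n)⁻¹) * (n * n * n)⁻¹ by group]
        have hrT : (r : G) ∈ T := by
          have := K.mem_TT_of_inE H hr
          have h5 : (r : G) = (n * n)⁻¹ * ((m0 * r * m0⁻¹ : X0) : G) * (n * n) := by simp [m0]; group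
          rw [h5]
          have h6 : ∀ w ∈ T, n⁻¹ * w * n ∈ T := fun w hw => by
            have h7 := hn3fix w hw
            have : n⁻¹ * w * n = n * (n * w * n⁻¹) * n⁻¹ := by
              conv_lhs => rw [← h7]
              group
            rw [this]; exact hnT _ (hnT _ hw)
          have := h6 _ (h6 _ (K.mem_TT_of_inE H hr))
          rwa [show (n * n)⁻¹ * ((m0 * r * m0⁻¹ : X0) : G) * (n * n) =
            n⁻¹ * (n⁻¹ * ((m0 * r * m0⁻¹ : X0) : G) * n) * n by group]
        rw [(K.TT_comm H hn3 hrT).eq, mul_inv_cancel_right, (K.TT_comm H hn3 hrT).eq, mul_inv_cancel_right])]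
        at this
    have e1 := H65.card_conjugates_mul (G := N) ⟨z0, Subgroup.le_normalizer hzV⟩
    have h3 : Nat.card {w : N // IsConj (⟨z0, Subgroup.le_normalizer hzV⟩ : N) w} = 3 := by
      have hval : Nat.card {w : N // IsConj (⟨z0, Subgroup.le_normalizer hzV⟩ : N) w} =
          Nat.card {r : V // r ≠ 1} := by
        refine Nat.card_congr
          { toFun := fun w => ⟨⟨((w : N) : X0), ?_⟩, ?_⟩
            invFun := fun r => ⟨⟨(r : V), Subgroup.le_normalizer (r : V).2⟩, ?_⟩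
            left_inv := fun w => rfl
            right_inv := fun r => rfl }
        · obtain ⟨g, hg⟩ := isConj_iff.mp w.2
          rw [← hg]
          exact hVn z0 hzV g.2
        · intro e
          obtain ⟨g, hg⟩ := isConj_iff.mp w.2
          have : ((w : N) : X0) = 1 := congrArg Subtype.val e
          rw [← hg] at this
          exact H.z_ne (congrArg Subtype.val (conj_eq_one_iff.mp this))
        · have hr1 : ((r : V) : X0) ≠ 1 := fun e => r.2 (Subtype.ext e)
          rcases (hVmem _).mp (r : V).2 with e | e | e | e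
          · exact absurd (Subtype.ext e) hr1
          · exact isConj_iff.mpr ⟨1, Subtype.ext (Subtype.ext (by simp [z0, e]))⟩
          · refine isConj_iff.mpr ⟨⟨m0, hmN⟩ * ⟨m0, hmN⟩, Subtype.ext ?_⟩
            show m0 * m0 * z0 * (m0 * m0)⁻¹ = ((r : V) : X0)
            rw [show m0 * m0 * z0 * (m0 * m0)⁻¹ = m0 * (m0 * z0 * m0⁻¹) * m0⁻¹ by group, hmz, hmuz]
            exact Subtype.ext e.symm
          · refine isConj_iff.mpr ⟨⟨m0, hmN⟩, Subtype.ext ?_⟩
            show m0 * z0 * m0⁻¹ = ((r : V) : X0)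
            rw [hmz]
            exact Subtype.ext e.symm
      rw [hval]
      haveI := Fintype.ofFinite V
      rw [Nat.card_eq_fintype_card, Fintype.card_subtype_compl, Fintype.card_subtype_eq,
        ← Nat.card_eq_fintype_card, hV4]
    have hc4 : Nat.card (Subgroup.centralizer ({(⟨z0, Subgroup.le_normalizer hzV⟩ : N)} : Set N)) = 4 := by
      rw [← hV4]
      have hz01 : z0 ≠ 1 := fun e => H.z_ne (congrArg Subtype.val e)
      refine Nat.card_congr
        { toFun := fun w => ⟨((w : N) : X0), ?_⟩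
          invFun := fun r => ⟨⟨r, Subgroup.le_normalizer r.2⟩, ?_⟩
          left_inv := fun w => rfl
          right_inv := fun r => rfl }
      · exact (hcent z0 hzV hz01).le (Subgroup.mem_centralizer_singleton_iff.mpr
          (congrArg Subtype.val (Subgroup.mem_centralizer_singleton_iff.mp w.2)))
      · rw [Subgroup.mem_centralizer_singleton_iff]
        refine Subtype.ext ?_
        show (r : X0) * z0 = z0 * (r : X0)
        exact Subgroup.mem_centralizer_singleton_iff.mp ((hcent z0 hzV hz01).ge r.2)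
    rw [h3, hc4] at e1
    exact e1.symm
  have hcfg : H70.SCK.Config V :=
    ⟨hV4, fun v hv => Subtype.ext (by
      rw [SubgroupClass.coe_pow, pow_two]
      exact P.inE_sq H ((hVmem v).mp hv)), hcent, hconj, hnorm12⟩
  exact ⟨X0, hle, hinter, hcard4, hnormal, hprod, H70.SCK.card_eq hcfg⟩

end H36.HJ
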