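import Cfsg.Agent.H36.HJ.Struct
import Cfsg.Agent.H65.Order12

/-!
Groups of Hall–Janko type, part 8: the fours group `F` with `C(xc) = F × X0`, its normaliser, and the
group `D` of order twelve centralising `X0`.
-/

set_option autoImplicit false

namespace H36.HJ

local notation "A5" => alternatingGroup (Fin 5)

variable {G : Type*} [Group G] [Finite G]
variable {z : G} {Q : Subgroup G} {χ : Subgroup.centralizer ({z} : Set G) →* A5}
variable {u h x c : G} {X0 : Subgroup G}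

/-- `F = C_{C(y)}(X0)`. -/
def FF (y : G) (X0 : Subgroup G) : Subgroup G :=
  Subgroup.centralizer ({y} : Set G) ⊓ Subgroup.centralizer (X0 : Set G)

/-- `N = N(F)`. -/
def NN (y : G) (X0 : Subgroup G) : Subgroup G := Subgroup.normalizer (FF y X0 : Set G)

/-- `D = C_N(X0)`. -/
def DD (y : G) (X0 : Subgroup G) : Subgroup G := NN y X0 ⊓ Subgroup.centralizer (X0 : Set G)

theorem mem_cent_set {X0 : Subgroup G} {g : G} :
    g ∈ Subgroup.centralizer (X0 : Set G) ↔ ∀ k ∈ X0, Commute g k :=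
  ⟨fun hg k hk => (Subgroup.mem_centralizer_iff.mp hg k hk).symm,
    fun hg => Subgroup.mem_centralizer_iff.mpr fun k hk => (hg k hk).symm.eq⟩

theorem mem_FF {y g : G} {X0 : Subgroup G} :
    g ∈ FF y X0 ↔ Commute g y ∧ ∀ k ∈ X0, Commute g k := by
  rw [FF, Subgroup.mem_inf, mem_cent_set, Subgroup.mem_centralizer_singleton_iff]
  rfl

theorem mem_normalizer_of_maps {F : Subgroup G} {g : G} (h : ∀ f ∈ F, g * f * g⁻¹ ∈ F) :
    g ∈ Subgroup.normalizer (F : Set G) := by
  haveI : Finite (F : Set G) := Subtype.finite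
  exact Subgroup.mem_normalizer_fintype h

theorem map_inv_of_maps {F : Subgroup G} {g : G} (h : ∀ f ∈ F, g * f * g⁻¹ ∈ F) :
    ∀ f ∈ F, g⁻¹ * f * g ∈ F := by
  intro f hf
  have := (Subgroup.mem_normalizer_iff.mp (inv_mem (mem_normalizer_of_maps h)) f).mp hf
  rwa [inv_inv] at this

namespace Full

theorem cent_X0_z (S : Full z Q χ u h x c X0) {g : G} (hg : g ∈ X0) (hc : ∀ k ∈ X0, Commute g k) :
    g = 1 := by
  by_contra hg1
  obtain ⟨g0, hg0, hn0⟩ := S.exists_w0
  have hz0 := S.inE_mem (z := z) inE_z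
  have hgE := S.cent hg inE_z S.hyp.z_ne (hc z hz0)
  exact hn0 (S.cent (mul_mem (mul_mem hg0 hz0) (inv_mem hg0)) hgE hg1
    (hc _ (mul_mem (mul_mem hg0 hz0) (inv_mem hg0))).symm)

/-- Every element of `T` agrees on `X0` with an element of `E`. -/
theorem exists_mul_cent (S : Full z Q χ u h x c X0) {t : G} (ht : t ∈ TT z (x * c)) :
    ∃ e, InE z u e ∧ e * t ∈ FF (x * c) X0 := by
  obtain ⟨g0, hg0, hn0⟩ := S.exists_w0
  have hy := (mem_TT.mp ht).2
  have hnt : ∀ k ∈ X0, t * k * t⁻¹ ∈ X0 := S.kernel.normal t hy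
  have hI0 : Inv X0 (g0 * z * g0⁻¹) :=
    (S.kernel.inv_z S.hyp S.ctx).conj (mul_mem (mul_mem hg0 (S.inE_mem inE_z)) (inv_mem hg0))
  have hIt := hI0.conj (hnt _ hI0.1)
  have htn : ¬ InE z u (t * (g0 * z * g0⁻¹) * t⁻¹) := fun hE => hn0 (by
    have hc := S.ctx.TT_comm S.hyp (inv_mem ht) (S.ctx.mem_TT_of_inE S.hyp hE)
    have e : g0 * z * g0⁻¹ = t⁻¹ * (t * (g0 * z * g0⁻¹) * t⁻¹) * t⁻¹⁻¹ := by group
    rw [e, hc.eq, mul_inv_cancel_right]
    exact hE)
  obtain ⟨e, he, hc⟩ := S.cover hg0 hn0 hIt htn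
  refine ⟨e, he, ?_⟩
  have heX := S.inE_mem he
  have hkn : ∀ k ∈ X0, e * t * k * (e * t)⁻¹ ∈ X0 := fun k hk => by
    rw [show e * t * k * (e * t)⁻¹ = e * (t * k * t⁻¹) * e⁻¹ by group]
    exact mul_mem (mul_mem heX (hnt k hk)) (inv_mem heX)
  have hetT : e * t ∈ TT z (x * c) := mul_mem (S.ctx.mem_TT_of_inE S.hyp he) ht
  have hee : e * e = 1 := S.ctx.pair.inE_sq S.hyp he
  have hw0 : Commute (e * t * (g0 * z * g0⁻¹) * (e * t)⁻¹) (g0 * z * g0⁻¹) := by
    have := (conj_commute_iff (g := e)).mpr hc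
    rw [show e * (e * (g0 * z * g0⁻¹) * e⁻¹) * e⁻¹ = (e * e) * (g0 * z * g0⁻¹) * (e * e)⁻¹ by group, hee,
      inv_one, one_mul, mul_one] at this
    rw [show e * t * (g0 * z * g0⁻¹) * (e * t)⁻¹ = e * (t * (g0 * z * g0⁻¹) * t⁻¹) * e⁻¹ by group]
    exact this.symm
  exact Subgroup.mem_inf.mpr ⟨Subgroup.mem_centralizer_singleton_iff.mpr (mem_TT.mp hetT).2,
    S.cent_of_fix hkn (map_inv_of_maps hkn) (S.fix_of hg0 hn0 hkn
      (fun f hf => S.ctx.TT_comm S.hyp hetT (S.ctx.mem_TT_of_inE S.hyp hf)) hw0)⟩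

theorem FF_spec (S : Full z Q χ u h x c X0) :
    Nat.card (FF (x * c) X0) = 4 ∧ (∀ f ∈ FF (x * c) X0, f ∈ TT z (x * c)) ∧
      ∀ g, Commute g (x * c) → ∃ f ∈ FF (x * c) X0, f⁻¹ * g ∈ X0 := by
  classical
  have H := S.hyp
  set y := x * c
  set X := Subgroup.centralizer ({y} : Set G)
  set F := FF y X0
  have hXm : ∀ {g : G}, g ∈ X ↔ Commute g y := Subgroup.mem_centralizer_singleton_iff
  let f : F × X0 → X := fun p =>
    ⟨(p.1 : G) * p.2, X.mul_mem (Subgroup.mem_inf.mp p.1.2).1 (S.kernel.le p.2.2)⟩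
  have hf : Function.Injective f := by
    rintro ⟨a, k⟩ ⟨a', k'⟩ e
    have e' : (a : G) * k = a' * k' := congrArg Subtype.val e
    have hm : (a' : G)⁻¹ * a = k' * (k : G)⁻¹ := by
      calc (a' : G)⁻¹ * a = (a' : G)⁻¹ * ((a : G) * k) * (k : G)⁻¹ := by group
        _ = k' * (k : G)⁻¹ := by rw [e']; group
    have h1 : (a' : G)⁻¹ * a = 1 := S.cent_X0_z (hm ▸ mul_mem k'.2 (inv_mem k.2))
      (fun l hl => (mem_FF.mp (mul_mem (inv_mem a'.2) a.2 : (a' : G)⁻¹ * a ∈ F)).2 l hl)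
    obtain rfl : a' = a := Subtype.ext (inv_mul_eq_one.mp h1)
    rw [Subtype.ext (mul_left_cancel e') ]
  have hle : Nat.card F ≤ 4 := by
    have := Nat.card_le_card_of_injective f hf
    rw [Nat.card_prod, S.card_X0, S.card_X] at this
    omega
  have hT : ∀ t : TT z y, ∃ e, InE z u e ∧ e * (t : G) ∈ F := fun t => S.exists_mul_cent t.2
  choose e he using hT
  let g : TT z y → {r : F // (r : G) ∈ TT z y} × {v : G // InE z u v} := fun t =>
    (⟨⟨e t * t, (he t).2⟩, mul_mem (S.ctx.mem_TT_of_inE H (he t).1) t.2⟩, ⟨e t, (he t).1⟩)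
  have hg : Function.Injective g := by
    intro t t' h'
    have h1 : e t * (t : G) = e t' * (t' : G) := congrArg (fun p => ((p.1 : F) : G)) h'
    have h2 : e t = e t' := congrArg (fun p => (p.2 : G)) h'
    rw [h2] at h1
    exact Subtype.ext (mul_left_cancel h1)
  have hge := Nat.card_le_card_of_injective g hg
  rw [Nat.card_prod, card_inE H S.ctx.pair, S.ctx.card_TT H] at hge
  have hsub := Nat.card_le_card_of_injective (fun r : {r : F // (r : G) ∈ TT z y} => (r : F))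
    Subtype.val_injective
  have hall : ∀ r : F, (r : G) ∈ TT z y := by
    have hb := Function.Injective.bijective_of_nat_card_le
      (Subtype.val_injective (p := fun r : F => (r : G) ∈ TT z y)) (by omega)
    intro r
    obtain ⟨⟨r', hr'⟩, rfl⟩ := hb.2 r
    exact hr'
  refine ⟨by omega, fun r hr => hall ⟨r, hr⟩, fun k hk => ?_⟩
  have hb := Function.Injective.bijective_of_nat_card_le hf (by
    rw [Nat.card_prod, S.card_X0, S.card_X]; omega)
  obtain ⟨⟨a, l⟩, hal⟩ := hb.2 ⟨k, hXm.mpr hk⟩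
  refine ⟨a, a.2, ?_⟩
  rw [show k = (a : G) * l from (congrArg Subtype.val hal).symm, inv_mul_cancel_left]
  exact l.2

theorem card_FF (S : Full z Q χ u h x c X0) : Nat.card (FF (x * c) X0) = 4 := S.FF_spec.1

theorem FF_T (S : Full z Q χ u h x c X0) {f : G} (hf : f ∈ FF (x * c) X0) : f ∈ TT z (x * c) :=
  S.FF_spec.2.1 f hf

theorem FF_sq (S : Full z Q χ u h x c X0) {f : G} (hf : f ∈ FF (x * c) X0) : f * f = 1 :=
  S.ctx.cent_sq S.hyp (mem_TT.mp (S.FF_T hf)).1 (mem_TT.mp (S.FF_T hf)).2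

theorem FF_comm_X0 (S : Full z Q χ u h x c X0) {f k : G} (hf : f ∈ FF (x * c) X0) (hk : k ∈ X0) :
    Commute f k := (mem_FF.mp hf).2 k hk

theorem decomp (S : Full z Q χ u h x c X0) {g : G} (hg : Commute g (x * c)) :
    ∃ f ∈ FF (x * c) X0, f⁻¹ * g ∈ X0 := S.FF_spec.2.2 g hg

theorem FF_inter (S : Full z Q χ u h x c X0) {f : G} (hf : f ∈ FF (x * c) X0) (hk : f ∈ X0) : f = 1 :=
  S.cent_X0_z hk fun _ hk' => S.FF_comm_X0 hf hk'

theorem y_mem (S : Full z Q χ u h x c X0) : x * c ∈ FF (x * c) X0 :=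
  mem_FF.mpr ⟨Commute.refl _, fun _ hk => (S.kernel.comm_y hk).symm⟩

theorem y_not_X0 (S : Full z Q χ u h x c X0) : x * c ∉ X0 := fun hy =>
  S.ctx.ne_one S.hyp (S.FF_inter S.y_mem hy)

theorem FF_not_zconj (S : Full z Q χ u h x c X0) {f : G} (hf : f ∈ FF (x * c) X0) :
    ¬ IsConj z f := fun hc => by
  have hI := S.kernel.zconj_inv S.two S.ctx hc (mem_FF.mp hf).1
  exact hI.2.2 (S.FF_inter hf hI.1)

theorem FF_conj_y (S : Full z Q χ u h x c X0) {f : G} (hf : f ∈ FF (x * c) X0) (h1 : f ≠ 1) :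
    IsConj (x * c) f :=
  (S.hyp.invol_cases S.ctx (orderOf_two (S.FF_sq hf) h1)).resolve_left (S.FF_not_zconj hf)

theorem cent_FF (S : Full z Q χ u h x c X0) {f : G} (hf : f ∈ FF (x * c) X0) (h1 : f ≠ 1) :
    Subgroup.centralizer ({f} : Set G) = Subgroup.centralizer ({x * c} : Set G) := by
  refine (Subgroup.eq_of_le_of_card_ge (fun g hg => ?_) (le_of_eq ?_)).symm
  · obtain ⟨a, ha, hk⟩ := S.decomp (Subgroup.mem_centralizer_singleton_iff.mp hg)
    refine Subgroup.mem_centralizer_singleton_iff.mpr ?_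
    have c1 : Commute a f := S.ctx.TT_comm S.hyp (S.FF_T ha) (S.FF_T hf)
    have c2 : Commute (a⁻¹ * g) f := (S.FF_comm_X0 hf hk).symm
    have := c1.mul_left c2
    rwa [mul_inv_cancel_left] at this
  · obtain ⟨k, hk⟩ := isConj_iff.mp (S.FF_conj_y hf h1)
    rw [← hk]
    refine Nat.card_congr
      { toFun := fun g => ⟨k⁻¹ * g * k, ?_⟩
        invFun := fun g => ⟨k * g * k⁻¹, ?_⟩
        left_inv := fun g => Subtype.ext (by simp [mul_assoc])
        right_inv := fun g => Subtype.ext (by simp [mul_assoc]) }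
    · refine Subgroup.mem_centralizer_singleton_iff.mpr ((conj_commute_iff (g := k)).mp ?_)
      rw [show k * (k⁻¹ * (g : G) * k) * k⁻¹ = g by group]
      exact Subgroup.mem_centralizer_singleton_iff.mp g.2
    · exact Subgroup.mem_centralizer_singleton_iff.mpr
        (conj_commute_iff.mpr (Subgroup.mem_centralizer_singleton_iff.mp g.2)).eq

theorem le_closure_Inv (S : Full z Q χ u h x c X0) : X0 ≤ Subgroup.closure {w : G | Inv X0 w} := by
  haveI := S.isSimple
  set M := (Subgroup.closure {w : G | Inv X0 w}).subgroupOf X0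
  have hn : M.Normal := ⟨fun a ha g => by
    rw [Subgroup.mem_subgroupOf] at ha ⊢
    have hsub : Subgroup.closure {w : G | Inv X0 w} ≤
        (Subgroup.closure {w : G | Inv X0 w}).comap (MulAut.conj (g : G)).toMonoidHom := by
      rw [Subgroup.closure_le]
      intro w hw
      exact Subgroup.subset_closure (hw.conj (mul_mem (mul_mem g.2 hw.1) (inv_mem g.2)))
    exact hsub ha⟩
  rcases hn.eq_bot_or_eq_top with e | e
  · exfalso
    have hz : (⟨z, S.inE_mem inE_z⟩ : X0) ∈ M :=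
      Subgroup.mem_subgroupOf.mpr (Subgroup.subset_closure (S.kernel.inv_z S.hyp S.ctx))
    rw [e, Subgroup.mem_bot] at hz
    exact S.hyp.z_ne (congrArg Subtype.val hz)
  · exact Subgroup.subgroupOf_eq_top.mp e

theorem conj_X0 (S : Full z Q χ u h x c X0) {g : G}
    (hg : g * (x * c) * g⁻¹ ∈ FF (x * c) X0) : ∀ k ∈ X0, g * k * g⁻¹ ∈ X0 := by
  have h1 : g * (x * c) * g⁻¹ ≠ 1 := inv_ne_one_conj (S.ctx.ne_one S.hyp)
  have hw : Subgroup.closure {w : G | Inv X0 w} ≤ X0.comap (MulAut.conj g).toMonoidHom := by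
    rw [Subgroup.closure_le]
    intro w hw
    have hc : g * w * g⁻¹ ∈ Subgroup.centralizer ({g * (x * c) * g⁻¹} : Set G) :=
      Subgroup.mem_centralizer_singleton_iff.mpr (conj_commute_iff.mpr (S.kernel.comm_y hw.1)).eq
    rw [S.cent_FF hg h1, Subgroup.mem_centralizer_singleton_iff] at hc
    exact (S.kernel.zconj_inv S.two S.ctx
      ((S.kernel.inv_isConj S.two S.ctx hw).trans (isConj_iff.mpr ⟨g, rfl⟩)) hc).1
  exact fun k hk => hw (S.le_closure_Inv hk)

theorem mem_NN (S : Full z Q χ u h x c X0) {g : G} :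
    g ∈ NN (x * c) X0 ↔ g * (x * c) * g⁻¹ ∈ FF (x * c) X0 := by
  refine ⟨fun hg => (Subgroup.mem_normalizer_iff.mp hg _).mp S.y_mem, fun hg => ?_⟩
  have hX0 := map_inv_of_maps (S.conj_X0 hg)
  have h1 : g * (x * c) * g⁻¹ ≠ 1 := inv_ne_one_conj (S.ctx.ne_one S.hyp)
  refine mem_normalizer_of_maps fun f hf => mem_FF.mpr ⟨?_, fun k hk => ?_⟩
  · have hc : g * f * g⁻¹ ∈ Subgroup.centralizer ({g * (x * c) * g⁻¹} : Set G) :=
      Subgroup.mem_centralizer_singleton_iff.mpr (conj_commute_iff.mpr (mem_FF.mp hf).1).eq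
    rw [S.cent_FF hg h1, Subgroup.mem_centralizer_singleton_iff] at hc
    exact hc
  · have := (conj_commute_iff (g := g)).mpr (S.FF_comm_X0 hf (hX0 k hk))
    rwa [show g * (g⁻¹ * k * g) * g⁻¹ = k by group] at this

theorem NN_conj_X0 (S : Full z Q χ u h x c X0) {g : G} (hg : g ∈ NN (x * c) X0) :
    ∀ k ∈ X0, g * k * g⁻¹ ∈ X0 := S.conj_X0 (S.mem_NN.mp hg)

theorem X_le_NN (S : Full z Q χ u h x c X0) :
    Subgroup.centralizer ({x * c} : Set G) ≤ NN (x * c) X0 := by
  intro g hg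
  rw [S.mem_NN, (show Commute g (x * c) from Subgroup.mem_centralizer_singleton_iff.mp hg).eq,
    mul_inv_cancel_right]
  exact S.y_mem

theorem card_FF_ne_one (S : Full z Q χ u h x c X0) :
    Nat.card {f : G // f ∈ FF (x * c) X0 ∧ f ≠ 1} = 3 := by
  classical
  haveI := Fintype.ofFinite G
  have h4 := S.card_FF
  rw [Nat.card_eq_fintype_card, Fintype.card_subtype] at h4 ⊢
  rw [show (Finset.univ.filter fun g : G => g ∈ FF (x * c) X0 ∧ g ≠ 1) =
      (Finset.univ.filter fun g : G => g ∈ FF (x * c) X0).erase 1 by ext g; simp [and_comm],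
    Finset.card_erase_of_mem (show (1 : G) ∈ Finset.univ.filter (fun g => g ∈ FF (x * c) X0) from
      Finset.mem_filter.mpr ⟨Finset.mem_univ _, one_mem _⟩), h4]

theorem card_NN (S : Full z Q χ u h x c X0) : Nat.card (NN (x * c) X0) = 720 := by
  classical
  set y' : NN (x * c) X0 :=
    ⟨x * c, S.X_le_NN (Subgroup.mem_centralizer_singleton_iff.mpr rfl)⟩
  have e1 := H65.card_conjugates_mul y'
  have hconj : Nat.card {w : NN (x * c) X0 // IsConj y' w} =
      Nat.card {f : G // f ∈ FF (x * c) X0 ∧ f ≠ 1} := by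
    refine Nat.card_congr
      { toFun := fun w => ⟨((w : NN (x * c) X0) : G), ?_, ?_⟩
        invFun := fun f => ⟨⟨f.1, Subgroup.le_normalizer f.2.1⟩, ?_⟩
        left_inv := fun w => rfl
        right_inv := fun w => rfl }
    · obtain ⟨k, hk⟩ := isConj_iff.mp w.2
      rw [show ((w : NN (x * c) X0) : G) = (k : G) * (x * c) * (k : G)⁻¹ from
        (congrArg Subtype.val hk).symm]
      exact S.mem_NN.mp k.2
    · obtain ⟨k, hk⟩ := isConj_iff.mp w.2
      rw [show ((w : NN (x * c) X0) : G) = (k : G) * (x * c) * (k : G)⁻¹ from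
        (congrArg Subtype.val hk).symm]
      exact inv_ne_one_conj (S.ctx.ne_one S.hyp)
    · obtain ⟨k, hk⟩ := isConj_iff.mp (S.FF_conj_y f.2.1 f.2.2)
      exact isConj_iff.mpr ⟨⟨k, S.mem_NN.mpr (hk.symm ▸ f.2.1)⟩, Subtype.ext hk⟩
  have hcent : Nat.card (Subgroup.centralizer ({y'} : Set (NN (x * c) X0))) =
      Nat.card (Subgroup.centralizer ({x * c} : Set G)) :=
    Nat.card_congr
      { toFun := fun g => ⟨((g : NN (x * c) X0) : G), Subgroup.mem_centralizer_singleton_iff.mpr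
          (congrArg Subtype.val (Subgroup.mem_centralizer_singleton_iff.mp g.2))⟩
        invFun := fun g => ⟨⟨g.1, S.X_le_NN g.2⟩, Subgroup.mem_centralizer_singleton_iff.mpr
          (Subtype.ext (Subgroup.mem_centralizer_singleton_iff.mp g.2))⟩
        left_inv := fun g => rfl
        right_inv := fun g => rfl }
  rw [hconj, S.card_FF_ne_one, hcent, S.card_X] at e1
  exact e1.symm

/-- An element of order three commuting with `z` and centralising `X0`, outside `C(xc)`. -/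
theorem exists_three (S : Full z Q χ u h x c X0) :
    ∃ g, orderOf g = 3 ∧ g ∈ DD (x * c) X0 ∧ Commute g z ∧ ¬ Commute g (x * c) := by
  classical
  have H := S.hyp
  have P := S.ctx.pair
  set N := NN (x * c) X0
  have hz0 := S.inE_mem (z := z) inE_z
  have hX0N : ∀ {k : G}, k ∈ X0 → k ∈ N := fun hk => S.X_le_NN (S.kernel.le hk)
  set z' : N := ⟨z, hX0N hz0⟩
  have e1 := H65.card_conjugates_mul z'
  have hconj : Nat.card {w : N // IsConj z' w} = Nat.card {w : G // Inv X0 w} := by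
    refine Nat.card_congr
      { toFun := fun w => ⟨((w : N) : G), ?_⟩
        invFun := fun w => ⟨⟨w.1, hX0N w.2.1⟩, ?_⟩
        left_inv := fun w => rfl
        right_inv := fun w => rfl }
    · obtain ⟨k, hk⟩ := isConj_iff.mp w.2
      rw [show ((w : N) : G) = (k : G) * z * (k : G)⁻¹ from (congrArg Subtype.val hk).symm]
      exact (S.kernel.inv_z H S.ctx).conj (S.NN_conj_X0 k.2 z hz0)
    · obtain ⟨k, hk, e⟩ := S.kernel.inv_conj S.two S.ctx w.2
      exact isConj_iff.mpr ⟨⟨k, hX0N hk⟩, Subtype.ext e⟩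
  rw [hconj, S.card_Inv, S.card_NN] at e1
  haveI : Fact (Nat.Prime 3) := ⟨Nat.prime_three⟩
  obtain ⟨g', hg'⟩ := exists_prime_orderOf_dvd_card'
    (G := Subgroup.centralizer ({z'} : Set N)) 3 ⟨16, by omega⟩
  set g : G := ((g' : N) : G) with hg
  have ho : orderOf g = 3 := by rw [hg, Subgroup.orderOf_coe, Subgroup.orderOf_coe, hg']
  have hgz : Commute g z := congrArg Subtype.val (Subgroup.mem_centralizer_singleton_iff.mp g'.2)
  have hgN : g ∈ N := (g' : N).2
  have hg3 : g * g * g = 1 := by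
    rw [← pow_two, ← pow_succ]
    exact orderOf_dvd_iff_pow_eq_one.mp (by rw [ho])
  have hny : ¬ Commute g (x * c) := fun hc => by
    have h2 := S.ctx.cent_sq H hgz hc
    rw [← pow_two] at h2
    have := orderOf_dvd_of_pow_eq_one h2
    rw [ho] at this
    omega
  have hnX := S.NN_conj_X0 hgN
  have hgu : Commute g u := by
    have huI := S.kernel.inE_inv H S.ctx (Or.inr (Or.inr (Or.inl rfl)) : InE z u u) P.u_ne_one
    have hI := huI.conj (hnX u huI.1)
    have hc : Commute (g * u * g⁻¹) z := by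
      have := (conj_commute_iff (g := g)).mpr (P.u_comm H)
      rwa [hgz.eq, mul_inv_cancel_right] at this
    rcases S.cent hI.1 inE_z H.z_ne hc with e | e | e | e
    · exact absurd e hI.2.2
    · exfalso
      refine P.u_ne ?_
      have : g * u * g⁻¹ = g * z * g⁻¹ := by rw [e, hgz.eq, mul_inv_cancel_right]
      exact mul_left_cancel (mul_right_cancel this)
    · exact mul_inv_eq_iff_eq_mul.mp e
    · exfalso
      have e2 : g * (u * z) * g⁻¹ = u := by
        rw [show g * (u * z) * g⁻¹ = (g * u * g⁻¹) * (g * z * g⁻¹) by group, e, hgz.eq,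
          mul_inv_cancel_right, mul_assoc, H.zz, mul_one]
      have : g * g * g * u * (g * g * g)⁻¹ = u * z := by
        rw [show g * g * g * u * (g * g * g)⁻¹ = g * (g * (g * u * g⁻¹) * g⁻¹) * g⁻¹ by group, e, e2, e]
      rw [hg3, inv_one, one_mul, mul_one] at this
      exact Pair.uz_ne_u H this.symm
  have hgE : ∀ e, InE z u e → Commute g e := by
    intro e he
    rcases he with rfl | rfl | rfl | rfl
    · exact Commute.one_right g
    · exact hgz
    · exact hgu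
    · exact hgu.mul_right hgz
  refine ⟨g, ho, Subgroup.mem_inf.mpr ⟨hgN, ?_⟩, hgz, hny⟩
  obtain ⟨g0, hg0, hn0⟩ := S.exists_w0
  set w0 := g0 * z * g0⁻¹ with hw0
  have hI0 : Inv X0 w0 :=
    (S.kernel.inv_z H S.ctx).conj (mul_mem (mul_mem hg0 hz0) (inv_mem hg0))
  have hI1 := hI0.conj (hnX _ hI0.1)
  have hn1 : ¬ InE z u (g * w0 * g⁻¹) := fun hE => hn0 (by
    have e : w0 = g⁻¹ * (g * w0 * g⁻¹) * g⁻¹⁻¹ := by group
    show InE z u w0
    rw [e, (hgE _ hE).inv_left.eq, mul_inv_cancel_right]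
    exact hE)
  obtain ⟨e, he, hc⟩ := S.cover hg0 hn0 hI1 hn1
  have hee : e * e = 1 := P.inE_sq H he
  have hge := hgE e he
  have hIe := S.inv_conj_inE he hI0
  -- `g w0 ~ e w0`, hence `g² w0 ~ w0` and `g³ w0 ~ e w0`
  have hI2 := hI1.conj (hnX _ hI1.1)
  have c2 : Commute (g * (g * w0 * g⁻¹) * g⁻¹) w0 := by
    have d1 : Commute (g * (e * w0 * e⁻¹) * g⁻¹) (g * (g * w0 * g⁻¹) * g⁻¹) := conj_commute_iff.mpr hc
    rw [show g * (e * w0 * e⁻¹) * g⁻¹ = (g * e) * w0 * (g * e)⁻¹ by group, hge.eq,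
      show (e * g) * w0 * (e * g)⁻¹ = e * (g * w0 * g⁻¹) * e⁻¹ by group] at d1
    have d2 : Commute (e * (e * w0 * e⁻¹) * e⁻¹) (e * (g * w0 * g⁻¹) * e⁻¹) := conj_commute_iff.mpr hc
    rw [show e * (e * w0 * e⁻¹) * e⁻¹ = (e * e) * w0 * (e * e)⁻¹ by group, hee, inv_one, one_mul,
      mul_one] at d2
    exact S.trans hI2 (S.inv_conj_inE he hI1) hI0 d1.symm d2.symm
  have c3 : Commute w0 (g * w0 * g⁻¹) := by
    have d1 : Commute (g * (g * (g * w0 * g⁻¹) * g⁻¹) * g⁻¹) (g * w0 * g⁻¹) := conj_commute_iff.mpr c2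
    rwa [show g * (g * (g * w0 * g⁻¹) * g⁻¹) * g⁻¹ = (g * g * g) * w0 * (g * g * g)⁻¹ by group, hg3,
      inv_one, one_mul, mul_one] at d1
  obtain rfl := S.free he hI0 hn0 (S.trans hIe hI1 hI0 hc c3.symm)
  exact S.cent_of_fix hnX (map_inv_of_maps hnX) (S.fix_of hg0 hn0 hnX hgE c3.symm)

theorem FF_le_DD (S : Full z Q χ u h x c X0) : FF (x * c) X0 ≤ DD (x * c) X0 :=
  le_inf Subgroup.le_normalizer inf_le_right

theorem DD_comm_X0 (S : Full z Q χ u h x c X0) {d k : G} (hd : d ∈ DD (x * c) X0) (hk : k ∈ X0) :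
    Commute d k := mem_cent_set.mp (Subgroup.mem_inf.mp hd).2 k hk

theorem card_DD (S : Full z Q χ u h x c X0) : Nat.card (DD (x * c) X0) = 12 := by
  classical
  set D := DD (x * c) X0
  let f : D × X0 → NN (x * c) X0 := fun p => ⟨(p.1 : G) * p.2,
    mul_mem (Subgroup.mem_inf.mp p.1.2).1 (S.X_le_NN (S.kernel.le p.2.2))⟩
  have hf : Function.Injective f := by
    rintro ⟨a, k⟩ ⟨a', k'⟩ e
    have e' : (a : G) * k = a' * k' := congrArg Subtype.val e
    have hm : (a' : G)⁻¹ * a = k' * (k : G)⁻¹ := by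
      calc (a' : G)⁻¹ * a = (a' : G)⁻¹ * ((a : G) * k) * (k : G)⁻¹ := by group
        _ = k' * (k : G)⁻¹ := by rw [e']; group
    have h1 : (a' : G)⁻¹ * a = 1 := S.cent_X0_z (hm ▸ mul_mem k'.2 (inv_mem k.2))
      (fun l hl => S.DD_comm_X0 (mul_mem (inv_mem a'.2) a.2) hl)
    obtain rfl : a' = a := Subtype.ext (inv_mul_eq_one.mp h1)
    rw [Subtype.ext (mul_left_cancel e')]
  have hle := Nat.card_le_card_of_injective f hf
  rw [Nat.card_prod, S.card_X0, S.card_NN] at hle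
  obtain ⟨g, ho, hgD, -, -⟩ := S.exists_three
  have d4 : 4 ∣ Nat.card D := S.card_FF ▸ Subgroup.card_dvd_of_le S.FF_le_DD
  have d3 : 3 ∣ Nat.card D := by
    rw [← ho, ← Nat.card_zpowers]
    exact Subgroup.card_dvd_of_le (Subgroup.zpowers_le.mpr hgD)
  have d12 : 12 ∣ Nat.card D := (by norm_num : Nat.Coprime 4 3).mul_dvd_of_dvd_of_dvd d4 d3
  have := Nat.le_of_dvd Nat.card_pos d12
  omega

theorem DD_iso (S : Full z Q χ u h x c X0) :
    Nonempty (DD (x * c) X0 ≃* alternatingGroup (Fin 4)) := by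
  classical
  refine H65.alternating_four_of_card S.card_DD fun d hd hcen => ?_
  obtain ⟨g, ho, hgD, -, hny⟩ := S.exists_three
  have hd2 : (d : G) * d = 1 := sq_one_of_orderOf (by rwa [Subgroup.orderOf_coe])
  have hFn : ((FF (x * c) X0).subgroupOf (DD (x * c) X0)).Normal :=
    ⟨fun f hf k => by
      rw [Subgroup.mem_subgroupOf] at hf ⊢
      exact (Subgroup.mem_normalizer_iff.mp (Subgroup.mem_inf.mp k.2).1 (f : G)).mp hf⟩
  have hidx : ((FF (x * c) X0).subgroupOf (DD (x * c) X0)).index = 3 := by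
    have := Subgroup.card_mul_index ((FF (x * c) X0).subgroupOf (DD (x * c) X0))
    rw [Nat.card_congr (Subgroup.subgroupOfEquivOfLe S.FF_le_DD).toEquiv, S.card_FF, S.card_DD] at this
    omega
  have hdF : (d : G) ∈ FF (x * c) X0 := by
    have h3 := Subgroup.pow_index_mem ((FF (x * c) X0).subgroupOf (DD (x * c) X0)) d
    rw [hidx, Subgroup.mem_subgroupOf, SubgroupClass.coe_pow, pow_succ, pow_two, hd2, one_mul] at h3
    exact h3
  have hcm : Commute g (d : G) :=
    congrArg Subtype.val (Subgroup.mem_center_iff.mp hcen ⟨g, hgD⟩)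
  have hgc : g ∈ Subgroup.centralizer ({(d : G)} : Set G) :=
    Subgroup.mem_centralizer_singleton_iff.mpr hcm.eq
  rw [S.cent_FF hdF (ne_one_of_orderOf (by rwa [Subgroup.orderOf_coe]))] at hgc
  exact hny (Subgroup.mem_centralizer_singleton_iff.mp hgc)

end Full

end H36.HJ
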