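import Cfsg.Agent.H36.HJ.Odd
import Cfsg.Agent.H62.Basic

/-!
Groups of Hall–Janko type, part 11: the Sylow 5-subgroups.
-/

set_option autoImplicit false

namespace H36.HJ

local notation "A5" => alternatingGroup (Fin 5)

variable {G : Type*} [Group G] [Finite G]
variable {z : G} {Q : Subgroup G} {χ : Subgroup.centralizer ({z} : Set G) →* A5}
variable {u h x c : G} {X0 : Subgroup G}

theorem a5_five_real : ∀ a b : A5, a ^ 5 = 1 → a ≠ 1 → b * a * b⁻¹ ≠ a ^ 2 ∧ b * a * b⁻¹ ≠ a ^ 3 := by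
  decide +kernel

theorem a5_five_inverted : ∀ a : A5, a ^ 5 = 1 → ∃ b : A5, b * a * b⁻¹ = a⁻¹ := by decide +kernel

omit [Finite G] in
theorem zpowers_five_cases {a b : G} (ha : a ^ 5 = 1) (hb : b ∈ Subgroup.zpowers a) :
    b = 1 ∨ b = a ∨ b = a ^ 2 ∨ b = a ^ 3 ∨ b = a ^ 4 := by
  obtain ⟨i, rfl⟩ := Subgroup.mem_zpowers_iff.mp hb
  have h5 : a ^ i = a ^ (i % 5) := by
    conv_lhs => rw [← Int.emod_add_mul_ediv i 5, zpow_add, zpow_mul,
      show a ^ (5 : ℤ) = 1 by rw [show (5 : ℤ) = ((5 : ℕ) : ℤ) from rfl, zpow_natCast, ha], one_zpow, mul_one]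
  rw [h5]
  have h1 := Int.emod_nonneg i (show (5 : ℤ) ≠ 0 by norm_num)
  have h2 := Int.emod_lt_of_pos i (show (0 : ℤ) < 5 by norm_num)
  obtain ⟨n, hn⟩ := Int.eq_ofNat_of_zero_le h1
  rw [hn] at h2 ⊢
  rw [zpow_natCast]
  have : n < 5 := by omega
  interval_cases n <;> simp

/-- Some element of order three of the normaliser centralising a nontrivial proper subgroup of a group of
order `25` is impossible. -/
theorem fixed_card_mod {P : Subgroup G} {g : G} (hg : g ^ 3 = 1) (hn : ∀ a ∈ P, g * a * g⁻¹ ∈ P) :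
    Nat.card P ≡ Nat.card (P ⊓ Subgroup.centralizer ({g} : Set G) : Subgroup G) [MOD 3] := by
  classical
  haveI : Fact (Nat.Prime 3) := ⟨Nat.prime_three⟩
  have hA : IsPGroup 3 (Subgroup.zpowers g) := by
    rintro ⟨_, i, rfl⟩
    refine ⟨1, Subtype.ext ?_⟩
    show (g ^ i) ^ 3 ^ 1 = 1
    rw [pow_one, ← zpow_natCast, ← zpow_mul, mul_comm, zpow_mul, zpow_natCast, hg, one_zpow]
  have hmem : ∀ k : Subgroup.zpowers g, (k : G) ∈ Subgroup.normalizer (P : Set G) := fun k =>
    (Subgroup.zpowers_le.mpr (mem_normalizer_of_maps hn)) k.2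
  letI : MulAction (Subgroup.zpowers g) P :=
    { smul := fun k a => ⟨(k : G) * a * (k : G)⁻¹, (Subgroup.mem_normalizer_iff.mp (hmem k) _).mp a.2⟩
      one_smul := fun a => Subtype.ext (by show (1 : G) * a * 1⁻¹ = a; simp)
      mul_smul := fun k l a => Subtype.ext (by
        show ((k : G) * l) * a * ((k : G) * l)⁻¹ = k * (l * a * (l : G)⁻¹) * (k : G)⁻¹
        group) }
  have hfix : Nat.card (MulAction.fixedPoints (Subgroup.zpowers g) P) =
      Nat.card (P ⊓ Subgroup.centralizer ({g} : Set G) : Subgroup G) := by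
    refine Nat.card_congr
      { toFun := fun a => ⟨((a : P) : G), (a : P).2, Subgroup.mem_centralizer_singleton_iff.mpr ?_⟩
        invFun := fun a => ⟨⟨(a : G), a.2.1⟩, ?_⟩
        left_inv := fun a => rfl
        right_inv := fun a => rfl }
    · have := congrArg Subtype.val (a.2 ⟨g, Subgroup.mem_zpowers g⟩)
      exact (mul_inv_eq_iff_eq_mul.mp this).symm
    · intro k
      refine Subtype.ext ?_
      show (k : G) * a * (k : G)⁻¹ = a
      obtain ⟨i, hi⟩ := Subgroup.mem_zpowers_iff.mp k.2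
      have hc : Commute g (a : G) := (Subgroup.mem_centralizer_singleton_iff.mp a.2.2).symm
      rw [← hi, (hc.zpow_left i).eq, mul_inv_cancel_right]
  rw [← hfix]
  exact hA.card_modEq_card_fixedPoints _

namespace Full

theorem NN_decomp (S : Full z Q χ u h x c X0) {g : G} (hg : g ∈ NN (x * c) X0) :
    ∃ d ∈ DD (x * c) X0, ∃ k ∈ X0, g = d * k := by
  classical
  let f : DD (x * c) X0 × X0 → NN (x * c) X0 := fun p => ⟨(p.1 : G) * p.2,
    mul_mem (Subgroup.mem_inf.mp p.1.2).1 (S.X_le_NN (S.kernel.le p.2.2))⟩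
  have hf : Function.Injective f := by
    rintro ⟨a, k⟩ ⟨a', k'⟩ e
    have e' : (a : G) * k = a' * k' := congrArg Subtype.val e
    have hm : (a' : G)⁻¹ * a = k' * (k : G)⁻¹ := by
      calc (a' : G)⁻¹ * a = (a' : G)⁻¹ * ((a : G) * k) * (k : G)⁻¹ := by group
        _ = k' * (k : G)⁻¹ := by rw [e']; group
    have h1 : (a' : G)⁻¹ * a = 1 := S.cent_X0_z (hm ▸ mul_mem k'.2 (inv_mem k.2))
      (fun l hl => S.DD_comm_X0 (mul_mem (inv_mem a'.2) a.2) hl)
    obtain rfl : a' = a := Subtype.ext (inv_mul_eq_one.mp h1)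
    rw [Subtype.ext (mul_left_cancel e')]
  obtain ⟨⟨d, k⟩, e⟩ := (hf.bijective_of_nat_card_le (by
    rw [Nat.card_prod, S.card_DD, S.card_X0, S.card_NN])).2 ⟨g, hg⟩
  exact ⟨d, d.2, k, k.2, (congrArg Subtype.val e).symm⟩

theorem exists_w5 (S : Full z Q χ u h x c X0) : ∃ w ∈ X0, orderOf w = 5 := by
  haveI : Fact (Nat.Prime 5) := ⟨by norm_num⟩
  obtain ⟨w, hw⟩ := exists_prime_orderOf_dvd_card' (G := X0) 5 (by rw [S.card_X0]; norm_num)
  exact ⟨w, w.2, (Subgroup.orderOf_coe w).trans hw⟩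

theorem exists_z5 (S : Full z Q χ u h x c X0) : ∃ f, Commute f z ∧ orderOf f = 5 := by
  haveI : Fact (Nat.Prime 5) := ⟨by norm_num⟩
  obtain ⟨f, hf⟩ := exists_prime_orderOf_dvd_card' (G := Subgroup.centralizer ({z} : Set G)) 5
    (by rw [S.hyp.card_C]; norm_num)
  exact ⟨f, mem_C.mp f.2, (Subgroup.orderOf_coe f).trans hf⟩

theorem card_P5 (S : Full z Q χ u h x c X0) (P : Sylow 5 G) : Nat.card P = 25 := by
  haveI : Fact (Nat.Prime 5) := ⟨by norm_num⟩
  rw [H62.card_sylow_coe (a := 2) (m := 24192) (by rw [S.card_G]; norm_num) (by norm_num) P]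
  norm_num

theorem P5_comm (S : Full z Q χ u h x c X0) (P : Sylow 5 G) : IsMulCommutative (P : Subgroup G) := by
  haveI : Fact (Nat.Prime 5) := ⟨by norm_num⟩
  exact IsPGroup.isMulCommutative_of_card_eq_prime_sq (p := 5) (by rw [S.card_P5 P]; norm_num)

theorem P5_commute (S : Full z Q χ u h x c X0) (P : Sylow 5 G) {a b : G} (ha : a ∈ (P : Subgroup G))
    (hb : b ∈ (P : Subgroup G)) : Commute a b :=
  congrArg Subtype.val ((S.P5_comm P).is_comm.comm ⟨a, ha⟩ ⟨b, hb⟩)

/-- Data for the Sylow 5-argument: `w ∈ X0` and `s` centralising a conjugate of `z`, both in `P`. -/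
structure Five (S : Full z Q χ u h x c X0) (P : Sylow 5 G) (w s : G) : Prop where
  wX : w ∈ X0
  wo : orderOf w = 5
  wP : w ∈ (P : Subgroup G)
  so : orderOf s = 5
  sP : s ∈ (P : Subgroup G)
  sz : ∃ i, IsConj z i ∧ Commute s i

theorem exists_five_data (S : Full z Q χ u h x c X0) : ∃ P w s, Five S P w s := by
  classical
  haveI : Fact (Nat.Prime 5) := ⟨by norm_num⟩
  obtain ⟨w, hwX, hwo⟩ := S.exists_w5
  obtain ⟨f, hfz, hfo⟩ := S.exists_z5
  have hp : ∀ {a : G}, orderOf a = 5 → IsPGroup 5 (Subgroup.zpowers a) := fun ha =>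
    IsPGroup.of_card (n := 1) (by rw [Nat.card_zpowers, ha, pow_one])
  obtain ⟨P, hP⟩ := (hp hwo).exists_le_sylow
  obtain ⟨R, hR⟩ := (hp hfo).exists_le_sylow
  obtain ⟨g, hg⟩ := MulAction.exists_smul_eq G R P
  refine ⟨P, w, g * f * g⁻¹, hwX, hwo, hP (Subgroup.mem_zpowers w), ?_, ?_, g * z * g⁻¹,
    isConj_iff.mpr ⟨g, rfl⟩, conj_commute_iff.mpr hfz⟩
  · exact (orderOf_injective (MulAut.conj g).toMonoidHom (MulAut.conj g).injective f).trans hfo
  · rw [← hg, Sylow.coe_subgroup_smul]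
    exact ⟨f, hR (Subgroup.mem_zpowers f), rfl⟩

variable {S : Full z Q χ u h x c X0} {P : Sylow 5 G} {w s : G}

theorem Five.w5 (D : Five S P w s) : w ^ 5 = 1 := orderOf_dvd_iff_pow_eq_one.mp D.wo.dvd

theorem Five.wy (D : Five S P w s) : Commute w (x * c) := S.kernel.comm_y D.wX

theorem Five.odd_w (D : Five S P w s) : IsOdd w := Or.inr D.wo

theorem Five.s_not_w (D : Five S P w s) : s ∉ Subgroup.zpowers w := fun hs => by
  obtain ⟨i, hi, hsi⟩ := D.sz
  obtain ⟨j, rfl⟩ := Subgroup.mem_zpowers_iff.mp hs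
  exact S.two.no_both S.ctx (Or.inr D.so) hi (IsConj.refl _) hsi (D.wy.zpow_left j)

theorem Five.card_Cw (D : Five S P w s) : Nat.card (Subgroup.centralizer ({w} : Set G)) = 300 := by
  have h25 : 25 ∣ Nat.card (Subgroup.centralizer ({w} : Set G)) := by
    rw [← S.card_P5 P]
    exact Subgroup.card_dvd_of_le fun a ha =>
      Subgroup.mem_centralizer_singleton_iff.mpr (S.P5_commute P ha D.wP).eq
  rcases S.card_cent_odd D.wX D.odd_w with e | e
  · rw [e, D.wo] at h25; norm_num at h25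
  · rw [e, D.wo]

theorem Five.P_le (D : Five S P w s) : (P : Subgroup G) ≤ Subgroup.centralizer ({w} : Set G) :=
  fun _ ha => Subgroup.mem_centralizer_singleton_iff.mpr (S.P5_commute P ha D.wP).eq

theorem Five.P_not_normal (D : Five S P w s) :
    ¬ Subgroup.centralizer ({w} : Set G) ≤ Subgroup.normalizer ((P : Subgroup G) : Set G) := by
  intro hle
  have hodd : ∀ {k : G}, k ∈ Subgroup.zpowers w → k * k = 1 → k = 1 := D.odd_w.eq_one_of_sq
  have key : ∀ v, v ∈ FF (x * c) X0 → v ≠ 1 → v * s * v⁻¹ * s ∈ Subgroup.zpowers w := by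
    intro v hv hv1
    have hvM : v ∈ Subgroup.centralizer ({w} : Set G) :=
      Subgroup.mem_centralizer_singleton_iff.mpr (S.FF_comm_X0 hv D.wX)
    have hr : v * s * v⁻¹ ∈ (P : Subgroup G) := (Subgroup.mem_normalizer_iff.mp (hle hvM) s).mp D.sP
    set p := v * s * v⁻¹ * s
    have hp : p ∈ (P : Subgroup G) := mul_mem hr D.sP
    have hvp : Commute p v := by
      have hv2 := S.FF_sq hv
      have e : v * p * v⁻¹ = p := by
        rw [show v * p * v⁻¹ = (v * v) * s * (v * v)⁻¹ * (v * s * v⁻¹) by simp only [p]; group, hv2,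
          inv_one, one_mul, mul_one]
        exact (S.P5_commute P D.sP hr).eq
      exact (mul_inv_eq_iff_eq_mul.mp e).symm
    have hpX : p ∈ Subgroup.centralizer ({v} : Set G) :=
      Subgroup.mem_centralizer_singleton_iff.mpr hvp.eq
    rw [S.cent_FF hv hv1, Subgroup.mem_centralizer_singleton_iff] at hpX
    obtain ⟨f, hf, hfp⟩ := S.cent_y_odd D.wX D.odd_w hpX (S.P5_commute P hp D.wP)
    have hfP : f ∈ (P : Subgroup G) := by
      have h1 := mul_mem hp (inv_mem ((Subgroup.zpowers_le.mpr D.wP) hfp))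
      rwa [mul_inv_rev, inv_inv, mul_inv_cancel_left] at h1
    have hf1 : f = 1 := by
      have h1 := orderOf_dvd_natCard (⟨f, hfP⟩ : (P : Subgroup G))
      rw [Subgroup.orderOf_mk, S.card_P5 P] at h1
      by_contra hne
      rw [orderOf_two (S.FF_sq hf) hne] at h1
      norm_num at h1
    rwa [hf1, inv_one, one_mul] at hfp
  obtain ⟨g, hg3, hgD, -, hny⟩ := S.exists_three
  have hy := S.y_mem
  set v2 := g * (x * c) * g⁻¹
  have hv2 : v2 ∈ FF (x * c) X0 := S.mem_NN.mp (Subgroup.mem_inf.mp hgD).1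
  have hv21 : v2 ≠ 1 := inv_ne_one_conj (S.ctx.ne_one S.hyp)
  have hv3 : x * c * v2 ≠ 1 := fun e => hny (by
    have : v2 = x * c := by
      rw [← inv_eq_of_mul_eq_one_right e, inv_eq_of_mul_eq_one_right (S.FF_sq hy)]
    exact mul_inv_eq_iff_eq_mul.mp this)
  have k1 := key _ hy (S.ctx.ne_one S.hyp)
  have k2 := key _ hv2 hv21
  have k3 := key _ (mul_mem hy hv2) hv3
  set y := x * c
  obtain ⟨j, hj⟩ := Subgroup.mem_zpowers_iff.mp k2
  have hyw : Commute y (w ^ j) := D.wy.symm.zpow_right j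
  have e : y * v2 * s * (y * v2)⁻¹ = w ^ j * (y * s * y⁻¹)⁻¹ := by
    calc y * v2 * s * (y * v2)⁻¹ = y * (v2 * s * v2⁻¹ * s) * s⁻¹ * y⁻¹ := by group
      _ = y * w ^ j * s⁻¹ * y⁻¹ := by rw [hj]
      _ = w ^ j * (y * s * y⁻¹)⁻¹ := by rw [hyw.eq]; group
  rw [e] at k3
  have h2 : (y * s * y⁻¹)⁻¹ * s ∈ Subgroup.zpowers w := by
    have := mul_mem (inv_mem (Subgroup.zpow_mem _ (Subgroup.mem_zpowers w) j)) k3
    rwa [mul_assoc (w ^ j), inv_mul_cancel_left] at this
  have h3 : s * s ∈ Subgroup.zpowers w := by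
    have hr : y * s * y⁻¹ ∈ (P : Subgroup G) := by
      have h4 := mul_mem ((Subgroup.zpowers_le.mpr D.wP) k1) (inv_mem D.sP)
      rwa [mul_inv_cancel_right] at h4
    have := mul_mem k1 h2
    rwa [(S.P5_commute P hr D.sP).eq, mul_assoc s, mul_inv_cancel_left] at this
  refine D.s_not_w ?_
  have h5 : s = (s * s) ^ 3 := by
    rw [← pow_two, ← pow_mul, show 2 * 3 = 5 + 1 by norm_num, pow_succ,
      orderOf_dvd_iff_pow_eq_one.mp D.so.dvd, one_mul]
  rw [h5]
  exact Subgroup.pow_mem _ h3 3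

theorem Five.self_cent (D : Five S P w s) :
    Subgroup.centralizer ((P : Subgroup G) : Set G) = P := by
  classical
  haveI : Fact (Nat.Prime 5) := ⟨by norm_num⟩
  set M := Subgroup.centralizer ({w} : Set G)
  set C := Subgroup.centralizer ((P : Subgroup G) : Set G)
  have hPC : (P : Subgroup G) ≤ C := fun a ha => mem_cent_set.mpr fun b hb => S.P5_commute P ha hb
  have hCM : C ≤ M := fun a ha => Subgroup.mem_centralizer_singleton_iff.mpr (mem_cent_set.mp ha w D.wP).eq
  have hodd : ¬ 2 ∣ Nat.card C := fun h2 => by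
    haveI : Fact (Nat.Prime 2) := ⟨Nat.prime_two⟩
    obtain ⟨⟨i, hi⟩, hio⟩ := exists_prime_orderOf_dvd_card' 2 h2
    rw [Subgroup.orderOf_mk] at hio
    obtain ⟨k, hk, hks⟩ := D.sz
    have hwi := (mem_cent_set.mp hi w D.wP).symm
    have hsi := (mem_cent_set.mp hi s D.sP).symm
    rcases S.hyp.invol_cases S.ctx hio with e | e
    · exact S.two.no_both S.ctx D.odd_w e (IsConj.refl _) hwi D.wy
    · exact S.two.no_both S.ctx (Or.inr D.so) hk e hks hsi
  have h300 : Nat.card C ∣ 300 := D.card_Cw ▸ Subgroup.card_dvd_of_le hCM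
  have h25 : 25 ∣ Nat.card C := S.card_P5 P ▸ Subgroup.card_dvd_of_le hPC
  have hcases : Nat.card C = 25 ∨ Nat.card C = 75 := by
    obtain ⟨k, hk⟩ := h25
    rw [hk] at h300 hodd ⊢
    have : k ∣ 12 := by
      rw [show (300 : ℕ) = 25 * 12 by norm_num] at h300
      exact (Nat.mul_dvd_mul_iff_left (by norm_num : 0 < 25)).mp h300
    have := Nat.le_of_dvd (by norm_num) this
    interval_cases k <;> first | omega | exact absurd (by norm_num) hodd
  rcases hcases with e | e
  · exact (Subgroup.eq_of_le_of_card_ge hPC (by rw [e, S.card_P5 P])).symm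
  exfalso
  set R : Sylow 5 M := P.subtype D.P_le
  have hCN : C.subgroupOf M ≤ Subgroup.normalizer ((R : Subgroup M) : Set M) := by
    intro a ha
    refine mem_normalizer_of_maps fun b hb => ?_
    have hc : Commute (a : G) (b : G) :=
      mem_cent_set.mp (Subgroup.mem_subgroupOf.mp ha) _ (Subgroup.mem_subgroupOf.mp hb)
    have : a * b * a⁻¹ = b := Subtype.ext (by simp [hc.eq])
    rw [this]; exact hb
  have hN : 75 ∣ Nat.card (Subgroup.normalizer ((R : Subgroup M) : Set M)) := by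
    rw [← e, ← Nat.card_congr (Subgroup.subgroupOfEquivOfLe hCM).toEquiv]
    exact Subgroup.card_dvd_of_le hCN
  have hmul := Subgroup.card_mul_index (Subgroup.normalizer ((R : Subgroup M) : Set M))
  rw [← (show Nat.card (Sylow 5 M) = (Subgroup.normalizer ((R : Subgroup M) : Set M)).index from
    R.card_eq_index_normalizer), D.card_Cw] at hmul
  have hmod : Nat.card (Sylow 5 M) % 5 = 1 := H62.card_sylow_mod
  have h4 : Nat.card (Sylow 5 M) ∣ 4 := by
    obtain ⟨q, hq⟩ := hN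
    rw [hq] at hmul
    exact ⟨q, by nlinarith⟩
  have h1 : Nat.card (Sylow 5 M) = 1 := by
    have := Nat.le_of_dvd (by norm_num) h4
    omega
  have htop : Subgroup.normalizer ((R : Subgroup M) : Set M) = ⊤ :=
    Subgroup.index_eq_one.mp (by rw [← (show Nat.card (Sylow 5 M) = (Subgroup.normalizer ((R : Subgroup M) : Set M)).index from
    R.card_eq_index_normalizer), h1])
  refine D.P_not_normal fun m hm => mem_normalizer_of_maps fun a ha => ?_
  have hmem : (⟨m, hm⟩ : M) ∈ Subgroup.normalizer ((R : Subgroup M) : Set M) := htop ▸ Subgroup.mem_top _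
  have := (Subgroup.mem_normalizer_iff.mp hmem ⟨a, D.P_le ha⟩).mp (Subgroup.mem_subgroupOf.mpr ha)
  exact Subgroup.mem_subgroupOf.mp this

theorem Five.card_NM (D : Five S P w s) :
    Nat.card (Subgroup.normalizer ((P : Subgroup G) : Set G) ⊓ Subgroup.centralizer ({w} : Set G) :
      Subgroup G) = 50 := by
  classical
  haveI : Fact (Nat.Prime 5) := ⟨by norm_num⟩
  set M := Subgroup.centralizer ({w} : Set G)
  set R : Sylow 5 M := P.subtype D.P_le
  have hn : Subgroup.normalizer ((R : Subgroup M) : Set M) =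
      (Subgroup.normalizer ((P : Subgroup G) : Set G) ⊓ M).subgroupOf M := by
    ext m
    rw [Subgroup.mem_subgroupOf, Subgroup.mem_inf, Subgroup.mem_normalizer_iff, Subgroup.mem_normalizer_iff]
    constructor
    · intro hm
      refine ⟨fun a => ⟨fun ha => ?_, fun ha => ?_⟩, m.2⟩
      · exact Subgroup.mem_subgroupOf.mp
          ((hm ⟨a, D.P_le ha⟩).mp (Subgroup.mem_subgroupOf.mpr ha))
      · have hb : a ∈ M := by
          have h1 := M.mul_mem (M.mul_mem (M.inv_mem m.2) (D.P_le ha)) m.2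
          rwa [show (m : G)⁻¹ * ((m : G) * a * (m : G)⁻¹) * m = a by group] at h1
        exact Subgroup.mem_subgroupOf.mp ((hm ⟨a, hb⟩).mpr (Subgroup.mem_subgroupOf.mpr ha))
    · rintro ⟨hm, -⟩ a
      exact ⟨fun ha => Subgroup.mem_subgroupOf.mpr ((hm _).mp (Subgroup.mem_subgroupOf.mp ha)),
        fun ha => Subgroup.mem_subgroupOf.mpr ((hm _).mpr (Subgroup.mem_subgroupOf.mp ha))⟩
  have hmul := Subgroup.card_mul_index (Subgroup.normalizer ((R : Subgroup M) : Set M))
  rw [← (show Nat.card (Sylow 5 M) = (Subgroup.normalizer ((R : Subgroup M) : Set M)).index from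
    R.card_eq_index_normalizer), D.card_Cw] at hmul
  have hmod : Nat.card (Sylow 5 M) % 5 = 1 := H62.card_sylow_mod
  have hd : Nat.card (Sylow 5 M) ∣ 12 :=
    H62.card_sylow_dvd (a := 2) (by rw [D.card_Cw]; norm_num) (by norm_num)
  have hne : Nat.card (Sylow 5 M) ≠ 1 := fun h1 => D.P_not_normal fun m hm => by
    have htop : Subgroup.normalizer ((R : Subgroup M) : Set M) = ⊤ :=
      Subgroup.index_eq_one.mp (by rw [← (show Nat.card (Sylow 5 M) = (Subgroup.normalizer ((R : Subgroup M) : Set M)).index from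
    R.card_eq_index_normalizer), h1])
    have : (⟨m, hm⟩ : M) ∈ Subgroup.normalizer ((R : Subgroup M) : Set M) := htop ▸ Subgroup.mem_top _
    rw [hn, Subgroup.mem_subgroupOf] at this
    exact (Subgroup.mem_inf.mp this).1
  have h6 : Nat.card (Sylow 5 M) = 6 := by
    have hle := Nat.le_of_dvd (by norm_num) hd
    interval_cases hk : Nat.card (Sylow 5 M) <;> norm_num at *
  rw [h6, hn, Nat.card_congr (Subgroup.subgroupOfEquivOfLe inf_le_right).toEquiv] at hmul
  omega

theorem Five.conj_line (D : Five S P w s) {g : G} (hg : g * w * g⁻¹ ∈ Subgroup.zpowers w) :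
    g * w * g⁻¹ = w ∨ g * w * g⁻¹ = w⁻¹ := by
  classical
  haveI : Fact (Nat.Prime 2) := ⟨Nat.prime_two⟩
  set M := Subgroup.centralizer ({w} : Set G)
  set F := FF (x * c) X0
  have hFM : F ≤ M := fun f hf => Subgroup.mem_centralizer_singleton_iff.mpr (S.FF_comm_X0 hf D.wX).eq
  have hFp : IsPGroup 2 (F.subgroupOf M) := IsPGroup.of_card (n := 2)
    (by rw [Nat.card_congr (Subgroup.subgroupOfEquivOfLe hFM).toEquiv, S.card_FF]; norm_num)
  have hFi : ¬ 2 ∣ (F.subgroupOf M).index := by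
    have := Subgroup.card_mul_index (F.subgroupOf M)
    rw [Nat.card_congr (Subgroup.subgroupOfEquivOfLe hFM).toEquiv, S.card_FF, D.card_Cw] at this
    omega
  set R : Sylow 2 M := hFp.toSylow hFi
  set F' := F.map (MulAut.conj g).toMonoidHom
  have hF'M : F' ≤ M := by
    rintro _ ⟨f, hf, rfl⟩
    obtain ⟨j, hj⟩ := Subgroup.mem_zpowers_iff.mp hg
    refine Subgroup.mem_centralizer_singleton_iff.mpr ?_
    have h1 : Commute (g * f * g⁻¹) (g * w * g⁻¹) := conj_commute_iff.mpr (S.FF_comm_X0 hf D.wX)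
    have hw' : w ∈ Subgroup.zpowers (g * w * g⁻¹) := by
      have hle : Subgroup.zpowers (g * w * g⁻¹) ≤ Subgroup.zpowers w := Subgroup.zpowers_le.mpr hg
      rw [Subgroup.eq_of_le_of_card_ge hle (le_of_eq (by
        rw [Nat.card_zpowers, Nat.card_zpowers]
        exact (orderOf_injective (MulAut.conj g).toMonoidHom (MulAut.conj g).injective w).symm))]
      exact Subgroup.mem_zpowers w
    obtain ⟨i, hi⟩ := Subgroup.mem_zpowers_iff.mp hw'
    have h2 : Commute (g * f * g⁻¹) w := hi ▸ h1.zpow_right i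
    exact h2.eq
  have hF'p : IsPGroup 2 (F'.subgroupOf M) :=
    ((IsPGroup.of_card (n := 2) (by rw [S.card_FF]; norm_num) : IsPGroup 2 F).map _).comap_of_injective
      M.subtype Subtype.val_injective
  obtain ⟨R', hR'⟩ := hF'p.exists_le_sylow
  obtain ⟨m, hm⟩ := MulAction.exists_smul_eq M R' R
  have hmg : ∀ f ∈ F, (m : G) * g * f * ((m : G) * g)⁻¹ ∈ F := by
    intro f hf
    have h1 : (⟨g * f * g⁻¹, hF'M ⟨f, hf, rfl⟩⟩ : M) ∈ (R' : Subgroup M) :=
      hR' (Subgroup.mem_subgroupOf.mpr ⟨f, hf, rfl⟩)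
    have h2 : m * ⟨g * f * g⁻¹, hF'M ⟨f, hf, rfl⟩⟩ * m⁻¹ ∈ (R : Subgroup M) := by
      rw [← hm, Sylow.coe_subgroup_smul]
      exact ⟨_, h1, rfl⟩
    rw [IsPGroup.toSylow_coe] at h2
    rw [show (m : G) * g * f * ((m : G) * g)⁻¹ = (m : G) * (g * f * g⁻¹) * (m : G)⁻¹ by group]
    exact h2
  have hN : (m : G) * g ∈ NN (x * c) X0 := S.mem_NN.mpr (hmg _ S.y_mem)
  obtain ⟨d, hd, k, hk, hdk⟩ := S.NN_decomp hN
  obtain ⟨j, hj⟩ := Subgroup.mem_zpowers_iff.mp hg
  have hkw : k * w * k⁻¹ = g * w * g⁻¹ := by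
    have hkX : k * w * k⁻¹ ∈ X0 := mul_mem (mul_mem hk D.wX) (inv_mem hk)
    have hdc : Commute d (k * w * k⁻¹) := S.DD_comm_X0 hd hkX
    have hmc : Commute (m : G) (g * w * g⁻¹) := by
      rw [← hj]; exact (show Commute (m : G) w from Subgroup.mem_centralizer_singleton_iff.mp m.2).zpow_right j
    calc k * w * k⁻¹ = d * (k * w * k⁻¹) * d⁻¹ := by rw [hdc.eq, mul_inv_cancel_right]
      _ = (d * k) * w * (d * k)⁻¹ := by group
      _ = (m : G) * (g * w * g⁻¹) * (m : G)⁻¹ := by rw [← hdk]; group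
      _ = g * w * g⁻¹ := by rw [hmc.eq, mul_inv_cancel_right]
  obtain ⟨e⟩ := S.X0_iso
  have h5 : e ⟨w, D.wX⟩ ^ 5 = 1 := by
    rw [← map_pow, show (⟨w, D.wX⟩ : X0) ^ 5 = 1 from Subtype.ext (by simp [D.w5]), map_one]
  have h1 : e ⟨w, D.wX⟩ ≠ 1 := fun e1 => D.odd_w.ne_one
    (congrArg Subtype.val (e.injective (e1.trans (map_one e).symm)))
  obtain ⟨h2, h3⟩ := a5_five_real (e ⟨w, D.wX⟩) (e ⟨k, hk⟩) h5 h1
  have hne : ∀ n : ℕ, g * w * g⁻¹ = w ^ n → e ⟨k, hk⟩ * e ⟨w, D.wX⟩ * (e ⟨k, hk⟩)⁻¹ = e ⟨w, D.wX⟩ ^ n := by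
    intro n hn
    rw [← map_inv, ← map_mul, ← map_mul, ← map_pow]
    congr 1
    refine Subtype.ext ?_
    simp [hkw, hn]
  rcases zpowers_five_cases D.w5 hg with e' | e' | e' | e' | e'
  · exact absurd (conj_eq_one_iff.mp e') D.odd_w.ne_one
  · exact Or.inl e'
  · exact absurd (hne 2 e') h2
  · exact absurd (hne 3 e') h3
  · refine Or.inr ?_
    rw [e']
    exact eq_inv_of_mul_eq_one_left (by rw [← pow_succ]; exact D.w5)

theorem Five.exists_inverter (D : Five S P w s) :
    ∃ n ∈ Subgroup.normalizer ((P : Subgroup G) : Set G), n * w * n⁻¹ = w⁻¹ := by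
  classical
  haveI : Fact (Nat.Prime 5) := ⟨by norm_num⟩
  haveI := S.P5_comm P
  obtain ⟨e⟩ := S.X0_iso
  obtain ⟨b, hb⟩ := a5_five_inverted (e ⟨w, D.wX⟩) (by
    rw [← map_pow, show (⟨w, D.wX⟩ : X0) ^ 5 = 1 from Subtype.ext (by simp [D.w5]), map_one])
  obtain ⟨k, rfl⟩ := e.surjective b
  rw [← map_inv, ← map_mul, ← map_mul, ← map_inv] at hb
  have hk : (k : G) * w * (k : G)⁻¹ = w⁻¹ := congrArg Subtype.val (e.injective hb)
  obtain ⟨n, hn, he⟩ := Sylow.conj_eq_normalizer_conj_of_mem P w (k : G)⁻¹ D.wP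
    (by rw [inv_inv, hk]; exact inv_mem D.wP)
  rw [inv_inv, hk] at he
  refine ⟨n⁻¹, inv_mem hn, ?_⟩
  rw [inv_inv]; exact he.symm

/-- The orbit of `w` under the normaliser of `P`. -/
def orb (P : Sylow 5 G) (w a : G) : Prop :=
  ∃ n ∈ Subgroup.normalizer ((P : Subgroup G) : Set G), n * w * n⁻¹ = a

theorem orb_mem (D : Five S P w s) {a : G} (ha : orb P w a) : a ∈ (P : Subgroup G) := by
  obtain ⟨n, hn, rfl⟩ := ha
  exact (Subgroup.mem_normalizer_iff.mp hn w).mp D.wP

theorem orb_sq_disjoint (D : Five S P w s) {a b : G} (ha : orb P w a) (hb : orb P w b) : a ≠ b ^ 2 := by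
  intro e
  obtain ⟨n, -, rfl⟩ := ha
  obtain ⟨m, -, rfl⟩ := hb
  have h1 : (m⁻¹ * n) * w * (m⁻¹ * n)⁻¹ = w ^ 2 := by
    calc (m⁻¹ * n) * w * (m⁻¹ * n)⁻¹ = m⁻¹ * (n * w * n⁻¹) * m := by group
      _ = m⁻¹ * (m * w * m⁻¹) ^ 2 * m := by rw [e]
      _ = w ^ 2 := by rw [conj_pow]; group
  have hne : w ^ 2 ≠ 1 ∧ w ^ 3 ≠ 1 := by
    constructor <;>
      · intro e'
        have := orderOf_dvd_of_pow_eq_one e'
        rw [D.wo] at this
        norm_num at this
  rcases D.conj_line (h1 ▸ Subgroup.npow_mem_zpowers w 2) with e' | e' <;> rw [h1] at e'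
  · exact D.odd_w.ne_one (mul_eq_left.mp (by rwa [pow_two] at e'))
  · exact hne.2 (by rw [pow_succ, e', inv_mul_cancel])

theorem Five.card_N (D : Five S P w s) :
    Nat.card (Subgroup.normalizer ((P : Subgroup G) : Set G)) = 300 ∧
      Nat.card {a : G // orb P w a} = 6 := by
  classical
  haveI : Fact (Nat.Prime 5) := ⟨by norm_num⟩
  haveI := Fintype.ofFinite G
  set N := Subgroup.normalizer ((P : Subgroup G) : Set G)
  set w' : N := ⟨w, Subgroup.le_normalizer D.wP⟩
  have e1 := H65.card_conjugates_mul w'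
  have hconj : Nat.card {r : N // IsConj w' r} = Nat.card {a : G // orb P w a} := by
    refine Nat.card_congr
      { toFun := fun r => ⟨((r : N) : G), ?_⟩
        invFun := fun a => ⟨⟨a.1, Subgroup.le_normalizer (orb_mem D a.2)⟩, ?_⟩
        left_inv := fun r => rfl
        right_inv := fun r => rfl }
    · obtain ⟨n, hn⟩ := isConj_iff.mp r.2
      exact ⟨n, n.2, congrArg Subtype.val hn⟩
    · obtain ⟨n, hn, he⟩ := a.2
      exact isConj_iff.mpr ⟨⟨n, hn⟩, Subtype.ext he⟩
  have hcent : Nat.card (Subgroup.centralizer ({w'} : Set N)) = 50 := by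
    rw [← D.card_NM]
    exact Nat.card_congr
      { toFun := fun r => ⟨((r : N) : G), (r : N).2, Subgroup.mem_centralizer_singleton_iff.mpr
          (congrArg Subtype.val (Subgroup.mem_centralizer_singleton_iff.mp r.2))⟩
        invFun := fun r => ⟨⟨r.1, r.2.1⟩, Subgroup.mem_centralizer_singleton_iff.mpr
          (Subtype.ext (Subgroup.mem_centralizer_singleton_iff.mp r.2.2))⟩
        left_inv := fun r => rfl
        right_inv := fun r => rfl }
  rw [hconj, hcent] at e1
  set m := Nat.card {a : G // orb P w a} with hm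
  -- the orbit and its squares fit into `P` without the identity
  have h24 : 2 * m ≤ 24 := by
    have h5 : ∀ {a : G}, orb P w a → a ^ 5 = 1 := by
      rintro a ⟨n, -, rfl⟩
      rw [conj_pow, D.w5, mul_one, mul_inv_cancel]
    have hne : ∀ {a : G}, orb P w a → a ≠ 1 := by
      rintro a ⟨n, -, rfl⟩
      exact inv_ne_one_conj D.odd_w.ne_one
    let f : {a : G // orb P w a} ⊕ {a : G // orb P w a} → {a : G // a ∈ (P : Subgroup G) ∧ a ≠ 1} :=
      Sum.elim (fun a => ⟨a.1, orb_mem D a.2, hne a.2⟩)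
        (fun a => ⟨a.1 ^ 2, pow_mem (orb_mem D a.2) 2, fun e => hne a.2 (by
          rw [show a.1 = (a.1 ^ 2) ^ 3 by rw [← pow_mul, show 2 * 3 = 5 + 1 by norm_num, pow_succ, h5 a.2,
            one_mul], e, one_pow])⟩)
    have hf : Function.Injective f := by
      rintro (a | a) (b | b) e <;> have e' := congrArg Subtype.val e <;>
        simp only [f, Sum.elim_inl, Sum.elim_inr] at e'
      · rw [Subtype.ext e']
      · exact absurd e' (orb_sq_disjoint D a.2 b.2)
      · exact absurd e'.symm (orb_sq_disjoint D b.2 a.2)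
      · congr 1
        refine Subtype.ext ?_
        rw [show a.1 = (a.1 ^ 2) ^ 3 by rw [← pow_mul, show 2 * 3 = 5 + 1 by norm_num, pow_succ, h5 a.2,
            one_mul], e', ← pow_mul, show 2 * 3 = 5 + 1 by norm_num, pow_succ, h5 b.2, one_mul]
    have := Nat.card_le_card_of_injective f hf
    rw [Nat.card_sum, ← hm] at this
    have h25 : Nat.card {a : G // a ∈ (P : Subgroup G) ∧ a ≠ 1} = 24 := by
      have h25' : Nat.card {a : G // a ∈ (P : Subgroup G)} = 25 := S.card_P5 P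
      rw [Nat.card_eq_fintype_card, Fintype.card_subtype] at h25' ⊢
      rw [show (Finset.univ.filter fun g : G => g ∈ (P : Subgroup G) ∧ g ≠ 1) =
          (Finset.univ.filter fun g : G => g ∈ (P : Subgroup G)).erase 1 by ext g; simp [and_comm],
        Finset.card_erase_of_mem (show (1 : G) ∈ Finset.univ.filter (fun g => g ∈ (P : Subgroup G)) from
          Finset.mem_filter.mpr ⟨Finset.mem_univ _, one_mem _⟩), h25']
    omega
  have hne1 : m ≠ 1 := by
    intro h1
    have hs := (Nat.card_eq_one_iff_unique.mp (hm.symm.trans h1)).1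
    obtain ⟨n, hn, he⟩ := D.exists_inverter
    have := congrArg Subtype.val
      (hs.elim (⟨w, 1, one_mem _, by group⟩ : {a : G // orb P w a}) ⟨w⁻¹, n, hn, he⟩)
    exact D.odd_w.ne_one (D.odd_w.eq_one_of_sq (Subgroup.mem_zpowers w) (mul_eq_one_iff_eq_inv.mpr this))
  have hidx : Nat.card (Sylow 5 G) = N.index := P.card_eq_index_normalizer
  have hmod : Nat.card (Sylow 5 G) % 5 = 1 := H62.card_sylow_mod
  have hmul := Subgroup.card_mul_index N
  rw [S.card_G, ← hidx, ← e1] at hmul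
  have hm12 : m ≤ 12 := by omega
  have hm6 : m = 6 := by
    interval_cases m <;> omega
  exact ⟨by rw [← e1, hm6], hm6⟩

/-- Every element of order five lies in one of two classes of subgroups. -/
theorem Five.classes (D : Five S P w s) {a : G} (ha : a ∈ (P : Subgroup G)) (ha1 : a ≠ 1) :
    ∃ g : G, g * a * g⁻¹ ∈ Subgroup.zpowers w ∨ g * a * g⁻¹ ∈ Subgroup.zpowers s := by
  classical
  haveI : Fact (Nat.Prime 3) := ⟨Nat.prime_three⟩
  haveI := Fintype.ofFinite G
  obtain ⟨hN, hm⟩ := D.card_N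
  set N := Subgroup.normalizer ((P : Subgroup G) : Set G)
  obtain ⟨⟨g, hgN⟩, hg3⟩ := exists_prime_orderOf_dvd_card' (G := N) 3 (by rw [hN]; norm_num)
  rw [Subgroup.orderOf_mk] at hg3
  have hg31 : g ^ 3 = 1 := orderOf_dvd_iff_pow_eq_one.mp hg3.dvd
  have hgP : ∀ b ∈ (P : Subgroup G), g * b * g⁻¹ ∈ (P : Subgroup G) := fun b hb =>
    (Subgroup.mem_normalizer_iff.mp hgN b).mp hb
  have hfix : ∀ b ∈ (P : Subgroup G), Commute g b → b = 1 := by
    have hmod := fixed_card_mod hg31 hgP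
    set R := (P : Subgroup G) ⊓ Subgroup.centralizer ({g} : Set G)
    have hd : Nat.card R ∣ 5 ^ 2 := by
      rw [show (5 : ℕ) ^ 2 = 25 by norm_num, ← S.card_P5 P]; exact Subgroup.card_dvd_of_le inf_le_left
    obtain ⟨i, hi, hRc⟩ := (Nat.dvd_prime_pow (by norm_num)).mp hd
    rw [S.card_P5 P, hRc] at hmod
    intro b hb hc
    have hbR : b ∈ R := ⟨hb, Subgroup.mem_centralizer_singleton_iff.mpr hc.symm.eq⟩
    interval_cases i
    · rw [pow_zero, Subgroup.card_eq_one] at hRc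
      exact (Subgroup.eq_bot_iff_forall _).mp hRc b hbR
    · simp [Nat.ModEq] at hmod
    · exfalso
      have hle : (P : Subgroup G) ≤ R :=
        (Subgroup.eq_of_le_of_card_ge inf_le_left (by rw [hRc, S.card_P5 P]; norm_num)).ge
      have hgC : g ∈ Subgroup.centralizer ((P : Subgroup G) : Set G) := mem_cent_set.mpr fun k hk =>
        (show Commute k g from Subgroup.mem_centralizer_singleton_iff.mp (hle hk).2).symm
      rw [D.self_cent] at hgC
      have := orderOf_dvd_natCard (⟨g, hgC⟩ : (P : Subgroup G))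
      rw [Subgroup.orderOf_mk, hg3, S.card_P5 P] at this
      norm_num at this
  have horb : ∀ {b : G}, orb P w b → ∃ k : G, k * b * k⁻¹ = w := fun ⟨n, _, hn⟩ =>
    ⟨n⁻¹, by rw [← hn]; group⟩
  obtain ⟨i, hi, hsi⟩ := D.sz
  have hs5 : s ^ 5 = 1 := orderOf_dvd_iff_pow_eq_one.mp D.so.dvd
  -- the twelve remaining elements
  let B : G → Prop := fun b => b ∈ (P : Subgroup G) ∧ b ≠ 1 ∧ ¬ orb P w b ∧ ¬ ∃ r, orb P w r ∧ r ^ 2 = b
  let φ : Fin 3 × Fin 4 → {b : G // B b} := fun p => ⟨g ^ (p.1 : ℕ) * s ^ ((p.2 : ℕ) + 1) * (g ^ (p.1 : ℕ))⁻¹,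
    by
      have hsp : s ^ ((p.2 : ℕ) + 1) ≠ 1 := fun e => by
        have := Nat.le_of_dvd (by omega) (orderOf_dvd_of_pow_eq_one e)
        rw [D.so] at this
        have := p.2.isLt
        omega
      have hmemP : g ^ (p.1 : ℕ) * s ^ ((p.2 : ℕ) + 1) * (g ^ (p.1 : ℕ))⁻¹ ∈ (P : Subgroup G) :=
        (Subgroup.mem_normalizer_iff.mp (pow_mem hgN _) _).mp (pow_mem D.sP _)
      have hne := inv_ne_one_conj (g := g ^ (p.1 : ℕ)) hsp
      have hzc : ∀ k, Commute (g ^ (p.1 : ℕ) * s ^ ((p.2 : ℕ) + 1) * (g ^ (p.1 : ℕ))⁻¹) k →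
          IsConj (x * c) k → False := fun k hk hky => by
        have ho : orderOf (s ^ ((p.2 : ℕ) + 1)) = 5 :=
          haveI : Fact (Nat.Prime 5) := ⟨by norm_num⟩
          orderOf_eq_prime (by rw [← pow_mul, mul_comm, pow_mul, hs5, one_pow]) hsp
        exact S.two.no_both S.ctx ((show IsOdd _ from Or.inr ho).conj (g := g ^ (p.1 : ℕ)))
          (hi.trans (isConj_iff.mpr ⟨g ^ (p.1 : ℕ), rfl⟩)) hky (conj_commute_iff.mpr (hsi.pow_left _)) hk
      refine ⟨hmemP, hne, fun hr => ?_, fun ⟨r, hr, he⟩ => ?_⟩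
      · obtain ⟨n, -, hn⟩ := hr
        exact hzc (n * (x * c) * n⁻¹) (hn ▸ conj_commute_iff.mpr D.wy) (isConj_iff.mpr ⟨n, rfl⟩)
      · obtain ⟨n, -, hn⟩ := hr
        have hc : Commute r (n * (x * c) * n⁻¹) := hn ▸ conj_commute_iff.mpr D.wy
        exact hzc (n * (x * c) * n⁻¹) (he ▸ hc.pow_left 2) (isConj_iff.mpr ⟨n, rfl⟩)⟩
  have hφ : Function.Injective φ := by
    have key : ∀ (d p q : ℕ), p < 4 → q < 4 → d < 3 →
        g ^ d * s ^ (p + 1) * (g ^ d)⁻¹ = s ^ (q + 1) → d = 0 ∧ p = q := by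
      intro d p q hp hq hd he
      by_cases hd0 : d = 0
      · subst hd0
        refine ⟨rfl, ?_⟩
        rw [pow_zero, one_mul, inv_one, mul_one] at he
        have := (pow_inj_mod).mp he
        rw [D.so] at this
        omega
      exfalso
      set k := g ^ d with hk
      have hk3 : k ^ 3 = 1 := by rw [hk, ← pow_mul, mul_comm, pow_mul, hg31, one_pow]
      -- `k` maps `⟨s⟩` to itself
      have hsk : k * s * k⁻¹ ∈ Subgroup.zpowers s := by
        have hgen : s ∈ Subgroup.zpowers (s ^ (p + 1)) := by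
          obtain ⟨m, hm⟩ := exists_pow_eq_self_of_coprime (x := s) (n := p + 1) (by
            rw [D.so]
            exact ((Nat.Prime.coprime_iff_not_dvd (by norm_num : Nat.Prime 5)).mpr fun hdvd => by
              have := Nat.le_of_dvd (by omega) hdvd; omega).symm)
          exact ⟨(m : ℤ), by simpa using hm⟩
        obtain ⟨j, hj⟩ := Subgroup.mem_zpowers_iff.mp hgen
        rw [← hj, ← conj_zpow, he]
        exact Subgroup.zpow_mem _ (Subgroup.pow_mem _ (by rw [hj]; exact Subgroup.mem_zpowers s) _) _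
      have hkk : Commute k s := by
        obtain ⟨n, hn, hn'⟩ : ∃ n : ℕ, n < 5 ∧ k * s * k⁻¹ = s ^ n := by
          rcases zpowers_five_cases hs5 hsk with e | e | e | e | e
          · exact ⟨0, by norm_num, by rw [e, pow_zero]⟩
          · exact ⟨1, by norm_num, by rw [e, pow_one]⟩
          · exact ⟨2, by norm_num, e⟩
          · exact ⟨3, by norm_num, e⟩
          · exact ⟨4, by norm_num, e⟩
        have h3 : s = s ^ (n * n * n) := by
          calc s = k ^ 3 * s * (k ^ 3)⁻¹ := by rw [hk3, one_mul, inv_one, mul_one]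
            _ = k * (k * (k * s * k⁻¹) * k⁻¹) * k⁻¹ := by rw [pow_succ, pow_two]; group
            _ = s ^ (n * n * n) := by
              simp only [hn', ← conj_pow, ← pow_mul, mul_assoc n]
        have hn1 : n = 1 := by
          have := pow_inj_mod.mp ((pow_one s).trans h3)
          rw [D.so] at this
          interval_cases n <;> omega
        exact mul_inv_eq_iff_eq_mul.mp (by rw [hn', hn1, pow_one])
      have hgs : Commute g s := by
        obtain ⟨m, hm⟩ := exists_pow_eq_self_of_coprime (x := g) (n := d) (by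
          rw [hg3]
          exact ((Nat.Prime.coprime_iff_not_dvd Nat.prime_three).mpr fun hdvd => by
            have := Nat.le_of_dvd (by omega) hdvd; omega).symm)
        rw [← hm]; exact hkk.pow_left m
      exact (show IsOdd s from Or.inr D.so).ne_one (hfix s D.sP hgs)
    rintro ⟨i1, p1⟩ ⟨i2, p2⟩ he
    have e := congrArg Subtype.val he
    simp only [φ] at e
    rcases le_total (i2 : ℕ) i1 with hle | hle
    · obtain ⟨d, hd⟩ := Nat.exists_eq_add_of_le hle
      have := key d p1 p2 p1.isLt p2.isLt (by have := i1.isLt; omega) (by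
        refine mul_left_cancel (a := g ^ (i2 : ℕ)) (mul_right_cancel (b := (g ^ (i2 : ℕ))⁻¹) ?_)
        rw [← e, hd, pow_add]; group)
      exact Prod.ext (Fin.ext (show (i1 : ℕ) = i2 by omega)) (Fin.ext this.2)
    · obtain ⟨d, hd⟩ := Nat.exists_eq_add_of_le hle
      have := key d p2 p1 p2.isLt p1.isLt (by have := i2.isLt; omega) (by
        refine mul_left_cancel (a := g ^ (i1 : ℕ)) (mul_right_cancel (b := (g ^ (i1 : ℕ))⁻¹) ?_)
        rw [e, hd, pow_add]; group)
      exact Prod.ext (Fin.ext (show (i1 : ℕ) = i2 by omega)) (Fin.ext this.2.symm)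
  have hcardB : Nat.card {b : G // B b} ≤ 12 := by
    have hsub := S.card_P5 P
    have h5 : ∀ {r : G}, orb P w r → r ^ 5 = 1 := by
      rintro r ⟨n, -, rfl⟩
      rw [conj_pow, D.w5, mul_one, mul_inv_cancel]
    have hne : ∀ {r : G}, orb P w r → r ≠ 1 := by
      rintro r ⟨n, -, rfl⟩
      exact inv_ne_one_conj D.odd_w.ne_one
    have hsq : ∀ {r : G}, orb P w r → r = (r ^ 2) ^ 3 := fun hr => by
      rw [← pow_mul, show 2 * 3 = 5 + 1 by norm_num, pow_succ, h5 hr, one_mul]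
    let f : Option (({r : G // orb P w r} ⊕ {r : G // orb P w r}) ⊕ {b : G // B b}) → (P : Subgroup G) :=
      fun o => o.elim 1 (Sum.elim
        (Sum.elim (fun r => ⟨r.1, orb_mem D r.2⟩) (fun r => ⟨r.1 ^ 2, pow_mem (orb_mem D r.2) 2⟩))
        (fun b => ⟨b.1, b.2.1⟩))
    have hne2 : ∀ {r : G}, orb P w r → r ^ 2 ≠ 1 := fun hr e => hne hr (by rw [hsq hr, e, one_pow])
    have hf : Function.Injective f := by
      intro p q e
      have e' := congrArg Subtype.val e
      match p, q with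
      | none, none => rfl
      | none, some (Sum.inl (Sum.inl r)) => exact absurd e'.symm (hne r.2)
      | none, some (Sum.inl (Sum.inr r)) => exact absurd e'.symm (hne2 r.2)
      | none, some (Sum.inr b) => exact absurd e'.symm b.2.2.1
      | some (Sum.inl (Sum.inl r)), none => exact absurd e' (hne r.2)
      | some (Sum.inl (Sum.inr r)), none => exact absurd e' (hne2 r.2)
      | some (Sum.inr b), none => exact absurd e' b.2.2.1
      | some (Sum.inl (Sum.inl r)), some (Sum.inl (Sum.inl t)) => rw [Subtype.ext (show r.1 = t.1 from e')]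
      | some (Sum.inl (Sum.inl r)), some (Sum.inl (Sum.inr t)) => exact absurd e' (orb_sq_disjoint D r.2 t.2)
      | some (Sum.inl (Sum.inr r)), some (Sum.inl (Sum.inl t)) => exact absurd e'.symm (orb_sq_disjoint D t.2 r.2)
      | some (Sum.inl (Sum.inr r)), some (Sum.inl (Sum.inr t)) =>
        rw [Subtype.ext (show r.1 = t.1 by rw [hsq r.2, hsq t.2]; exact congrArg (· ^ 3) e')]
      | some (Sum.inl (Sum.inl r)), some (Sum.inr b) => exact absurd ((show r.1 = b.1 from e') ▸ r.2) b.2.2.2.1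
      | some (Sum.inl (Sum.inr r)), some (Sum.inr b) => exact absurd ⟨r.1, r.2, e'⟩ b.2.2.2.2
      | some (Sum.inr b), some (Sum.inl (Sum.inl r)) => exact absurd ((show r.1 = b.1 from e'.symm) ▸ r.2) b.2.2.2.1
      | some (Sum.inr b), some (Sum.inl (Sum.inr r)) => exact absurd ⟨r.1, r.2, e'.symm⟩ b.2.2.2.2
      | some (Sum.inr b), some (Sum.inr t) => rw [Subtype.ext (show b.1 = t.1 from e')]
    have := Nat.card_le_card_of_injective f hf
    rw [Finite.card_option, Nat.card_sum, Nat.card_sum, hm, hsub] at this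
    omega
  by_cases h1 : orb P w a
  · obtain ⟨k, hk⟩ := horb h1
    exact ⟨k, Or.inl (hk ▸ Subgroup.mem_zpowers w)⟩
  by_cases h2 : ∃ r, orb P w r ∧ r ^ 2 = a
  · obtain ⟨r, hr, rfl⟩ := h2
    obtain ⟨k, hk⟩ := horb hr
    refine ⟨k, Or.inl ?_⟩
    rw [← conj_pow, hk]
    exact Subgroup.npow_mem_zpowers w 2
  obtain ⟨p, hp⟩ := (hφ.bijective_of_nat_card_le (by simpa using hcardB)).2 ⟨a, ha, ha1, h1, h2⟩
  refine ⟨(g ^ (p.1 : ℕ))⁻¹, Or.inr ?_⟩
  rw [show a = g ^ (p.1 : ℕ) * s ^ ((p.2 : ℕ) + 1) * (g ^ (p.1 : ℕ))⁻¹ from (congrArg Subtype.val hp).symm,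
    show (g ^ (p.1 : ℕ))⁻¹ * (g ^ (p.1 : ℕ) * s ^ ((p.2 : ℕ) + 1) * (g ^ (p.1 : ℕ))⁻¹) *
      (g ^ (p.1 : ℕ))⁻¹⁻¹ = s ^ ((p.2 : ℕ) + 1) by group]
  exact Subgroup.npow_mem_zpowers s _

theorem sylow_five (S : Full z Q χ u h x c X0) (P : Sylow 5 G) :
    Subgroup.centralizer ((P : Subgroup G) : Set G) = P ∧ Nat.card P = 25 ∧
      Nat.card (Subgroup.normalizer ((P : Subgroup G) : Set G)) = 300 ∧
        ∃ X Y : Subgroup G, Nat.card X = 5 ∧ Nat.card Y = 5 ∧
          (∀ g : G, X.map (MulAut.conj g).toMonoidHom ≠ Y) ∧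
            ∀ W : Subgroup G, Nat.card W = 5 →
              ∃ g : G, W.map (MulAut.conj g).toMonoidHom = X ∨ W.map (MulAut.conj g).toMonoidHom = Y := by
  classical
  haveI : Fact (Nat.Prime 5) := ⟨by norm_num⟩
  obtain ⟨P0, w, s, D⟩ := S.exists_five_data
  obtain ⟨g, hg⟩ := MulAction.exists_smul_eq G P0 P
  set φ := MulAut.conj g
  have hP : (P : Subgroup G) = (P0 : Subgroup G).map φ.toMonoidHom := by
    rw [← hg, Sylow.coe_subgroup_smul]; rfl
  refine ⟨?_, S.card_P5 P, ?_, Subgroup.zpowers w, Subgroup.zpowers s, by rw [Nat.card_zpowers, D.wo],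
    by rw [Nat.card_zpowers, D.so], fun k hk => ?_, fun W hW => ?_⟩
  · conv_rhs => rw [hP, ← D.self_cent]
    ext a
    rw [Subgroup.mem_map_equiv, mem_cent_set, mem_cent_set]
    constructor
    · intro ha b hb
      have h1 : φ b ∈ (P : Subgroup G) := by rw [hP]; exact ⟨b, hb, rfl⟩
      have h2 := (ha _ h1).map φ.symm
      rwa [φ.symm_apply_apply] at h2
    · intro ha b hb
      rw [hP, Subgroup.mem_map_equiv] at hb
      have h2 := (ha _ hb).map φ
      rwa [φ.apply_symm_apply, φ.apply_symm_apply] at h2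
  · rw [← D.card_N.1, hP, ← Subgroup.map_normalizer_eq_of_bijective _ φ.bijective]
    exact (Nat.card_congr ((Subgroup.normalizer ((P0 : Subgroup G) : Set G)).equivMapOfInjective _
      φ.injective).toEquiv).symm
  · obtain ⟨i, hi, hsi⟩ := D.sz
    have hm : k * w * k⁻¹ ∈ Subgroup.zpowers s := hk ▸ ⟨w, Subgroup.mem_zpowers w, rfl⟩
    obtain ⟨j, hj⟩ := Subgroup.mem_zpowers_iff.mp hm
    exact S.two.no_both S.ctx (D.odd_w.conj (g := k)) hi (isConj_iff.mpr ⟨k, rfl⟩)
      (hj ▸ hsi.zpow_left j) (conj_commute_iff.mpr D.wy)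
  · obtain ⟨R, hR⟩ := (IsPGroup.of_card (n := 1) (by rw [hW, pow_one]) : IsPGroup 5 W).exists_le_sylow
    obtain ⟨k, hk⟩ := MulAction.exists_smul_eq G R P0
    obtain ⟨a, haW, ha1⟩ : ∃ a ∈ W, a ≠ 1 := by
      by_contra! hall
      rw [(Subgroup.eq_bot_iff_forall _).mpr hall, Subgroup.card_bot] at hW
      norm_num at hW
    have hao : orderOf a = 5 := by
      have h1 := orderOf_dvd_natCard (⟨a, haW⟩ : W)
      rw [Subgroup.orderOf_mk, hW] at h1
      exact ((Nat.dvd_prime (by norm_num)).mp h1).resolve_left (fun e => ha1 (orderOf_eq_one_iff.mp e))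
    have hWa : W = Subgroup.zpowers a := (Subgroup.eq_of_le_of_card_ge (Subgroup.zpowers_le.mpr haW)
      (by rw [Nat.card_zpowers, hao, hW])).symm
    have hka : k * a * k⁻¹ ∈ (P0 : Subgroup G) := by
      rw [← hk, Sylow.coe_subgroup_smul]; exact ⟨a, hR haW, rfl⟩
    obtain ⟨l, hl⟩ := D.classes hka (inv_ne_one_conj ha1)
    have hmap : ∀ v : G, orderOf v = 5 → l * (k * a * k⁻¹) * l⁻¹ ∈ Subgroup.zpowers v →
        W.map (MulAut.conj (l * k)).toMonoidHom = Subgroup.zpowers v := by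
      intro v hv hm
      rw [hWa, MonoidHom.map_zpowers]
      refine Subgroup.eq_of_le_of_card_ge (Subgroup.zpowers_le.mpr ?_) (le_of_eq ?_)
      · show l * k * a * (l * k)⁻¹ ∈ Subgroup.zpowers v
        rwa [show l * k * a * (l * k)⁻¹ = l * (k * a * k⁻¹) * l⁻¹ by group]
      · rw [Nat.card_zpowers, Nat.card_zpowers, hv]
        exact hao.symm.trans (orderOf_injective (MulAut.conj (l * k)).toMonoidHom
          (MulAut.conj (l * k)).injective a).symm
    exact ⟨l * k, hl.imp (hmap w D.wo) (hmap s D.so)⟩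

end Full

end H36.HJ
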