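import Cfsg.Agent.H36.HJ.Invol

/-!
Groups of Hall–Janko type, part 4: involution classes and the fusion inside `C(z) ∩ C(xc)`.
-/

set_option autoImplicit false

namespace H36.HJ

local notation "A5" => alternatingGroup (Fin 5)

variable {G : Type*} [Group G] [Finite G]
variable {z : G} {Q : Subgroup G} {χ : Subgroup.centralizer ({z} : Set G) →* A5}

theorem Hyp.isPGroup_Q (H : Hyp z Q χ) : IsPGroup 2 Q := IsPGroup.of_card (n := 5) (by rw [H.card]; norm_num)

/-- Every involution of `G` is conjugate to one of the centraliser of `z`. -/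
theorem Hyp.exists_conj_commute (H : Hyp z Q χ) {t : G} (ht : t * t = 1) :
    ∃ g : G, Commute (g * t * g⁻¹) z := by
  classical
  haveI : Fact (Nat.Prime 2) := ⟨Nat.prime_two⟩
  set C := Subgroup.centralizer ({z} : Set G)
  obtain ⟨P⟩ : Nonempty (Sylow 2 C) := inferInstance
  set S0 := (P : Subgroup C).map C.subtype with hS0
  have hS0p : IsPGroup 2 S0 := P.2.map _
  have hS0C : S0 ≤ C := Subgroup.map_subtype_le _
  have hQS : Q ≤ S0 := by
    set R' := Q.subgroupOf C
    have hn : (P : Subgroup C) ≤ Subgroup.normalizer (R' : Set C) := by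
      intro w _
      rw [Subgroup.mem_normalizer_iff]
      intro y
      refine ⟨fun hy => H.conj_memQ (mem_C.mp w.2) hy, fun hy => ?_⟩
      have h2 := H.conj_memQ' (mem_C.mp w.2) hy
      show (y : G) ∈ Q
      simpa [mul_assoc] using h2
    have hp : IsPGroup 2 R' := H.isPGroup_Q.comap_of_injective C.subtype Subtype.val_injective
    have hle := (P.is_maximal' (hp.to_sup_of_normal_left' P.2 hn) le_sup_right).le
    intro r hr
    exact ⟨⟨r, H.le hr⟩, hle (Subgroup.mem_sup_left hr), rfl⟩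
  have hc128 : Nat.card S0 = 128 := by
    rw [hS0, ← Nat.card_congr ((P : Subgroup C).equivMapOfInjective C.subtype Subtype.val_injective).toEquiv,
      Sylow.card_eq_multiplicity, H.card_C, show 1920 = 2 ^ 7 * 15 by norm_num,
      Nat.factorization_mul (by norm_num) (by norm_num), Finsupp.add_apply,
      Nat.Prime.factorization_pow Nat.prime_two, Finsupp.single_eq_same,
      Nat.factorization_eq_zero_of_not_dvd (by norm_num : ¬ 2 ∣ 15)]
    norm_num
  -- `S0` is a Sylow subgroup of `G`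
  obtain ⟨S, hS⟩ := hS0p.exists_le_sylow
  have hSeq : (S : Subgroup G) = S0 := by
    by_contra hne
    have hlt : S0.subgroupOf (S : Subgroup G) < ⊤ := lt_top_iff_ne_top.mpr fun e =>
      hne (le_antisymm (Subgroup.subgroupOf_eq_top.mp e) hS)
    haveI : Group.IsNilpotent (S : Subgroup G) := S.2.isNilpotent
    obtain ⟨⟨g, hg⟩, hgn, hgS⟩ := SetLike.exists_of_lt (Group.normalizerCondition_of_isNilpotent _ hlt)
    rw [Subgroup.mem_subgroupOf] at hgS
    have hnorm : ∀ w ∈ S0, g * w * g⁻¹ ∈ S0 := fun w hw =>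
      (Subgroup.mem_normalizer_iff.mp hgn ⟨w, hS hw⟩).mp hw
    have hnorm' : ∀ w ∈ S0, g⁻¹ * w * g ∈ S0 := fun w hw =>
      Subgroup.mem_subgroupOf.mp ((Subgroup.mem_normalizer_iff''.mp hgn ⟨w, hS hw⟩).mp hw)
    have hgz : Commute g z := by
      have hw : g * z * g⁻¹ ∈ S0 := hnorm z (hQS H.zmem)
      have hcomm : ∀ q ∈ S0, Commute (g * z * g⁻¹) q := fun q hq => by
        have hc : Commute (g⁻¹ * q * g) z := mem_C.mp (hS0C (hnorm' q hq))
        have := hc.map (MulAut.conj g)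
        simpa [mul_assoc] using this.symm
      have hQ' : g * z * g⁻¹ ∈ Q :=
        H.self _ (mem_C.mp (hS0C hw)) fun q hq => hcomm q (hQS hq)
      rcases H.center_mem hQ' fun q hq => hcomm q (hQS hq) with e | e
      · exact absurd (conj_eq_one_iff.mp e) H.z_ne
      · exact mul_inv_eq_iff_eq_mul.mp e
    -- a larger 2-subgroup of the centraliser
    set g' : C := ⟨g, mem_C.mpr hgz⟩
    have hp1 : IsPGroup 2 ((P : Subgroup C) ⊔ Subgroup.zpowers g' : Subgroup C) := by
      refine ((S.2.comap_of_injective C.subtype Subtype.val_injective)).to_le (sup_le ?_ ?_)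
      · intro w hw; exact hS ⟨w, hw, rfl⟩
      · rw [Subgroup.zpowers_le]; exact hg
    have heq := P.is_maximal' hp1 le_sup_left
    exact hgS ⟨g', heq ▸ Subgroup.mem_sup_right (Subgroup.mem_zpowers g'), rfl⟩
  obtain ⟨T, hT⟩ : ∃ T : Sylow 2 G, Subgroup.zpowers t ≤ T := by
    refine IsPGroup.exists_le_sylow ?_
    rintro ⟨_, i, rfl⟩
    refine ⟨1, Subtype.ext ?_⟩
    show (t ^ i) ^ 2 ^ 1 = 1
    rw [← zpow_natCast, ← zpow_mul, mul_comm, zpow_mul, pow_one, show ((2 : ℕ) : ℤ) = 2 from rfl, zpow_two,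
      ht, one_zpow]
  obtain ⟨g, hg⟩ := MulAction.exists_smul_eq G T S
  refine ⟨g, mem_C.mp (hS0C ?_)⟩
  rw [← hSeq, ← hg, Sylow.coe_subgroup_smul]
  exact ⟨t, hT (Subgroup.mem_zpowers t), rfl⟩

theorem Hyp.invol_cases (H : Hyp z Q χ) {u h x c : G} (K : Ctx z Q u h x c) {t : G}
    (ht : orderOf t = 2) : IsConj z t ∨ IsConj (x * c) t := by
  have ht2 : t * t = 1 := by rw [← pow_two, ← ht, pow_orderOf_eq_one]
  have ht1 : t ≠ 1 := fun e => by rw [e, orderOf_one] at ht; omega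
  obtain ⟨g, hg⟩ := H.exists_conj_commute ht2
  have hconj : IsConj t (g * t * g⁻¹) := isConj_iff.mpr ⟨g, rfl⟩
  have h2 : g * t * g⁻¹ * (g * t * g⁻¹) = 1 := by
    rw [show g * t * g⁻¹ * (g * t * g⁻¹) = g * (t * t) * g⁻¹ by group, ht2]; group
  by_cases hQ : g * t * g⁻¹ ∈ Q
  · left
    by_cases hz : g * t * g⁻¹ = z
    · rw [hz] at hconj; exact hconj.symm
    · exact (H.sat_isConj ⟨hQ, h2, by simpa using ht1, hz⟩).trans hconj.symm
  · right
    obtain ⟨k, -, hk⟩ := H.invol_conj K hg h2 hQ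
    exact (isConj_iff.mpr ⟨k, hk⟩).trans hconj.symm

/-- The hypothesis including two classes of involutions. -/
structure Two (z : G) (Q : Subgroup G) (χ : Subgroup.centralizer ({z} : Set G) →* A5) : Prop where
  toHyp : Hyp z Q χ
  hcl : ∃ a b : G, orderOf a = 2 ∧ orderOf b = 2 ∧ ¬ IsConj a b

theorem Two.nconj (W : Two z Q χ) {u h x c : G} (K : Ctx z Q u h x c) : ¬ IsConj z (x * c) := by
  intro hc
  obtain ⟨a, b, ha, hb, hab⟩ := W.hcl
  refine hab ?_
  rcases W.toHyp.invol_cases K ha with e | e <;> rcases W.toHyp.invol_cases K hb with e' | e'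
  exacts [e.symm.trans e', (e.symm.trans hc).trans e', (hc.trans e).symm.trans e', e.symm.trans e']

/-- An involution commuting with `z` and not conjugate to it lies outside `Q`. -/
theorem Hyp.not_mem_of_nconj (H : Hyp z Q χ) {y : G} (hy2 : y * y = 1) (hy1 : y ≠ 1)
    (hn : ¬ IsConj z y) : y ∉ Q := fun hQ => by
  by_cases hz : y = z
  · exact hn (hz ▸ IsConj.refl z)
  · exact hn (H.sat_isConj ⟨hQ, hy2, hy1, hz⟩)

namespace Ctx

variable {u h x c : G}

theorem exists_other (H : Hyp z Q χ) (K : Ctx z Q u h x c) :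
    ∃ x' r, x' ∈ BB Q u h ∧ ¬ InE z u x' ∧ ¬ InE z u (x⁻¹ * x') ∧ r * x'⁻¹ ∈ Q ∧ Commute r z ∧
      Commute r (x * c) := by
  have P := K.pair
  have hcB : h⁻¹ * c * h ∈ BB Q u h := by
    rw [mem_BB]
    have h1 : Commute (h * h) z := by
      show h * h * z = z * (h * h)
      calc h * h * z = h * (h * z * h⁻¹) * h := by group
        _ = (h * u * h⁻¹) * (h * h) := by rw [P.hz]; group
        _ = z * (h * h) := by rw [P.hu]
    have h2 : Commute (h * h) u := by
      show h * h * u = u * (h * h)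
      calc h * h * u = h * (h * u * h⁻¹) * h := by group
        _ = (h * z * h⁻¹) * (h * h) := by rw [P.hu]; group
        _ = u * (h * h) := by rw [P.hz]
    have := P.conjA H h1.inv_left h2.inv_left K.hc
    simpa [mul_assoc] using this
  have hcn : ¬ InE z u (h⁻¹ * c * h) := fun e => K.c_notE H (by
    have := P.inE_conj H e
    simpa [mul_assoc] using this)
  obtain ⟨-, d', -, -, hd', hd'n, hd'x, -, -⟩ := P.exists_d H hcB hcn
  set x' := h * d' * h⁻¹
  have hx' : x' ∈ BB Q u h := Pair.A_to_B hd'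
  have hx'n : ¬ InE z u x' := P.not_inE_conj H hd'n
  have hcx' : Commute c x' := by
    have := hd'x.map (MulAut.conj h)
    simpa [x', mul_assoc] using this.symm
  obtain ⟨hx'z, hx'u⟩ := P.B_comm H hx'
  have hxx' : ¬ InE z u (x⁻¹ * x') := fun e => P.uz_ne_one H (by
    have h3 : Commute c (x' * (x⁻¹ * x')⁻¹) :=
      hcx'.mul_right (P.inE_comm ((P.inE_inv H e).symm ▸ e) (H.comm_z (mem_AA.mp K.hc).1) (mem_AA.mp K.hc).2)
    rw [show x' * (x⁻¹ * x')⁻¹ = x by group, ← dl_eq_one, K.hdl] at h3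
    exact h3)
  obtain ⟨-, d, -, -, hd, hdn, hdx, -, -⟩ := P.exists_d H K.hx (K.x_notE H)
  have hdc : d * c ∈ AA Q u := mul_mem hd K.hc
  have hcd : ¬ Commute c d := fun e' => P.uz_ne_one H (by
    rw [← K.hdl, P.dl_coset H K.hx hd (P.A_coset H hd K.hc hdn (K.c_notE H) e'.symm)]
    exact dl_eq_one.mpr hdx)
  have hn : ¬ Commute c (d * c) := fun e' => hcd (by
    have := e'.mul_right (Commute.refl c).inv_right
    rwa [mul_inv_cancel_right] at this)
  refine ⟨x', x' * (d * c), hx', hx'n, hxx', ?_, hx'z.mul_left (H.comm_z (mem_AA.mp hdc).1), ?_⟩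
  · exact H.conj_memQ hx'z (mem_AA.mp hdc).1
  · have h1 : x'⁻¹ * (x * c) * x' = x * c * u := by
      have hxu := P.B_noncomm H K.hx hx' (K.x_notE H) hx'n hxx'
      calc x'⁻¹ * (x * c) * x' = x'⁻¹ * (x * (c * x')) := by group
        _ = x'⁻¹ * (x * x') * c := by rw [hcx'.eq]; group
        _ = x * (u * c) := by rw [hxu]; group
        _ = x * c * u := by rw [← (mem_AA.mp K.hc).2.eq]; group
    have h2 : (d * c)⁻¹ * (x * c) * (d * c) = x * c * u := by
      rw [K.conj_A H hdc, P.dl_mul H K.hx hd K.hc, dl_eq_one.mpr hdx, one_mul, K.hdl,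
        ((K.comm_A_cases H hdc).resolve_left fun e' => hn e'.2).1, mul_assoc u z z, H.zz, mul_one]
    have h3 : (x' * (d * c))⁻¹ * (x * c) * (x' * (d * c)) = x * c := by
      rw [show (x' * (d * c))⁻¹ * (x * c) * (x' * (d * c)) =
          (d * c)⁻¹ * (x'⁻¹ * (x * c) * x') * (d * c) by group, h1,
        show (d * c)⁻¹ * (x * c * u) * (d * c) = (d * c)⁻¹ * (x * c) * (u * (d * c)) by group,
        ← (mem_AA.mp hdc).2.eq,
        show (d * c)⁻¹ * (x * c) * (d * c * u) = (d * c)⁻¹ * (x * c) * (d * c) * u by group, h2,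
        mul_assoc _ u u, P.uu, mul_one]
    show x' * (d * c) * (x * c) = x * c * (x' * (d * c))
    rw [mul_assoc (x' * (d * c))⁻¹, inv_mul_eq_iff_eq_mul] at h3
    exact h3.symm

end Ctx

/-- The intersection of the centralisers of `z` and `y`. -/
def TT (z y : G) : Subgroup G := Subgroup.centralizer ({z} : Set G) ⊓ Subgroup.centralizer ({y} : Set G)

theorem mem_TT {z y r : G} : r ∈ TT z y ↔ Commute r z ∧ Commute r y :=
  and_congr Subgroup.mem_centralizer_singleton_iff Subgroup.mem_centralizer_singleton_iff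

theorem TT_map (g z y : G) :
    TT (g * z * g⁻¹) (g * y * g⁻¹) = (TT z y).map (MulAut.conj g).toMonoidHom := by
  ext r
  rw [mem_TT]
  constructor
  · rintro ⟨h1, h2⟩
    refine ⟨g⁻¹ * r * g, mem_TT.mpr ⟨?_, ?_⟩, by simp [mul_assoc]⟩
    · have := h1.map (MulAut.conj g⁻¹)
      simpa [mul_assoc] using this
    · have := h2.map (MulAut.conj g⁻¹)
      simpa [mul_assoc] using this
  · rintro ⟨s, hs, rfl⟩
    obtain ⟨h1, h2⟩ := mem_TT.mp hs
    exact ⟨by simpa using h1.map (MulAut.conj g), by simpa using h2.map (MulAut.conj g)⟩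

theorem Ctx.mem_TT_of_inE (H : Hyp z Q χ) {u h x c : G} (K : Ctx z Q u h x c) {g : G} (hg : InE z u g) :
    g ∈ TT z (x * c) :=
  mem_TT.mpr ⟨H.comm_z (mem_AA.mp (K.pair.inE_mem_A H hg)).1,
    (K.pair.inE_comm hg (K.comm_z H) (K.comm_u H)).symm⟩

theorem Ctx.card_TT (H : Hyp z Q χ) {u h x c : G} (K : Ctx z Q u h x c) :
    Nat.card (TT z (x * c)) = 16 := by
  classical
  have P := K.pair
  set T := TT z (x * c) with hT
  let f : T →* A5 := χ.comp (Subgroup.inclusion inf_le_left)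
  have hf : ∀ r : T, f r = img χ (mem_TT.mp r.2).1 := fun r => rfl
  have hker : Nat.card f.ker = 4 := by
    have h4 : Nat.card {g : G // InE z u g} = 4 := by
      haveI := Fintype.ofFinite G
      rw [Nat.card_eq_fintype_card, Fintype.card_subtype,
        show (Finset.univ.filter fun g => InE z u g) = {1, z, u, u * z} by
          ext g
          rw [Finset.mem_filter]
          simp [InE],
        Finset.card_insert_of_notMem, Finset.card_insert_of_notMem, Finset.card_insert_of_notMem,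
        Finset.card_singleton]
      · simp only [Finset.mem_singleton]; exact fun e => H.z_ne (mul_eq_left.mp e.symm)
      · simp only [Finset.mem_insert, Finset.mem_singleton, not_or]
        exact ⟨P.u_ne.symm, P.uz_ne_z.symm⟩
      · simp only [Finset.mem_insert, Finset.mem_singleton, not_or]
        exact ⟨H.z_ne.symm, P.u_ne_one.symm, (P.uz_ne_one H).symm⟩
    rw [← h4]
    refine Nat.card_congr
      { toFun := fun r => ⟨((r : T) : G), K.cent_Q H ((H.img_eq_one (mem_TT.mp (r : T).2).1).mp r.2) (mem_TT.mp (r : T).2).2.symm⟩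
        invFun := fun g => ⟨⟨g.1, K.mem_TT_of_inE H g.2⟩,
          (H.img_eq_one (mem_TT.mp (K.mem_TT_of_inE H g.2)).1).mpr (mem_AA.mp (P.inE_mem_A H g.2)).1⟩
        left_inv := fun r => rfl
        right_inv := fun r => rfl }
  have hrange : Nat.card f.range = 4 := by
    obtain ⟨x', r, hx', hx'n, hxx', hrQ, hrz, hry⟩ := K.exists_other H
    have hxz := (P.B_comm H K.hx).1
    have hx'z := (P.B_comm H hx').1
    set τ := img χ (K.comm_z H)
    set σ := img χ hrz
    have hτx : τ = img χ hxz := by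
      rw [H.img_eq_iff, show (x * c)⁻¹ * x = c⁻¹ by group]
      exact inv_mem (mem_AA.mp K.hc).1
    have hσx : σ = img χ hx'z := by
      rw [H.img_eq_iff]
      have := H.conj_memQ' hrz (inv_mem hrQ)
      simpa [mul_assoc] using this
    have hτ1 : τ ≠ 1 := fun e => K.not_mem H ((H.img_eq_one _).mp e)
    have hτ2 : τ * τ = 1 := by
      rw [← H.img_mul (K.comm_z H) (K.comm_z H)]
      exact (H.img_eq_one _).mpr (by rw [K.sq H]; exact one_mem Q)
    have hσ1 : σ ≠ 1 := fun e => P.B_not_mem H hx' hx'n ((H.img_eq_one _).mp (hσx ▸ e))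
    have hτσ : τ ≠ σ := fun e => hxx' (P.B_inter_Q H (mul_mem (inv_mem K.hx) hx')
      ((H.img_eq_iff hxz hx'z).mp (hτx ▸ hσx ▸ e)))
    have hle : (f.range : Set A5).toFinset ⊆ Finset.univ.filter fun b => τ * b = b * τ := by
      intro b hb
      rw [Set.mem_toFinset] at hb
      obtain ⟨s, rfl⟩ := hb
      rw [Finset.mem_filter]
      refine ⟨Finset.mem_univ _, ?_⟩
      rw [hf, ← H.img_mul (K.comm_z H) (mem_TT.mp s.2).1, ← H.img_mul (mem_TT.mp s.2).1 (K.comm_z H),
        H.img_eq_iff, (mem_TT.mp s.2).2.eq, inv_mul_cancel]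
      exact one_mem Q
    have hge : ({1, τ, σ, τ * σ} : Finset A5) ⊆ (f.range : Set A5).toFinset := by
      intro b hb
      rw [Set.mem_toFinset]
      simp only [Finset.mem_insert, Finset.mem_singleton] at hb
      have m1 : τ ∈ f.range := ⟨⟨x * c, mem_TT.mpr ⟨K.comm_z H, Commute.refl _⟩⟩, rfl⟩
      have m2 : σ ∈ f.range := ⟨⟨r, mem_TT.mpr ⟨hrz, hry⟩⟩, rfl⟩
      rcases hb with rfl | rfl | rfl | rfl
      exacts [one_mem _, m1, m2, mul_mem m1 m2]
    have hc4 : ({1, τ, σ, τ * σ} : Finset A5).card = 4 := by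
      rw [Finset.card_insert_of_notMem, Finset.card_insert_of_notMem, Finset.card_insert_of_notMem,
        Finset.card_singleton]
      · simp only [Finset.mem_singleton]; exact fun e => hτ1 (mul_eq_right.mp e.symm)
      · simp only [Finset.mem_insert, Finset.mem_singleton, not_or]
        exact ⟨hτσ, fun e => hσ1 (mul_eq_left.mp e.symm)⟩
      · simp only [Finset.mem_insert, Finset.mem_singleton, not_or]
        refine ⟨hτ1.symm, hσ1.symm, fun e => hτσ ?_⟩
        rw [← inv_eq_of_mul_eq_one_right hτ2]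
        exact inv_eq_of_mul_eq_one_right e.symm
    have h1 := Finset.card_le_card hle
    have h2 := Finset.card_le_card hge
    rw [a5_cent_invol τ hτ2 hτ1] at h1
    rw [hc4] at h2
    rw [Nat.card_eq_fintype_card]
    have : (f.range : Set A5).toFinset.card = Fintype.card f.range := Set.toFinset_card _
    omega
  rw [← Subgroup.card_mul_index f.ker, hker, Subgroup.index_ker, hrange]

/-- Centralisers of commuting involutions from the two classes. -/
theorem Two.card_TT (W : Two z Q χ) {w y : G} (hw : IsConj z w) (hy2 : y * y = 1) (hy1 : y ≠ 1)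
    (hn : ¬ IsConj z y) (hc : Commute y w) :
    Nat.card (TT w y) = 16 ∧ ∀ r ∈ TT w y, r * r = 1 := by
  obtain ⟨u, h, x, c, K⟩ := W.toHyp.exists_ctx
  obtain ⟨g, rfl⟩ := isConj_iff.mp hw
  have hy' : Commute (g⁻¹ * y * g) z := by
    have := hc.map (MulAut.conj g⁻¹)
    simpa [mul_assoc] using this
  have h2' : g⁻¹ * y * g * (g⁻¹ * y * g) = 1 := by
    rw [show g⁻¹ * y * g * (g⁻¹ * y * g) = g⁻¹ * (y * y) * g by group, hy2]; group
  have hconj : IsConj y (g⁻¹ * y * g) := isConj_iff.mpr ⟨g⁻¹, by group⟩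
  have hQ : g⁻¹ * y * g ∉ Q :=
    W.toHyp.not_mem_of_nconj h2' (fun e => hy1 (by
      calc y = g * (g⁻¹ * y * g) * g⁻¹ := by group
        _ = 1 := by rw [e]; group)) fun e => hn (e.trans hconj.symm)
  obtain ⟨k, hkz, hk⟩ := W.toHyp.invol_conj K hy' h2' hQ
  have hkz' : g * k * z * (g * k)⁻¹ = g * z * g⁻¹ := by
    rw [show g * k * z * (g * k)⁻¹ = g * (k * z * k⁻¹) * g⁻¹ by group, hkz.eq, mul_inv_cancel_right]
  have hky : g * k * (x * c) * (g * k)⁻¹ = y := by
    rw [show g * k * (x * c) * (g * k)⁻¹ = g * (k * (x * c) * k⁻¹) * g⁻¹ by group, hk]; group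
  have hmap := TT_map (g * k) z (x * c)
  rw [hkz', hky] at hmap
  rw [hmap]
  refine ⟨?_, ?_⟩
  · rw [← Nat.card_congr ((TT z (x * c)).equivMapOfInjective _ (MulEquiv.injective _)).toEquiv,
      K.card_TT W.toHyp]
  · rintro _ ⟨s, hs, rfl⟩
    show (MulAut.conj (g * k)) s * (MulAut.conj (g * k)) s = 1
    rw [← map_mul, K.cent_sq W.toHyp (mem_TT.mp hs).1 (mem_TT.mp hs).2, map_one]

theorem Hyp.card_C_inf (H : Hyp z Q χ) {u : G} (hu : Hyp.Sat z Q u) :
    Nat.card (TT z u) = 192 := by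
  classical
  set C := Subgroup.centralizer ({z} : Set G)
  set u' : C := ⟨u, H.le hu.1⟩
  have e1 := H65.card_conjugates_mul u'
  have h10 : Nat.card {w : C // IsConj u' w} = 10 := by
    rw [← H.sat_main.1]
    refine Nat.card_congr
      { toFun := fun w => ⟨((w : C) : G), ?_⟩
        invFun := fun w => ⟨⟨w.1, H.le w.2.1⟩, ?_⟩
        left_inv := fun w => rfl
        right_inv := fun w => rfl }
    · obtain ⟨⟨k, hk⟩, he⟩ := isConj_iff.mp w.2
      rw [← he]
      exact H.sat_conj hu (mem_C.mp hk)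
    · obtain ⟨k, hk, he⟩ := H.sat_main.2 u w.1 hu w.2
      exact isConj_iff.mpr ⟨⟨k, mem_C.mpr hk⟩, Subtype.ext he⟩
  rw [h10, H.card_C] at e1
  have hcent : Nat.card (Subgroup.centralizer ({u'} : Set C)) = Nat.card (TT z u) := by
    refine Nat.card_congr
      { toFun := fun w => ⟨((w : C) : G), mem_TT.mpr ⟨mem_C.mp (w : C).2,
          congrArg Subtype.val (Subgroup.mem_centralizer_singleton_iff.mp w.2)⟩⟩
        invFun := fun w => ⟨⟨w.1, mem_C.mpr (mem_TT.mp w.2).1⟩,
          Subgroup.mem_centralizer_singleton_iff.mpr (Subtype.ext (mem_TT.mp w.2).2.eq)⟩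
        left_inv := fun w => rfl
        right_inv := fun w => rfl }
  omega

/-- Elements permuting `{z, u, uz}` cyclically and fixing `xc`. -/
theorem Two.exists_cycle (W : Two z Q χ) {u h x c : G} (K : Ctx z Q u h x c) :
    ∃ n : G, Commute n (x * c) ∧ n * z * n⁻¹ = u ∧ n * u * n⁻¹ = u * z := by
  classical
  have H := W.toHyp
  have P := K.pair
  haveI : Fact (Nat.Prime 3) := ⟨Nat.prime_three⟩
  obtain ⟨⟨w, hw⟩, hwo⟩ := exists_prime_orderOf_dvd_card' (G := TT z u) 3
    (by rw [H.card_C_inf P.sat]; norm_num)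
  rw [Subgroup.orderOf_mk] at hwo
  obtain ⟨hwz, hwu⟩ := mem_TT.mp hw
  have hw3 : w ^ 3 = 1 := hwo ▸ pow_orderOf_eq_one w
  have hwQ : w ∉ Q := fun e => by
    have := orderOf_dvd_natCard (⟨w, e⟩ : Q)
    rw [Subgroup.orderOf_mk, hwo, H.card] at this
    norm_num at this
  have hwi3 : img χ hwz ^ 3 = 1 := by
    rw [img, ← map_pow, H.ker]
    show w ^ 3 ∈ Q
    rw [hw3]; exact one_mem Q
  have hwi1 : img χ hwz ≠ 1 := fun e => hwQ ((H.img_eq_one hwz).mp e)
  -- relation: conjugate under `C(z) ∩ C(u)`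
  let R : G → G → Prop := fun a b => ∃ k, Commute k z ∧ Commute k u ∧ k * a * k⁻¹ = b
  have Rsymm : ∀ a b, R a b → R b a := by
    rintro a b ⟨k, h1, h2, rfl⟩
    exact ⟨k⁻¹, h1.inv_left, h2.inv_left, by group⟩
  have Rtrans : ∀ a b d, R a b → R b d → R a d := by
    rintro a b d ⟨k, h1, h2, rfl⟩ ⟨l, h3, h4, rfl⟩
    exact ⟨l * k, h3.mul_left h1, h4.mul_left h2, by group⟩
  obtain ⟨a, d, haQ, haA, hd, hdn, hdx, -, -⟩ := P.exists_d H K.hx (K.x_notE H)
  obtain ⟨c2, K2, -, hn2⟩ := K.conj_out H haQ haA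
  have hxz := (P.B_comm H K.hx).1
  -- every involution of `C(z) ∩ C(u)` outside `Q` is related to `xc` or `xc2`
  have horb : ∀ y, Commute y z → Commute y u → y * y = 1 → y ∉ Q → R (x * c) y ∨ R (x * c2) y := by
    intro y hyz hyu hy2 hyQ
    obtain ⟨x', hx', hx'Q⟩ := H.invol_in_B P hyz hyu hy2
    have hx'n : ¬ InE z u x' := fun e => hyQ (by
      have := mul_mem (mem_AA.mp (P.inE_mem_A H e)).1 hx'Q
      rwa [mul_inv_cancel_left] at this)
    -- the three conjugates of `x` under `w`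
    have hsq1 : img χ hxz * img χ hxz = 1 := by
      rw [← H.img_mul hxz hxz]
      exact (H.img_eq_one _).mpr (by rw [P.B_sq H K.hx (K.x_notE H)]; exact P.sat.1)
    have hne1 : img χ hxz ≠ 1 := fun e => P.B_not_mem H K.hx (K.x_notE H) ((H.img_eq_one _).mp e)
    have hconjx : ∀ {k : G}, Commute k z → Commute k u → k * x * k⁻¹ ∈ BB Q u h := fun hk hk' =>
      P.conjB H hk hk' K.hx
    set x1 := w * x * w⁻¹
    set x2 := w⁻¹ * x * w
    have hx1 : x1 ∈ BB Q u h := hconjx hwz hwu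
    have hx2 : x2 ∈ BB Q u h := by simpa using hconjx hwz.inv_left hwu.inv_left
    have hnfix : ∀ {k : G} (hk : Commute k z), img χ hk ^ 3 = 1 → img χ hk ≠ 1 →
        ¬ InE z u (x⁻¹ * (k * x * k⁻¹)) := by
      intro k hk h3 h1 he
      have e := (H.img_eq_iff hxz ((hk.mul_left hxz).mul_left hk.inv_left)).mpr
        (mem_AA.mp (P.inE_mem_A H he)).1
      rw [H.img_conj hk hxz, eq_mul_inv_iff_mul_eq] at e
      exact a5_invol_three _ _ hsq1 hne1 h3 h1 e
    have hwi : img χ hwz.inv_left = (img χ hwz)⁻¹ := map_inv χ ⟨w, mem_C.mpr hwz⟩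
    have h01 : ¬ InE z u (x⁻¹ * x1) := hnfix hwz hwi3 hwi1
    have h02 : ¬ InE z u (x⁻¹ * x2) := by
      have := hnfix hwz.inv_left (by rw [hwi, inv_pow, hwi3, inv_one]) (by rw [hwi]; simpa using hwi1)
      simpa using this
    have h12 : ¬ InE z u (x1⁻¹ * x2) := by
      intro he
      have hw2 : img χ (hwz.mul_left hwz) ^ 3 = 1 := by
        rw [H.img_mul hwz hwz, ← pow_two, ← pow_mul, mul_comm, pow_mul, hwi3, one_pow]
      refine hnfix (hwz.mul_left hwz) hw2 (fun e => hwi1 ?_) ?_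
      · rw [H.img_mul hwz hwz] at e
        have := hwi3
        rwa [pow_succ, pow_two, e, one_mul] at this
      · -- conjugate `x2⁻¹ x1` by `w`
        have he' : InE z u (x2⁻¹ * x1) := by
          have := P.inE_inv H he
          rw [mul_inv_rev, inv_inv] at this
          exact this ▸ he
        have hcm : Commute w (x2⁻¹ * x1) := P.inE_comm he' hwz hwu
        have e : x⁻¹ * (w * w * x * (w * w)⁻¹) = x2⁻¹ * x1 := by
          calc x⁻¹ * (w * w * x * (w * w)⁻¹) = w * (x2⁻¹ * x1) * w⁻¹ := by simp only [x1, x2]; group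
            _ = x2⁻¹ * x1 := by rw [hcm.eq, mul_inv_cancel_right]
        rw [e]; exact he'
    -- `x'` is congruent to one of them
    have hcl : ∀ v, ¬ InE z u v → ¬ InE z u (h⁻¹ * v * h) := fun v hv hh => hv (by
      have := P.inE_conj H hh
      simpa [mul_assoc] using this)
    have hback : ∀ v, InE z u (h⁻¹ * v * h) → InE z u v := fun v hh => by
      by_contra hv; exact hcl v hv hh
    have hx1n : ¬ InE z u x1 := fun e => K.x_notE H (by
      have hcm : Commute w x1 := P.inE_comm e hwz hwu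
      have : x = x1 := by
        calc x = w⁻¹ * x1 * w := by simp only [x1]; group
          _ = x1 := by rw [hcm.inv_left.eq, inv_mul_cancel_right]
      exact this ▸ e)
    have hx2n : ¬ InE z u x2 := fun e => K.x_notE H (by
      have hcm : Commute w x2 := P.inE_comm e hwz hwu
      have : x = x2 := by
        calc x = w * x2 * w⁻¹ := by simp only [x2]; group
          _ = x2 := by rw [hcm.eq, mul_inv_cancel_right]
      exact this ▸ e)
    have hsel : ∃ k, Commute k z ∧ Commute k u ∧ InE z u (x⁻¹ * (k * x' * k⁻¹)) := by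
      have hmove : ∀ k, Commute k z → Commute k u → InE z u ((k * x * k⁻¹)⁻¹ * x') →
          ∃ k, Commute k z ∧ Commute k u ∧ InE z u (x⁻¹ * (k * x' * k⁻¹)) := by
        intro k hk hk' he
        refine ⟨k⁻¹, hk.inv_left, hk'.inv_left, ?_⟩
        have e : x⁻¹ * (k⁻¹ * x' * k⁻¹⁻¹) = k⁻¹ * ((k * x * k⁻¹)⁻¹ * x') * k := by group
        rw [e, (P.inE_comm he hk.inv_left hk'.inv_left).eq, inv_mul_cancel_right]
        exact he
      have hA := mem_BB.mp hx1
      rcases P.A_tri H (mem_BB.mp K.hx) hA (mem_BB.mp hx') (hcl x (K.x_notE H)) (hcl x1 hx1n)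
        (by rw [show (h⁻¹ * x * h)⁻¹ * (h⁻¹ * x1 * h) = h⁻¹ * (x⁻¹ * x1) * h by group]; exact hcl _ h01)
        with e | e | e | e
      · exact absurd (hback _ e) hx'n
      · rw [show (h⁻¹ * x * h)⁻¹ * (h⁻¹ * x' * h) = h⁻¹ * (x⁻¹ * x') * h by group] at e
        exact ⟨1, Commute.one_left z, Commute.one_left u, by simpa using hback _ e⟩
      · rw [show (h⁻¹ * x1 * h)⁻¹ * (h⁻¹ * x' * h) = h⁻¹ * (x1⁻¹ * x') * h by group] at e
        exact hmove w hwz hwu (hback _ e)
      · rw [show (h⁻¹ * x * h * (h⁻¹ * x1 * h))⁻¹ * (h⁻¹ * x' * h) = h⁻¹ * ((x * x1)⁻¹ * x') * h by group]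
          at e
        have e' := hback _ e
        refine hmove w⁻¹ hwz.inv_left hwu.inv_left ?_
        rw [inv_inv]
        show InE z u (x2⁻¹ * x')
        rcases P.A_tri H (mem_BB.mp K.hx) hA (mem_BB.mp hx2) (hcl x (K.x_notE H)) (hcl x1 hx1n)
          (by rw [show (h⁻¹ * x * h)⁻¹ * (h⁻¹ * x1 * h) = h⁻¹ * (x⁻¹ * x1) * h by group]; exact hcl _ h01)
          with f | f | f | f
        · exact absurd (hback _ f) hx2n
        · rw [show (h⁻¹ * x * h)⁻¹ * (h⁻¹ * x2 * h) = h⁻¹ * (x⁻¹ * x2) * h by group] at f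
          exact absurd (hback _ f) h02
        · rw [show (h⁻¹ * x1 * h)⁻¹ * (h⁻¹ * x2 * h) = h⁻¹ * (x1⁻¹ * x2) * h by group] at f
          exact absurd (hback _ f) h12
        · rw [show (h⁻¹ * x * h * (h⁻¹ * x1 * h))⁻¹ * (h⁻¹ * x2 * h) = h⁻¹ * ((x * x1)⁻¹ * x2) * h by group]
            at f
          have f' := hback _ f
          have := P.inE_mul H ((P.inE_inv H f').symm ▸ f') e'
          rwa [show ((x * x1)⁻¹ * x2)⁻¹ * ((x * x1)⁻¹ * x') = x2⁻¹ * x' by group] at this
    obtain ⟨k, hkz, hku, hke⟩ := hsel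
    have hq : x⁻¹ * (k * y * k⁻¹) ∈ Q := by
      rw [show x⁻¹ * (k * y * k⁻¹) = (x⁻¹ * (k * x' * k⁻¹)) * (k * (x'⁻¹ * y) * k⁻¹) by group]
      exact mul_mem (mem_AA.mp (P.inE_mem_A H hke)).1 (H.conj_memQ hkz hx'Q)
    have K' : Ctx z Q u h x (x⁻¹ * (k * y * k⁻¹)) :=
      Ctx.form H P K.hx (K.x_notE H) hq (by
        rw [mul_inv_cancel_left, show k * y * k⁻¹ * (k * y * k⁻¹) = k * (y * y) * k⁻¹ by group, hy2]
        group)
    set c' := x⁻¹ * (k * y * k⁻¹)
    have hky : k * y * k⁻¹ = x * c' := by simp only [c']; group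
    have hto : ∀ c0, Ctx z Q u h x c0 → InE z u (c0⁻¹ * c') → R (x * c0) y := by
      intro c0 K0 he
      obtain ⟨q, hq', hq''⟩ := K0.conj_E H he
      refine ⟨k⁻¹ * q⁻¹, hkz.inv_left.mul_left (H.comm_z (mem_AA.mp hq').1).inv_left,
        hku.inv_left.mul_left (mem_AA.mp hq').2.inv_left, ?_⟩
      calc k⁻¹ * q⁻¹ * (x * c0) * (k⁻¹ * q⁻¹)⁻¹ = k⁻¹ * (q⁻¹ * (x * c0) * q) * k := by group
        _ = y := by
          rw [hq'', show x * c0 * (c0⁻¹ * c') = x * c' by group, ← hky]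
          group
    rcases P.A_tri H K.hc K2.hc K'.hc (K.c_notE H) (K2.c_notE H) hn2 with e | e | e | e
    · exact absurd e (K'.c_notE H)
    · exact Or.inl (hto c K e)
    · exact Or.inr (hto c2 K2 e)
    · exfalso
      have := P.dl_coset H K.hx (mul_mem K.hc K2.hc) e
      rw [P.dl_mul H K.hx K.hc K2.hc, K.hdl, K2.hdl, K'.hdl, (H.sat_mul_z P.sat).2.1] at this
      exact P.uz_ne_one H this
  -- a three-cycle
  obtain ⟨q, hq, hqu⟩ := H.sat_conj_mul_z P.sat
  set g := q * h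
  have hqz : q * z * q⁻¹ = z := by rw [(H.comm_z hq).eq, mul_inv_cancel_right]
  have hqqu : q * (u * z) * q⁻¹ = u := by
    rw [show q * (u * z) * q⁻¹ = (q * u * q⁻¹) * (q * z * q⁻¹) by group, hqu, hqz, mul_assoc, H.zz, mul_one]
  have hgz : g * z * g⁻¹ = u * z := by
    rw [show g * z * g⁻¹ = q * (h * z * h⁻¹) * q⁻¹ by simp only [g]; group, P.hz, hqu]
  have hgu : g * u * g⁻¹ = z := by
    rw [show g * u * g⁻¹ = q * (h * u * h⁻¹) * q⁻¹ by simp only [g]; group, P.hu, hqz]
  have hguz : g * (u * z) * g⁻¹ = u := by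
    rw [show g * (u * z) * g⁻¹ = q * (h * (u * z) * h⁻¹) * q⁻¹ by simp only [g]; group, P.huz H, hqqu]
  have hRg : ∀ a b, R a b → R (g * a * g⁻¹) (g * b * g⁻¹) := by
    rintro a b ⟨k, h1, h2, rfl⟩
    refine ⟨g * k * g⁻¹, ?_, ?_, by group⟩
    · have := h2.map (MulAut.conj g)
      simpa [hgu] using this
    · have := (h2.mul_right h1).map (MulAut.conj g)
      simp only [MulAut.conj_apply, hguz] at this
      exact this
  have hRg' : ∀ a b, R (g * a * g⁻¹) (g * b * g⁻¹) → R a b := by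
    rintro a b ⟨k, h1, h2, e⟩
    refine ⟨g⁻¹ * k * g, ?_, ?_, ?_⟩
    · have := (h2.mul_right h1).map (MulAut.conj g⁻¹)
      have e1 : g⁻¹ * (u * z) * g = z := by rw [← hgz]; group
      simp only [MulAut.conj_apply, inv_inv, e1] at this
      exact this
    · have := h1.map (MulAut.conj g⁻¹)
      have e2 : g⁻¹ * z * g = u := by rw [← hgu]; group
      simp only [MulAut.conj_apply, inv_inv, e2] at this
      exact this
    · calc g⁻¹ * k * g * a * (g⁻¹ * k * g)⁻¹ = g⁻¹ * (k * (g * a * g⁻¹) * k⁻¹) * g := by group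
        _ = b := by rw [e]; group
  have hJ : ∀ y, Commute y z → Commute y u → y * y = 1 → y ∉ Q →
      Commute (g * y * g⁻¹) z ∧ Commute (g * y * g⁻¹) u ∧ g * y * g⁻¹ * (g * y * g⁻¹) = 1 ∧
        (¬ IsConj z y → g * y * g⁻¹ ∉ Q) := by
    intro y hyz hyu hy2 hyQ
    have hy1 : y ≠ 1 := fun e => hyQ (e ▸ one_mem Q)
    have h2 : g * y * g⁻¹ * (g * y * g⁻¹) = 1 := by
      rw [show g * y * g⁻¹ * (g * y * g⁻¹) = g * (y * y) * g⁻¹ by group, hy2]; group
    refine ⟨by simpa [hgu] using hyu.map (MulAut.conj g), ?_, h2, fun hn => ?_⟩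
    · have := (hyu.mul_right hyz).map (MulAut.conj g)
      simp only [MulAut.conj_apply, hguz] at this
      exact this
    · exact H.not_mem_of_nconj h2 (by simpa using hy1) fun e =>
        hn (e.trans (isConj_iff.mpr ⟨g, rfl⟩ : IsConj y (g * y * g⁻¹)).symm)
  have hnc := W.nconj K
  obtain ⟨j1, j2, j3, j4⟩ := hJ _ (K.comm_z H) (K.comm_u H) (K.sq H) (K.not_mem H)
  have hconj1 : IsConj (x * c) (g * (x * c) * g⁻¹) := isConj_iff.mpr ⟨g, rfl⟩
  obtain ⟨l1, l2, l3, l4⟩ := hJ _ j1 j2 j3 (j4 hnc)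
  have fin : ∀ (gg : G), R (x * c) (gg * (x * c) * gg⁻¹) →
      ∃ k, Commute k z ∧ Commute k u ∧ Commute (k * gg) (x * c) := by
    intro gg hR
    obtain ⟨k, h1, h2, e⟩ := Rsymm _ _ hR
    exact ⟨k, h1, h2, mul_inv_eq_iff_eq_mul.mp (by
      rw [show k * gg * (x * c) * (k * gg)⁻¹ = k * (gg * (x * c) * gg⁻¹) * k⁻¹ by group, e])⟩
  have hk_fix : ∀ {k : G}, Commute k z → Commute k u →
      k * (u * z) * k⁻¹ = u * z ∧ k * u * k⁻¹ = u ∧ k * z * k⁻¹ = z := fun {k} h1 h2 =>
    ⟨by rw [(h2.mul_right h1).eq, mul_inv_cancel_right], by rw [h2.eq, mul_inv_cancel_right],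
      by rw [h1.eq, mul_inv_cancel_right]⟩
  have fin1 : R (x * c) (g * (x * c) * g⁻¹) →
      ∃ n : G, Commute n (x * c) ∧ n * z * n⁻¹ = u ∧ n * u * n⁻¹ = u * z := by
    intro hR
    obtain ⟨k, h1, h2, hc'⟩ := fin g hR
    obtain ⟨k1, k2, k3⟩ := hk_fix h1 h2
    refine ⟨(k * g)⁻¹, hc'.inv_left, ?_, ?_⟩
    · have : k * g * u * (k * g)⁻¹ = z := by
        rw [show k * g * u * (k * g)⁻¹ = k * (g * u * g⁻¹) * k⁻¹ by group, hgu, k3]
      rw [← this]; group
    · have : k * g * (u * z) * (k * g)⁻¹ = u := by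
        rw [show k * g * (u * z) * (k * g)⁻¹ = k * (g * (u * z) * g⁻¹) * k⁻¹ by group, hguz, k2]
      conv_lhs => rw [← this]
      group
  rcases horb _ j1 j2 j3 (j4 hnc) with e1 | e1
  · exact fin1 e1
  rcases horb _ l1 l2 l3 (l4 fun e => hnc (e.trans hconj1.symm)) with e2 | e2
  · -- `g²` fixes the orbit
    have e2' : R (x * c) (g * g * (x * c) * (g * g)⁻¹) := by
      rw [show g * g * (x * c) * (g * g)⁻¹ = g * (g * (x * c) * g⁻¹) * g⁻¹ by group]
      exact e2
    obtain ⟨k, h1, h2, hc'⟩ := fin (g * g) e2'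
    obtain ⟨k1, k2, k3⟩ := hk_fix h1 h2
    refine ⟨k * (g * g), hc', ?_, ?_⟩
    · rw [show k * (g * g) * z * (k * (g * g))⁻¹ = k * (g * (g * z * g⁻¹) * g⁻¹) * k⁻¹ by group, hgz,
        hguz, k2]
    · rw [show k * (g * g) * u * (k * (g * g))⁻¹ = k * (g * (g * u * g⁻¹) * g⁻¹) * k⁻¹ by group, hgu,
        hgz, k1]
  · -- `g` itself fixes it
    exact fin1 (hRg' _ _ (Rtrans _ _ _ (Rsymm _ _ e1) e2))

end H36.HJ
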