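import Cfsg.Agent.H36.HJ.Pair
import Cfsg.Agent.H65.OrderFormula

/-!
Groups of Hall–Janko type, part 3: the involutions of the centraliser of `z` outside `Q` and their
centralisers there.
-/

set_option autoImplicit false

namespace H36.HJ

local notation "A5" => alternatingGroup (Fin 5)

variable {G : Type*} [Group G] [Finite G]
variable {z : G} {Q : Subgroup G} {χ : Subgroup.centralizer ({z} : Set G) →* A5}

theorem Hyp.img_mul (H : Hyp z Q χ) {a b : G} (ha : Commute a z) (hb : Commute b z) :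
    img χ (ha.mul_left hb) = img χ ha * img χ hb :=
  (map_mul χ ⟨a, mem_C.mpr ha⟩ ⟨b, mem_C.mpr hb⟩)

theorem Hyp.img_eq_iff (H : Hyp z Q χ) {a b : G} (ha : Commute a z) (hb : Commute b z) :
    img χ ha = img χ hb ↔ a⁻¹ * b ∈ Q := by
  rw [← H.img_eq_one (ha.inv_left.mul_left hb), H.img_mul ha.inv_left hb,
    show img χ ha.inv_left = (img χ ha)⁻¹ from map_inv χ ⟨a, mem_C.mpr ha⟩, inv_mul_eq_one]

theorem Hyp.img_conj (H : Hyp z Q χ) {k a : G} (hk : Commute k z) (ha : Commute a z) :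
    img χ ((hk.mul_left ha).mul_left hk.inv_left) = img χ hk * img χ ha * (img χ hk)⁻¹ := by
  rw [H.img_mul (hk.mul_left ha) hk.inv_left, H.img_mul hk ha,
    show img χ hk.inv_left = (img χ hk)⁻¹ from map_inv χ ⟨k, mem_C.mpr hk⟩]

theorem Hyp.card_C (H : Hyp z Q χ) :
    Nat.card (Subgroup.centralizer ({z} : Set G)) = 1920 := by
  rw [← Subgroup.card_mul_index χ.ker, Subgroup.index_ker, MonoidHom.range_eq_top.mpr H.surj,
    Subgroup.card_top, nat_card_alternatingGroup, Nat.card_fin]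
  have : Nat.card χ.ker = 32 := by
    rw [← H.card]
    exact Nat.card_congr
      { toFun := fun x => ⟨((x : Subgroup.centralizer ({z} : Set G)) : G), (H.ker _).mp x.2⟩
        invFun := fun x => ⟨⟨(x : G), H.le x.2⟩, (H.ker _).mpr x.2⟩
        left_inv := fun x => rfl
        right_inv := fun x => rfl }
  rw [this]
  rfl

/-- An involution of the centraliser of `z` outside `Q`, in normal form. -/
structure Ctx (z : G) (Q : Subgroup G) (u h x c : G) : Prop where
  pair : Pair z Q u h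
  hx : x ∈ BB Q u h
  hc : c ∈ AA Q u
  hdl : dl x c = u * z

namespace Ctx

variable {u h x c : G}

theorem x_notE (H : Hyp z Q χ) (K : Ctx z Q u h x c) : ¬ InE z u x := fun e =>
  K.pair.uz_ne_one H (K.hdl ▸ dl_eq_one.mpr
    (K.pair.inE_comm e (H.comm_z (mem_AA.mp K.hc).1) (mem_AA.mp K.hc).2))

theorem c_notE (H : Hyp z Q χ) (K : Ctx z Q u h x c) : ¬ InE z u c := fun e =>
  K.pair.uz_ne_one H (K.hdl ▸ K.pair.dl_inE_arg H K.hx e)

theorem comm_z (H : Hyp z Q χ) (K : Ctx z Q u h x c) : Commute (x * c) z :=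
  (K.pair.B_comm H K.hx).1.mul_left (H.comm_z (mem_AA.mp K.hc).1)

theorem comm_u (H : Hyp z Q χ) (K : Ctx z Q u h x c) : Commute (x * c) u :=
  (K.pair.B_comm H K.hx).2.mul_left (mem_AA.mp K.hc).2

theorem xc_eq (K : Ctx z Q u h x c) : x⁻¹ * c * x = c * (u * z) := by
  rw [← K.hdl, dl, mul_inv_cancel_left]

theorem sq (H : Hyp z Q χ) (K : Ctx z Q u h x c) : x * c * (x * c) = 1 := by
  have P := K.pair
  calc x * c * (x * c) = (x * x) * (x⁻¹ * c * x) * c := by group
    _ = u * (c * ((u * z) * c)) := by rw [P.B_sq H K.hx (K.x_notE H), K.xc_eq]; group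
    _ = u * (c * c) * (u * z) := by
      rw [← (P.inE_comm (Or.inr (Or.inr (Or.inr rfl))) (H.comm_z (mem_AA.mp K.hc).1)
        (mem_AA.mp K.hc).2 : Commute c (u * z)).eq]
      group
    _ = u * z * (u * z) := by rw [P.A_sq H K.hc (K.c_notE H)]
    _ = 1 := (H.sat_mul_z P.sat).2.1

theorem not_mem (H : Hyp z Q χ) (K : Ctx z Q u h x c) : x * c ∉ Q := fun hm =>
  K.pair.B_not_mem H K.hx (K.x_notE H)
    (by simpa using mul_mem hm (inv_mem (mem_AA.mp K.hc).1))

theorem ne_one (H : Hyp z Q χ) (K : Ctx z Q u h x c) : x * c ≠ 1 := fun e =>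
  K.not_mem H (e ▸ one_mem Q)

/-- Conjugation of `xc` by an element of `C_Q(u)`. -/
theorem conj_A (H : Hyp z Q χ) (K : Ctx z Q u h x c) {q : G} (hq : q ∈ AA Q u) :
    q⁻¹ * (x * c) * q = x * c * (dl x q * (c⁻¹ * q⁻¹ * c * q)) := by
  have P := K.pair
  have h1 := P.dl_inE H K.hx hq
  have hcm : Commute c (dl x q) :=
    P.inE_comm h1 (H.comm_z (mem_AA.mp K.hc).1) (mem_AA.mp K.hc).2
  have hinv : (dl x q)⁻¹ = dl x q := P.inE_inv H h1
  calc q⁻¹ * (x * c) * q = x * (dl x q)⁻¹ * (q⁻¹ * c * q) := by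
        simp only [dl]; group
    _ = x * (dl x q * c) * (c⁻¹ * q⁻¹ * c * q) := by rw [hinv]; group
    _ = x * c * (dl x q * (c⁻¹ * q⁻¹ * c * q)) := by rw [← hcm.eq]; group

theorem comm_A_cases (H : Hyp z Q χ) (K : Ctx z Q u h x c) {q : G} (hq : q ∈ AA Q u) :
    (c⁻¹ * q⁻¹ * c * q = 1 ∧ Commute c q) ∨ (c⁻¹ * q⁻¹ * c * q = z ∧ ¬ Commute c q) := by
  rcases H.comm_cases (mem_AA.mp K.hc).1 (mem_AA.mp hq).1 with e | e
  · exact Or.inl ⟨by rw [mul_assoc (c⁻¹ * q⁻¹), e]; group, e⟩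
  · refine Or.inr ⟨by rw [mul_assoc (c⁻¹ * q⁻¹), e]; group, fun hc' => H.z_ne ?_⟩
    rw [hc'.eq] at e
    exact mul_eq_left.mp e.symm

theorem conj_E (H : Hyp z Q χ) (K : Ctx z Q u h x c) {e : G} (he : InE z u e) :
    ∃ q ∈ AA Q u, q⁻¹ * (x * c) * q = x * c * e := by
  have P := K.pair
  obtain ⟨-, d, -, -, hd, hdn, hdx, -, hdu⟩ := P.exists_d H K.hx (K.x_notE H)
  have hcd : ¬ Commute c d := fun e' => P.uz_ne_one H (by
    rw [← K.hdl, P.dl_coset H K.hx hd (P.A_coset H hd K.hc hdn (K.c_notE H) e'.symm)]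
    exact dl_eq_one.mpr hdx)
  rcases he with rfl | rfl | rfl | rfl
  · exact ⟨1, one_mem _, by group⟩
  · refine ⟨d, hd, ?_⟩
    rw [K.conj_A H hd, dl_eq_one.mpr hdx, ((K.comm_A_cases H hd).resolve_left fun e' => hcd e'.2).1,
      one_mul]
  · refine ⟨d * c, mul_mem hd K.hc, ?_⟩
    have hn : ¬ Commute c (d * c) := fun e' => hcd (by
      have := e'.mul_right (Commute.refl c).inv_right
      rwa [mul_inv_cancel_right] at this)
    rw [K.conj_A H (mul_mem hd K.hc), P.dl_mul H K.hx hd K.hc, dl_eq_one.mpr hdx, one_mul, K.hdl,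
      ((K.comm_A_cases H (mul_mem hd K.hc)).resolve_left fun e' => hn e'.2).1, mul_assoc _ z z, H.zz,
      mul_one]
  · exact ⟨c, K.hc, by rw [K.conj_A H K.hc, K.hdl, show c⁻¹ * c⁻¹ * c * c = 1 by group, mul_one]⟩

theorem coset (H : Hyp z Q χ) (K : Ctx z Q u h x c) {c' : G} (he : InE z u (c⁻¹ * c')) :
    Ctx z Q u h x c' := by
  have hc' : c' ∈ AA Q u := by
    have := mul_mem K.hc (K.pair.inE_mem_A H he)
    rwa [mul_inv_cancel_left] at this
  exact ⟨K.pair, K.hx, hc', (K.pair.dl_coset H K.hx K.hc he).trans K.hdl⟩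

/-- Conjugation by an element of `Q` outside `C_Q(u)` changes the coset of `E`. -/
theorem conj_out (H : Hyp z Q χ) (K : Ctx z Q u h x c) {q : G} (hq : q ∈ Q) (hqA : q ∉ AA Q u) :
    ∃ c', Ctx z Q u h x c' ∧ q⁻¹ * (x * c) * q = x * c' ∧ ¬ InE z u (c⁻¹ * c') := by
  have P := K.pair
  obtain ⟨a, d, ha, haA, hd, hdn, hdx, hax, -⟩ := P.exists_d H K.hx (K.x_notE H)
  have hai : a⁻¹ ∉ AA Q u := fun hh => haA (by simpa using inv_mem hh)
  set c1 := a⁻¹ * q with hc1
  have hc1A : c1 ∈ AA Q u := P.not_mem_mul H (inv_mem ha) hq hai hqA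
  -- conjugate by `a`
  obtain ⟨s, hs, hsE⟩ : ∃ s, a⁻¹ * c * a = c * s ∧ InE z u s := by
    rcases H.comm_cases (mem_AA.mp K.hc).1 ha with e | e
    · exact ⟨1, by rw [mul_assoc, e, inv_mul_cancel_left, mul_one], Or.inl rfl⟩
    · exact ⟨z, by rw [mul_assoc, e]; group, Or.inr (Or.inl rfl)⟩
  set e1 := z * s with he1
  have he1E : InE z u e1 := P.inE_mul H (Or.inr (Or.inl rfl)) hsE
  have hK1 : Ctx z Q u h x (d * c * e1) :=
    ⟨P, K.hx, mul_mem (mul_mem hd K.hc) (P.inE_mem_A H he1E), by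
      rw [P.dl_mul H K.hx (mul_mem hd K.hc) (P.inE_mem_A H he1E), P.dl_mul H K.hx hd K.hc,
        dl_eq_one.mpr hdx, P.dl_inE_arg H K.hx he1E, one_mul, mul_one, K.hdl]⟩
  have hconj : a⁻¹ * (x * c) * a = x * (d * c * e1) := by
    calc a⁻¹ * (x * c) * a = (a⁻¹ * x * a) * (a⁻¹ * c * a) := by group
      _ = x * d * (z * c) * s := by rw [hax, hs]; group
      _ = x * (d * c * e1) := by rw [← (H.comm_z (mem_AA.mp K.hc).1).eq, he1]; group
  have hE2 : InE z u (dl x c1 * ((d * c * e1)⁻¹ * c1⁻¹ * (d * c * e1) * c1)) := by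
    refine P.inE_mul H (P.dl_inE H K.hx hc1A) ?_
    rcases hK1.comm_A_cases H hc1A with e | e <;> rw [e.1]
    exacts [Or.inl rfl, Or.inr (Or.inl rfl)]
  refine ⟨d * c * e1 * (dl x c1 * ((d * c * e1)⁻¹ * c1⁻¹ * (d * c * e1) * c1)),
    hK1.coset H (by rwa [inv_mul_cancel_left]), ?_, fun hh => hdn ?_⟩
  · calc q⁻¹ * (x * c) * q = c1⁻¹ * (a⁻¹ * (x * c) * a) * c1 := by rw [hc1]; group
      _ = _ := by rw [hconj, hK1.conj_A H hc1A]; group
  · have h1 := P.inE_mul H he1E hE2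
    have h2 : InE z u (c⁻¹ * (d * c)) := by
      have := P.inE_mul H hh ((P.inE_inv H h1).symm ▸ h1)
      refine (?_ : c⁻¹ * (d * c) = _) ▸ this
      group
    have h3 := P.inE_mem_A H h2
    have hcm : Commute (c⁻¹ * (d * c)) c⁻¹ :=
      (P.inE_comm h2 (H.comm_z (mem_AA.mp K.hc).1).inv_left (mem_AA.mp K.hc).2.inv_left).symm
    have e : c⁻¹ * (d * c) = d := by
      calc c⁻¹ * (d * c) = c * ((c⁻¹ * (d * c)) * c⁻¹) := by rw [hcm.eq]; group
        _ = d := by group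
    exact e ▸ h2

theorem cent_Q (H : Hyp z Q χ) (K : Ctx z Q u h x c) {q : G} (hq : q ∈ Q) (hcm : Commute (x * c) q) :
    InE z u q := by
  have P := K.pair
  have hfix : q⁻¹ * (x * c) * q = x * c := by rw [mul_assoc, hcm.eq, inv_mul_cancel_left]
  by_cases hqA : q ∈ AA Q u
  · by_contra hn
    have h1 := (K.conj_A H hqA).symm.trans hfix
    rw [mul_eq_left] at h1
    rcases P.dl_cases H K.hx hqA with e | e <;> rcases K.comm_A_cases H hqA with ⟨e', hc'⟩ | ⟨e', hc'⟩ <;>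
      rw [e, e'] at h1
    · have := P.dl_coset H K.hx K.hc (P.A_coset H K.hc hqA (K.c_notE H) hn hc')
      rw [e, K.hdl] at this
      exact P.uz_ne_one H this.symm
    · exact H.z_ne (by simpa using h1)
    · exact P.uz_ne_one H (by simpa using h1)
    · rw [mul_assoc, H.zz, mul_one] at h1
      exact P.u_ne_one h1
  · obtain ⟨c', -, he, hn⟩ := K.conj_out H hq hqA
    rw [hfix] at he
    exact absurd (by rw [← mul_left_cancel he, inv_mul_cancel]; exact Or.inl rfl) hn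

theorem form (H : Hyp z Q χ) (P : Pair z Q u h) {x' q : G} (hx : x' ∈ BB Q u h)
    (hxn : ¬ InE z u x') (hq : q ∈ Q) (h2 : x' * q * (x' * q) = 1) : Ctx z Q u h x' q := by
  obtain ⟨a, d, ha, haA, hd, hdn, hdx, hax, -⟩ := P.exists_d H hx hxn
  have e : u * (x'⁻¹ * q * x' * q) = 1 := by
    calc u * (x'⁻¹ * q * x' * q) = x' * x' * (x'⁻¹ * q * x' * q) := by rw [P.B_sq H hx hxn]
      _ = x' * q * (x' * q) := by group
      _ = 1 := h2
  by_cases hqA : q ∈ AA Q u
  · refine ⟨P, hx, hqA, ?_⟩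
    have hcm : Commute q (dl x' q) :=
      P.inE_comm (P.dl_inE H hx hqA) (H.comm_z (mem_AA.mp hqA).1) (mem_AA.mp hqA).2
    rw [show x'⁻¹ * q * x' = q * dl x' q by rw [dl, mul_inv_cancel_left], mul_assoc q, ← hcm.eq,
      ← mul_assoc q] at e
    rcases P.dl_cases H hx hqA with h1 | h1
    · exfalso
      rw [h1, mul_one] at e
      rcases H.sq_cases hq with h3 | h3 <;> rw [h3] at e
      · exact P.u_ne_one (by simpa using e)
      · exact P.uz_ne_one H e
    · exact h1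
  · exfalso
    have hai : a⁻¹ ∉ AA Q u := fun hh => haA (by simpa using inv_mem hh)
    set c1 := a⁻¹ * q with hc1
    have hc1A : c1 ∈ AA Q u := P.not_mem_mul H (inv_mem ha) hq hai hqA
    have hdi : d⁻¹ = d * z := by
      rw [inv_eq_iff_mul_eq_one, ← mul_assoc, P.A_sq H hd hdn, H.zz]
    have hxa : x'⁻¹ * a * x' = a * d := by
      calc x'⁻¹ * a * x' = a * (x'⁻¹ * (a⁻¹ * x' * a))⁻¹ := by group
        _ = a * (d * z)⁻¹ := by rw [hax]; group
        _ = a * d := by rw [← hdi, inv_inv]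
    set w := d * (c1 * dl x' c1) with hw
    have hwA : w ∈ AA Q u := mul_mem hd (mul_mem hc1A (P.inE_mem_A H (P.dl_inE H hx hc1A)))
    obtain ⟨s, hs, hsE⟩ : ∃ s, a * w * a = w * (a * a) * s ∧ (s = 1 ∨ s = z) := by
      rcases H.comm_cases ha (mem_AA.mp hwA).1 with h3 | h3
      · exact ⟨1, by rw [h3]; group, Or.inl rfl⟩
      · refine ⟨z, ?_, Or.inr rfl⟩
        rw [h3, mul_assoc (w * a) z a, ← (H.comm_z ha).eq]; group
    have hsc : Commute c1 s := by
      rcases hsE with rfl | rfl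
      exacts [Commute.one_right c1, H.comm_z (mem_AA.mp hc1A).1]
    have haac : Commute c1 (a * a) := by
      rcases H.sq_cases ha with h3 | h3 <;> rw [h3]
      exacts [Commute.one_right c1, H.comm_z (mem_AA.mp hc1A).1]
    have key : x'⁻¹ * q * x' * q = d * (c1 * dl x' c1 * c1) * (a * a) * s := by
      calc x'⁻¹ * q * x' * q = (x'⁻¹ * a * x') * (x'⁻¹ * c1 * x') * (a * c1) := by rw [hc1]; group
        _ = (a * w * a) * c1 := by rw [hxa, hw, dl]; group
        _ = d * (c1 * dl x' c1) * ((a * a) * s * c1) := by rw [hs, hw]; group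
        _ = _ := by rw [← (haac.mul_right hsc).eq]; group
    have hin : InE z u (c1 * dl x' c1 * c1 * (a * a) * s) := by
      have hcm : Commute c1 (dl x' c1) :=
        P.inE_comm (P.dl_inE H hx hc1A) (H.comm_z (mem_AA.mp hc1A).1) (mem_AA.mp hc1A).2
      rw [mul_assoc c1, ← hcm.eq, ← mul_assoc c1]
      refine P.inE_mul H (P.inE_mul H (P.inE_mul H ?_ (P.dl_inE H hx hc1A)) ?_) ?_
      · rcases H.sq_cases (mem_AA.mp hc1A).1 with h3 | h3 <;> rw [h3]
        exacts [Or.inl rfl, Or.inr (Or.inl rfl)]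
      · rcases H.sq_cases ha with h3 | h3 <;> rw [h3]
        exacts [Or.inl rfl, Or.inr (Or.inl rfl)]
      · rcases hsE with rfl | rfl
        exacts [Or.inl rfl, Or.inr (Or.inl rfl)]
    refine hdn ?_
    set r := c1 * dl x' c1 * c1 * (a * a) * s with hr
    have hr' : u * (d * r) = 1 := by
      rw [← e, key, hr]; group
    have : d = u * r := by
      calc d = u * (u * (d * r)) * r⁻¹ := by rw [← mul_assoc u u, P.uu]; group
        _ = u * r := by rw [hr', mul_one, P.inE_inv H hin]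
    rw [this]
    exact P.inE_mul H (Or.inr (Or.inr (Or.inl rfl))) hin

/-- All involutions of a coset `xQ` are conjugate under `Q`, keeping `u` up to conjugation by `C_Q(u)`. -/
theorem conj_coset (H : Hyp z Q χ) (K : Ctx z Q u h x c) {c' : G} (K' : Ctx z Q u h x c') :
    ∃ q ∈ Q, q⁻¹ * (x * c) * q = x * c' := by
  have P := K.pair
  by_cases he : InE z u (c⁻¹ * c')
  · obtain ⟨q, hq, hq'⟩ := K.conj_E H he
    exact ⟨q, (mem_AA.mp hq).1, by rw [hq']; group⟩
  · obtain ⟨a, d, ha, haA, hd, hdn, hdx, -, -⟩ := P.exists_d H K.hx (K.x_notE H)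
    obtain ⟨c2, K2, h2, hn2⟩ := K.conj_out H ha haA
    have hcn := K.c_notE H
    have he2 : InE z u (c2⁻¹ * c') := by
      rcases P.A_tri H K.hc K2.hc K'.hc hcn (K2.c_notE H) hn2 with e | e | e | e
      · exact absurd e (K'.c_notE H)
      · exact absurd e he
      · exact e
      · exfalso
        have := P.dl_coset H K.hx (mul_mem K.hc K2.hc) e
        rw [P.dl_mul H K.hx K.hc K2.hc, K.hdl, K2.hdl, K'.hdl, (H.sat_mul_z P.sat).2.1] at this
        exact P.uz_ne_one H this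
    obtain ⟨q, hq, hq'⟩ := K2.conj_E H he2
    refine ⟨a * q, mul_mem ha (mem_AA.mp hq).1, ?_⟩
    rw [show (a * q)⁻¹ * (x * c) * (a * q) = q⁻¹ * (a⁻¹ * (x * c) * a) * q by group, h2, hq']
    group

end Ctx

theorem Hyp.exists_ctx (H : Hyp z Q χ) : ∃ u h x c, Ctx z Q u h x c := by
  classical
  obtain ⟨g, hg⟩ := H.exists_sat
  obtain ⟨h, P⟩ := H.exists_pair hg
  obtain ⟨w, hw, hwn, -⟩ := P.exists_A_outside H 1
  have hx : h * w * h⁻¹ ∈ BB Q (g * z * g⁻¹) h := Pair.A_to_B hw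
  have hxn := P.not_inE_conj H hwn
  obtain ⟨-, d, -, -, -, -, -, -, hdu⟩ := P.exists_d H hx hxn
  obtain ⟨c, hc, hcn, hcd⟩ := P.exists_A_outside H d
  exact ⟨_, h, _, c, P, hx, hc,
    (P.dl_cases H hx hc).resolve_left fun e => hdu c hc hcn hcd (dl_eq_one.mp e)⟩

/-- All involutions of `C(z)` outside `Q` are conjugate in `C(z)`. -/
theorem Hyp.invol_conj (H : Hyp z Q χ) {u h x c : G} (K : Ctx z Q u h x c) {y : G}
    (hy : Commute y z) (hy2 : y * y = 1) (hyQ : y ∉ Q) :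
    ∃ k, Commute k z ∧ k * (x * c) * k⁻¹ = y := by
  have hxz := (K.pair.B_comm H K.hx).1
  have hsq : img χ hy * img χ hy = 1 := by
    rw [← H.img_mul hy hy]; exact (H.img_eq_one _).mpr (by rw [hy2]; exact one_mem Q)
  have hsq' : img χ hxz * img χ hxz = 1 := by
    rw [← H.img_mul hxz hxz]
    exact (H.img_eq_one _).mpr (by rw [K.pair.B_sq H K.hx (K.x_notE H)]; exact K.pair.sat.1)
  obtain ⟨cc, hcc⟩ := a5_invol_conj (img χ hxz) hsq'
    (fun e => K.pair.B_not_mem H K.hx (K.x_notE H) ((H.img_eq_one _).mp e)) (img χ hy) hsq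
    (fun e => hyQ ((H.img_eq_one _).mp e))
  obtain ⟨⟨k, hk⟩, rfl⟩ := H.surj cc
  have hkz : Commute k z := mem_C.mp hk
  have hy' : Commute (k * y * k⁻¹) z := (hkz.mul_left hy).mul_left hkz.inv_left
  have hxq : x⁻¹ * (k * y * k⁻¹) ∈ Q := by
    rw [← H.img_eq_iff hxz hy', H.img_conj hkz hy]
    exact hcc.symm
  have K' : Ctx z Q u h x (x⁻¹ * (k * y * k⁻¹)) :=
    Ctx.form H K.pair K.hx (K.x_notE H) hxq (by
      rw [mul_inv_cancel_left, show k * y * k⁻¹ * (k * y * k⁻¹) = k * (y * y) * k⁻¹ by group, hy2]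
      group)
  obtain ⟨q, hq, hq'⟩ := K.conj_coset H K'
  rw [mul_inv_cancel_left] at hq'
  refine ⟨k⁻¹ * q⁻¹, hkz.inv_left.mul_left (H.comm_z hq).inv_left, ?_⟩
  calc k⁻¹ * q⁻¹ * (x * c) * (k⁻¹ * q⁻¹)⁻¹ = k⁻¹ * (q⁻¹ * (x * c) * q) * k := by group
    _ = y := by rw [hq']; group

theorem Hyp.B_img_comm (H : Hyp z Q χ) {u h : G} (P : Pair z Q u h) {x x' : G}
    (hx : x ∈ BB Q u h) (hx' : x' ∈ BB Q u h) :
    img χ (P.B_comm H hx).1 * img χ (P.B_comm H hx').1 =
      img χ (P.B_comm H hx').1 * img χ (P.B_comm H hx).1 := by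
  have hxz := (P.B_comm H hx).1
  have hx'z := (P.B_comm H hx').1
  rw [← H.img_mul hxz hx'z, ← H.img_mul hx'z hxz, H.img_eq_iff]
  rcases H.comm_cases (mem_AA.mp (mem_BB.mp hx)).1 (mem_AA.mp (mem_BB.mp hx')).1 with e | e
  · have : x * x' = x' * x := by
      calc x * x' = h * (h⁻¹ * x * h * (h⁻¹ * x' * h)) * h⁻¹ := by group
        _ = x' * x := by rw [e]; group
    rw [this, inv_mul_cancel]
    exact one_mem Q
  · have : x * x' = x' * x * u := by
      calc x * x' = h * (h⁻¹ * x * h * (h⁻¹ * x' * h)) * h⁻¹ := by group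
        _ = (x' * x) * (h * z * h⁻¹) := by rw [e]; group
        _ = x' * x * u := by rw [P.hz]
    rw [this, show (x' * x * u)⁻¹ * (x' * x) = u⁻¹ by group]
    exact inv_mem P.sat.1

/-- An involution of `C(z) ∩ C(u)` outside `Q` lies in a coset `x'Q`. -/
theorem Hyp.invol_in_B (H : Hyp z Q χ) {u h : G} (P : Pair z Q u h) {y : G}
    (hy : Commute y z) (hyu : Commute y u) (hy2 : y * y = 1) :
    ∃ x' ∈ BB Q u h, x'⁻¹ * y ∈ Q := by
  classical
  haveI : Fact (Nat.Prime 2) := ⟨Nat.prime_two⟩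
  set V : Subgroup A5 := ((BB Q u h).subgroupOf (Subgroup.centralizer ({z} : Set G))).map χ with hV
  have hVmem : ∀ {x' : G} (hx' : x' ∈ BB Q u h), img χ (P.B_comm H hx').1 ∈ V := fun hx' =>
    ⟨⟨_, mem_C.mpr (P.B_comm H hx').1⟩, hx', rfl⟩
  have hVp : IsPGroup 2 V := by
    rintro ⟨_, ⟨x', hx'z⟩, hx', rfl⟩
    refine ⟨2, Subtype.ext ?_⟩
    show χ ⟨x', hx'z⟩ ^ 2 ^ 2 = 1
    rw [← map_pow, H.ker]
    show x' ^ (4 : ℕ) ∈ Q
    have hx'' : x' ∈ BB Q u h := hx'
    by_cases hn : InE z u x'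
    · exact pow_mem (mem_AA.mp (P.inE_mem_A H hn)).1 _
    · rw [show x' ^ (4 : ℕ) = (x' * x') * (x' * x') by simp [pow_succ, mul_assoc], P.B_sq H hx'' hn,
        P.uu]
      exact one_mem Q
  obtain ⟨w, hw, hwn, -⟩ := P.exists_A_outside H 1
  obtain ⟨w', hw', hw'n, hww'⟩ := P.exists_A_outside H w
  have hx1 := Pair.A_to_B (h := h) hw
  have hx2 := Pair.A_to_B (h := h) hw'
  set t1 := img χ (P.B_comm H hx1).1
  set t2 := img χ (P.B_comm H hx2).1
  have h1 : t1 ≠ 1 := fun e => P.B_not_mem H hx1 (P.not_inE_conj H hwn) ((H.img_eq_one _).mp e)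
  have h2 : t2 ≠ 1 := fun e => P.B_not_mem H hx2 (P.not_inE_conj H hw'n) ((H.img_eq_one _).mp e)
  have h12 : t1 ≠ t2 := fun e => by
    have h3 := P.B_inter_Q H (mul_mem (inv_mem hx1) hx2) ((H.img_eq_iff _ _).mp e)
    rw [show (h * w * h⁻¹)⁻¹ * (h * w' * h⁻¹) = h * (w⁻¹ * w') * h⁻¹ by group] at h3
    exact P.not_inE_conj H hww' h3
  have h4 : 3 ≤ Nat.card V := by
    let g : Fin 3 → V := ![1, ⟨t1, hVmem hx1⟩, ⟨t2, hVmem hx2⟩]
    have := Nat.card_le_card_of_injective g (by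
      intro i j hij
      fin_cases i <;> fin_cases j <;>
        first
        | rfl
        | (have h' := congrArg Subtype.val hij
           simp [g] at h'
           first
           | exact absurd h' h1
           | exact absurd h'.symm h1
           | exact absurd h' h2
           | exact absurd h'.symm h2
           | exact absurd h' h12
           | exact absurd h'.symm h12))
    simpa using this
  set τ := img χ hy
  have hτ2 : τ * τ = 1 := by
    rw [← H.img_mul hy hy]; exact (H.img_eq_one _).mpr (by rw [hy2]; exact one_mem Q)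
  have hτp : IsPGroup 2 (Subgroup.zpowers τ) := by
    rintro ⟨_, i, rfl⟩
    refine ⟨1, Subtype.ext ?_⟩
    show (τ ^ i) ^ 2 ^ 1 = 1
    rw [← zpow_natCast, ← zpow_mul, mul_comm, zpow_mul, pow_one, show ((2 : ℕ) : ℤ) = 2 from rfl, zpow_two,
      hτ2, one_zpow]
  have hnorm : Subgroup.zpowers τ ≤ Subgroup.normalizer (V : Set A5) := by
    rw [Subgroup.zpowers_le, Subgroup.mem_normalizer_iff]
    have hτi : τ⁻¹ = τ := inv_eq_of_mul_eq_one_right hτ2
    have hfwd : ∀ v, v ∈ V → τ * v * τ⁻¹ ∈ V := by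
      rintro _ ⟨⟨x', hx'z⟩, hx', rfl⟩
      have hh := P.conjB H hy hyu (hx' : x' ∈ BB Q u h)
      exact ⟨⟨y * x' * y⁻¹, mem_C.mpr ((hy.mul_left (mem_C.mp hx'z)).mul_left hy.inv_left)⟩, hh,
        H.img_conj hy (mem_C.mp hx'z)⟩
    intro v
    refine ⟨hfwd v, fun hv => ?_⟩
    have h5 := hfwd _ hv
    rwa [hτi, show τ * (τ * v * τ) * τ = (τ * τ) * v * (τ * τ) by group, hτ2, one_mul, mul_one] at h5
  have hsup : IsPGroup 2 (Subgroup.zpowers τ ⊔ V : Subgroup A5) := hτp.to_sup_of_normal_right' hVp hnorm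
  obtain ⟨k, hk⟩ := IsPGroup.iff_card.mp hsup
  have h60 : Nat.card (Subgroup.zpowers τ ⊔ V : Subgroup A5) ∣ 60 := by
    have := Subgroup.card_subgroup_dvd_card (Subgroup.zpowers τ ⊔ V : Subgroup A5)
    rwa [nat_card_alternatingGroup, Nat.card_fin] at this
  obtain ⟨j, hj⟩ := IsPGroup.iff_card.mp hVp
  have hle := Subgroup.card_le_of_le (le_sup_right : V ≤ Subgroup.zpowers τ ⊔ V)
  rw [hk] at h60 hle
  have hk2 : k ≤ 2 := by
    by_contra hlt
    have := (Nat.pow_dvd_pow 2 (show 3 ≤ k by omega)).trans h60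
    norm_num at this
  have hj2 : 2 ≤ j := by
    by_contra hlt
    have : 2 ^ j ≤ 2 ^ 1 := Nat.pow_le_pow_right (by norm_num) (by omega)
    omega
  have heq : V = Subgroup.zpowers τ ⊔ V := Subgroup.eq_of_le_of_card_ge le_sup_right (by
    rw [hk, hj]; exact Nat.pow_le_pow_right (by norm_num) (hk2.trans hj2))
  obtain ⟨⟨x', hx'z⟩, hx', he⟩ : τ ∈ V := heq ▸ Subgroup.mem_sup_left (Subgroup.mem_zpowers τ)
  exact ⟨x', hx', (H.img_eq_iff (mem_C.mp hx'z) hy).mp he⟩

namespace Ctx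

variable {u h x c : G}

/-- An element centralising `xc` in `C(z)` lies in `BQ`. -/
theorem cent_B (H : Hyp z Q χ) (K : Ctx z Q u h x c) {r : G} (hrz : Commute r z)
    (hr : Commute r (x * c)) : ∃ b ∈ BB Q u h, b⁻¹ * r ∈ Q := by
  classical
  have P := K.pair
  have hxz := (P.B_comm H K.hx).1
  -- the image of `r` commutes with that of `x`
  have hcm : img χ hrz * img χ hxz = img χ hxz * img χ hrz := by
    have h1 : img χ (K.comm_z H) = img χ hxz := by
      rw [H.img_eq_iff, show (x * c)⁻¹ * x = c⁻¹ by group]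
      exact inv_mem (mem_AA.mp K.hc).1
    rw [← h1, ← H.img_mul hrz (K.comm_z H), ← H.img_mul (K.comm_z H) hrz, H.img_eq_iff, hr.eq,
      inv_mul_cancel]
    exact one_mem Q
  obtain ⟨w, hw, hwn, hwd⟩ := P.exists_A_outside H (h⁻¹ * x * h)
  have hx' : h * w * h⁻¹ ∈ BB Q u h := Pair.A_to_B hw
  have hx'z := (P.B_comm H hx').1
  have hsq1 : img χ hxz * img χ hxz = 1 := by
    rw [← H.img_mul hxz hxz]
    exact (H.img_eq_one _).mpr (by rw [P.B_sq H K.hx (K.x_notE H)]; exact P.sat.1)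
  have hne : img χ hxz ≠ 1 := fun e' => P.B_not_mem H K.hx (K.x_notE H) ((H.img_eq_one _).mp e')
  have hne' : img χ hx'z ≠ 1 := fun e' =>
    P.B_not_mem H hx' (P.not_inE_conj H hwn) ((H.img_eq_one _).mp e')
  have hxx' : img χ hxz ≠ img χ hx'z := fun e' => by
    have h3 := P.B_inter_Q H (mul_mem (inv_mem K.hx) hx') ((H.img_eq_iff _ _).mp e')
    rw [show x⁻¹ * (h * w * h⁻¹) = h * ((h⁻¹ * x * h)⁻¹ * w) * h⁻¹ by group] at h3
    exact P.not_inE_conj H hwd h3
  have hfour := a5_cent_invol _ hsq1 hne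
  have hmem : img χ hrz ∈ ({1, img χ hxz, img χ hx'z, img χ hxz * img χ hx'z} : Finset A5) := by
    have hsub : ({1, img χ hxz, img χ hx'z, img χ hxz * img χ hx'z} : Finset A5) ⊆
        Finset.univ.filter fun b : A5 => img χ hxz * b = b * img χ hxz := by
      have hB := H.B_img_comm P K.hx hx'
      intro b hb
      simp only [Finset.mem_insert, Finset.mem_singleton] at hb
      rw [Finset.mem_filter]
      refine ⟨Finset.mem_univ _, ?_⟩
      rcases hb with rfl | rfl | rfl | rfl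
      · simp
      · rfl
      · exact hB
      · exact ((Commute.refl _).mul_right hB).eq
    have hc4 : ({1, img χ hxz, img χ hx'z, img χ hxz * img χ hx'z} : Finset A5).card = 4 := by
      rw [Finset.card_insert_of_notMem, Finset.card_insert_of_notMem,
        Finset.card_insert_of_notMem, Finset.card_singleton]
      · simp only [Finset.mem_singleton]
        exact fun e' => hne (mul_eq_right.mp e'.symm)
      · simp only [Finset.mem_insert, Finset.mem_singleton, not_or]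
        exact ⟨hxx', fun e' => hne' (mul_eq_left.mp e'.symm)⟩
      · simp only [Finset.mem_insert, Finset.mem_singleton, not_or]
        refine ⟨hne.symm, hne'.symm, fun e' => hxx' ?_⟩
        rw [← inv_eq_of_mul_eq_one_right hsq1]
        exact inv_eq_of_mul_eq_one_right e'.symm
    rw [Finset.eq_of_subset_of_card_le hsub (by rw [hfour, hc4]), Finset.mem_filter]
    exact ⟨Finset.mem_univ _, hcm.symm⟩
  obtain ⟨b, hbB, hb⟩ : ∃ b ∈ BB Q u h, b⁻¹ * r ∈ Q := by
    simp only [Finset.mem_insert, Finset.mem_singleton] at hmem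
    rcases hmem with e' | e' | e' | e'
    · exact ⟨1, one_mem _, by simpa using (H.img_eq_one hrz).mp e'⟩
    · exact ⟨x, K.hx, (H.img_eq_iff hxz hrz).mp e'.symm⟩
    · exact ⟨h * w * h⁻¹, hx', (H.img_eq_iff hx'z hrz).mp e'.symm⟩
    · refine ⟨x * (h * w * h⁻¹), mul_mem K.hx hx', (H.img_eq_iff (hxz.mul_left hx'z) hrz).mp ?_⟩
      rw [H.img_mul hxz hx'z, e']
  exact ⟨b, hbB, hb⟩

/-- An element centralising `xc` in `C(z)` centralises `u`. -/
theorem cent_u (H : Hyp z Q χ) (K : Ctx z Q u h x c) {r : G} (hrz : Commute r z)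
    (hr : Commute r (x * c)) : Commute r u := by
  classical
  have P := K.pair
  have huc : Commute (r * u * r⁻¹) (x * c) := (hr.mul_left (K.comm_u H).symm).mul_left hr.inv_left
  have huQ : r * u * r⁻¹ ∈ Q := H.conj_memQ hrz P.sat.1
  show r * u = u * r
  rcases K.cent_Q H huQ huc.symm with e | e | e | e
  · exact absurd e (H.sat_conj P.sat hrz).2.2.1
  · exact absurd e (H.sat_conj P.sat hrz).2.2.2
  · exact mul_inv_eq_iff_eq_mul.mp e
  · exfalso
    have hxz := (P.B_comm H K.hx).1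
    obtain ⟨b, hbB, hb⟩ := K.cent_B H hrz hr
    have hqA : b⁻¹ * r ∉ AA Q u := by
      intro hA
      have h5 : Commute r u := by
        have := (P.B_comm H hbB).2.mul_left (mem_AA.mp hA).2
        rwa [mul_inv_cancel_left] at this
      rw [h5.eq, mul_inv_cancel_right] at e
      exact H.z_ne (mul_eq_left.mp e.symm)
    obtain ⟨hbz, hbu⟩ := P.B_comm H hbB
    -- conjugating by `b` stays in the coset, by `q` does not
    have hcb : ∃ c'', Ctx z Q u h x c'' ∧ InE z u (c⁻¹ * c'') ∧ b⁻¹ * (x * c) * b = x * c'' := by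
      have he1 : InE z u (x⁻¹ * (b⁻¹ * x * b)) := by
        refine P.B_inter_Q H (mul_mem (inv_mem K.hx) (mul_mem (mul_mem (inv_mem hbB) K.hx) hbB)) ?_
        rw [← H.img_eq_iff hxz ((hbz.inv_left.mul_left hxz).mul_left hbz),
          H.img_mul (hbz.inv_left.mul_left hxz) hbz, H.img_mul hbz.inv_left hxz,
          show img χ hbz.inv_left = (img χ hbz)⁻¹ from map_inv χ ⟨b, mem_C.mpr hbz⟩, mul_assoc,
          H.B_img_comm P K.hx hbB, inv_mul_cancel_left]
      have he2 : InE z u (c⁻¹ * (b⁻¹ * c * b)) := P.dl_inE H hbB K.hc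
      set e1 := x⁻¹ * (b⁻¹ * x * b)
      set e2 := c⁻¹ * (b⁻¹ * c * b)
      have he : InE z u (e1 * e2) := P.inE_mul H he1 he2
      refine ⟨c * (e1 * e2), K.coset H (by rwa [inv_mul_cancel_left]),
        by rwa [inv_mul_cancel_left], ?_⟩
      have hc1 : Commute e1 c :=
        (P.inE_comm he1 (H.comm_z (mem_AA.mp K.hc).1) (mem_AA.mp K.hc).2).symm
      calc b⁻¹ * (x * c) * b = (b⁻¹ * x * b) * (b⁻¹ * c * b) := by group
        _ = x * (e1 * c) * e2 := by simp only [e1, e2]; group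
        _ = x * (c * (e1 * e2)) := by rw [hc1.eq]; group
    obtain ⟨c'', K'', hE'', hb''⟩ := hcb
    obtain ⟨c3, -, h3, hn3⟩ := K''.conj_out H hb hqA
    have hfix : r⁻¹ * (x * c) * r = x * c := by rw [mul_assoc, ← hr.eq, inv_mul_cancel_left]
    rw [show r⁻¹ * (x * c) * r = (b⁻¹ * r)⁻¹ * (b⁻¹ * (x * c) * b) * (b⁻¹ * r) by group, hb'', h3]
      at hfix
    rw [mul_left_cancel hfix] at hn3
    refine hn3 ?_
    have := P.inE_inv H hE''
    rw [mul_inv_rev, inv_inv] at this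
    exact this ▸ hE''

theorem _root_.H36.HJ.Pair.d_inj (H : Hyp z Q χ) (P : Pair z Q u h) {q x1 x2 : G} (hq : q ∈ AA Q u)
    (hqn : ¬ InE z u q) (h1 : x1 ∈ BB Q u h) (h2 : x2 ∈ BB Q u h) (h1n : ¬ InE z u x1)
    (h2n : ¬ InE z u x2) (c1 : Commute q x1) (c2 : Commute q x2) : InE z u (x1⁻¹ * x2) := by
  obtain ⟨-, d, -, -, hd, hdn, -, -, hdu⟩ := P.exists_d H (Pair.A_to_B hq) (P.not_inE_conj H hqn)
  have key : ∀ y, y ∈ BB Q u h → ¬ InE z u y → Commute q y → InE z u (d⁻¹ * (h * y * h⁻¹)) := by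
    intro y hy hyn hc
    by_contra hh
    exact hdu _ (P.B_to_A H hy) (P.not_inE_conj H hyn) hh (by simpa using hc.symm.map (MulAut.conj h))
  have e1 := key x1 h1 h1n c1
  have e2 := key x2 h2 h2n c2
  have h3 := P.inE_conj' H (P.inE_mul H ((P.inE_inv H e1).symm ▸ e1) e2)
  refine (?_ : x1⁻¹ * x2 = _) ▸ h3
  group

/-- The centraliser of `xc` in `C(z)` has exponent two. -/
theorem cent_sq (H : Hyp z Q χ) (K : Ctx z Q u h x c) {r : G} (hrz : Commute r z)
    (hr : Commute r (x * c)) : r * r = 1 := by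
  have P := K.pair
  have hru := K.cent_u H hrz hr
  obtain ⟨b, hbB, hq⟩ := K.cent_B H hrz hr
  obtain ⟨hbz, hbu⟩ := P.B_comm H hbB
  obtain ⟨q, rfl⟩ : ∃ q, r = b * q := ⟨b⁻¹ * r, (mul_inv_cancel_left b r).symm⟩
  rw [inv_mul_cancel_left] at hq
  have hqA : q ∈ AA Q u := mem_AA.mpr ⟨hq, by simpa using hbu.inv_left.mul_left hru⟩
  by_cases hbn : InE z u b
  · exact P.inE_sq H (K.cent_Q H (mul_mem (mem_AA.mp (P.inE_mem_A H hbn)).1 hq) hr.symm)
  by_cases hxb : InE z u (x⁻¹ * b)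
  · have he : InE z u ((x * c)⁻¹ * (b * q)) := by
      refine K.cent_Q H ?_ ((Commute.refl (x * c)).inv_right.mul_right hr.symm)
      rw [show (x * c)⁻¹ * (b * q) = c⁻¹ * (x⁻¹ * b) * q by group]
      exact mul_mem (mul_mem (inv_mem (mem_AA.mp K.hc).1) (mem_AA.mp (P.inE_mem_A H hxb)).1) hq
    set e := (x * c)⁻¹ * (b * q)
    have e2 := P.inE_sq H he
    rw [show b * q = x * c * e by simp only [e]; group]
    have hcm : Commute (x * c) e := P.inE_comm he (K.comm_z H) (K.comm_u H)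
    rw [mul_assoc, ← mul_assoc e, ← hcm.eq, mul_assoc (x * c) e e, e2, mul_one, K.sq H]
  -- the generic case
  have hxbu := P.B_noncomm H K.hx hbB (K.x_notE H) hbn hxb
  set α := dl b c with hα
  have hαE : InE z u α := P.dl_inE H hbB K.hc
  have hqz := H.comm_z hq
  have hqu := (mem_AA.mp hqA).2
  have huα : InE z u (u * α) := P.inE_mul H (Or.inr (Or.inr (Or.inl rfl))) hαE
  have hbconj : b⁻¹ * (x * c) * b = x * c * (u * α) := by
    calc b⁻¹ * (x * c) * b = b⁻¹ * (x * b) * (b⁻¹ * c * b) := by group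
      _ = x * (u * c) * α := by rw [hxbu, hα, dl]; group
      _ = _ := by rw [← (mem_AA.mp K.hc).2.eq]; group
  have hfix : (b * q)⁻¹ * (x * c) * (b * q) = x * c := by
    rw [mul_assoc, ← hr.eq, inv_mul_cancel_left]
  rw [show (b * q)⁻¹ * (x * c) * (b * q) = q⁻¹ * (b⁻¹ * (x * c) * b) * q by group, hbconj,
    show q⁻¹ * (x * c * (u * α)) * q = q⁻¹ * (x * c) * ((u * α) * q) by group,
    ← (P.inE_comm huα hqz hqu : Commute q (u * α)).eq,
    show q⁻¹ * (x * c) * (q * (u * α)) = q⁻¹ * (x * c) * q * (u * α) by group, K.conj_A H hqA,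
    mul_assoc, mul_eq_left] at hfix
  have hone : q ∈ AA Q u ∧ dl b q = u * z := by
    refine ⟨hqA, (P.dl_cases H hbB hqA).resolve_left fun hbq => ?_⟩
    have huz2 := (H.sat_mul_z P.sat).2.1
    have hzu : z * u = u * z := (P.u_comm H).eq.symm
    have huu : ∀ w : G, u * (u * w) = w := fun w => by rw [← mul_assoc, P.uu, one_mul]
    have hzz : ∀ w : G, z * (z * w) = w := fun w => by rw [← mul_assoc, H.zz, one_mul]
    have hzuw : ∀ w : G, z * (u * w) = u * (z * w) := fun w => by rw [← mul_assoc, hzu, mul_assoc]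
    rcases P.dl_cases H K.hx hqA with h1 | h1 <;> rcases P.dl_cases H hbB K.hc with h2 | h2 <;>
      rcases K.comm_A_cases H hqA with ⟨h3, h3'⟩ | ⟨h3, h3'⟩ <;>
      simp only [hα, h1, h2, h3] at hfix <;>
      simp [mul_assoc, P.uu, H.zz, hzu, huu, hzz, hzuw, H.z_ne, P.u_ne_one, P.uz_ne_one H] at hfix
    · -- `q` commutes with `x` and `b`
      exact hxb (P.d_inj H hqA (fun e => h3' (P.inE_comm e (H.comm_z (mem_AA.mp K.hc).1)
        (mem_AA.mp K.hc).2)) K.hx hbB (K.x_notE H) hbn (dl_eq_one.mp h1) (dl_eq_one.mp hbq))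
    · -- `c` and `q` commute with `b`
      have hqn : ¬ InE z u q := fun e => h3' (P.inE_comm e (H.comm_z (mem_AA.mp K.hc).1)
        (mem_AA.mp K.hc).2)
      obtain ⟨-, d, -, -, hd, hdn, -, -, hdu⟩ := P.exists_d H hbB hbn
      have k1 : InE z u (d⁻¹ * c) := by
        by_contra hh; exact hdu c K.hc (K.c_notE H) hh (dl_eq_one.mp h2)
      have k2 : InE z u (d⁻¹ * q) := by
        by_contra hh; exact hdu q hqA hqn hh (dl_eq_one.mp hbq)
      have k3 := P.inE_mul H ((P.inE_inv H k1).symm ▸ k1) k2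
      rw [show (d⁻¹ * c)⁻¹ * (d⁻¹ * q) = c⁻¹ * q by group] at k3
      have k4 := (Commute.refl c).mul_right
        (P.inE_comm k3 (H.comm_z (mem_AA.mp K.hc).1) (mem_AA.mp K.hc).2)
      rw [mul_inv_cancel_left] at k4
      exact h3' k4
  exact (⟨P, hbB, hone.1, hone.2⟩ : Ctx z Q u h b q).sq H

end Ctx

end H36.HJ
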