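import Cfsg.Agent.H36.HJ.Core
import Cfsg.Agent.H70.JankoTwoMain
import Cfsg.Agent.H1.Cores
import Cfsg.Agent.S0824
import Cfsg.Agent.S1265

/-!
Groups of Hall–Janko type, part 9: the setup from the hypothesis as stated, the order, and the second
involution centraliser.
-/

set_option autoImplicit false

namespace H36.HJ

local notation "A5" => alternatingGroup (Fin 5)
local notation "V4" => Multiplicative (ZMod 2) × Multiplicative (ZMod 2)

variable {G : Type*} [Group G] [Finite G]
variable {z : G} {Q : Subgroup G} {χ : Subgroup.centralizer ({z} : Set G) →* A5}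
variable {u h x c : G} {X0 : Subgroup G}

theorem isExtraspecial_congr {P P' : Type*} [Group P] [Group P'] {p : ℕ} (e : P ≃* P')
    (hP : Cfsg.IsExtraspecial p P) : Cfsg.IsExtraspecial p P' := by
  obtain ⟨⟨hp, hfr, hcm⟩, hz⟩ := hP
  have hc : (Subgroup.center P).map (e : P →* P') = Subgroup.center P' := by
    ext b
    simp only [Subgroup.mem_map, Subgroup.mem_center_iff, MonoidHom.coe_coe]
    constructor
    · rintro ⟨a, ha, rfl⟩ g
      obtain ⟨g', rfl⟩ := e.surjective g
      rw [← map_mul, ← map_mul, ha g']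
    · intro hb
      obtain ⟨a, rfl⟩ := e.surjective b
      exact ⟨a, fun g => e.injective (by rw [map_mul, map_mul, hb]), rfl⟩
  refine ⟨⟨hp.of_equiv e, ?_, ?_⟩, ?_⟩
  · rw [← hc, ← hfr]
    refine le_antisymm (fun b hb => ?_) ?_
    · exact ⟨e.symm b,
        frattini_le_comap_frattini_of_surjective (φ := (e.symm : P' →* P)) e.symm.surjective hb, by simp⟩
    · exact Subgroup.map_le_iff_le_comap.mpr (frattini_le_comap_frattini_of_surjective e.surjective)
  · rw [← hc, ← hcm, commutator_def, commutator_def, Subgroup.map_commutator,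
      Subgroup.map_top_of_surjective _ e.surjective]
  · rw [← hc, ← hz]
    exact (Nat.card_congr ((Subgroup.center P).equivMapOfInjective _ e.injective).toEquiv).symm

/-- `Ω⁻(4,2) ≅ A₅`. -/
theorem omega_iso :
    Nonempty (Cfsg.Omega (ZMod 2) (Cfsg.quadFormMinus 1 (ZMod 2) 1 1) ≃* A5) := by
  obtain ⟨e⟩ := Cfsg.Agent.S0824.result (F := ZMod 2) (ZMod.card 2)
  have h1 : (commutator (Cfsg.isometryGroup (ZMod 2) (Cfsg.quadFormMinus 1 (ZMod 2) 1 1))).map
      (e : _ →* Equiv.Perm (Fin 5)) = alternatingGroup (Fin 5) := by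
    rw [commutator_def, Subgroup.map_commutator, Subgroup.map_top_of_surjective _ e.surjective,
      ← commutator_def, alternatingGroup.commutator_perm_eq (by simp)]
  exact ⟨((commutator _).equivMapOfInjective _ e.injective).trans (MulEquiv.subgroupCongr h1)⟩

/-- The setup from the hypothesis as stated. -/
theorem exists_two {G : Type*} [Group G] [Finite G] (z : G) (hz : orderOf z = 2)
    (Q : Subgroup (Subgroup.centralizer ({z} : Set G))) [Q.Normal]
    (hF : Cfsg.generalizedFittingSubgroup (Subgroup.centralizer ({z} : Set G)) = Q)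
    (hQ : Cfsg.IsExtraspecial 2 Q) (hcard : Nat.card Q = 2 ^ 5)
    (e : (Subgroup.centralizer ({z} : Set G)) ⧸ Q ≃* Cfsg.Omega (ZMod 2) (Cfsg.quadFormMinus 1 (ZMod 2) 1 1))
    (hnwc : ∃ g : G, (∃ hq : g * z * g⁻¹ ∈ Subgroup.centralizer ({z} : Set G),
      (⟨g * z * g⁻¹, hq⟩ : Subgroup.centralizer ({z} : Set G)) ∈ Q) ∧ g * z * g⁻¹ ≠ z)
    (hcl : ∃ x y : G, orderOf x = 2 ∧ orderOf y = 2 ∧ ¬ IsConj x y) :
    ∃ χ, Two z (Q.map (Subgroup.centralizer ({z} : Set G)).subtype) χ := by
  obtain ⟨i⟩ := omega_iso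
  let χ := ((e.trans i) : _ →* A5).comp (QuotientGroup.mk' Q)
  have hker : ∀ g, χ g = 1 ↔ g ∈ Q := fun g => by
    show (e.trans i) (QuotientGroup.mk' Q g) = 1 ↔ g ∈ Q
    rw [map_eq_one_iff _ (e.trans i).injective]
    exact QuotientGroup.eq_one_iff g
  have hmem : ∀ g : Subgroup.centralizer ({z} : Set G),
      (g : G) ∈ Q.map (Subgroup.centralizer ({z} : Set G)).subtype ↔ g ∈ Q := fun g =>
    Subgroup.mem_map_iff_mem (Subgroup.subtype_injective _)
  have hself : ∀ g : Subgroup.centralizer ({z} : Set G), (∀ q ∈ Q, g * q = q * g) → g ∈ Q := by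
    intro g hg
    have := Cfsg.Agent.S1265.result (G := Subgroup.centralizer ({z} : Set G))
    rw [hF] at this
    exact this (Subgroup.mem_centralizer_iff.mpr fun q hq => (hg q hq).symm)
  refine ⟨χ, ⟨hz, Subgroup.map_subtype_le _, (e.trans i).surjective.comp (QuotientGroup.mk'_surjective Q),
    fun g => (hker g).trans (hmem g).symm,
    isExtraspecial_congr (Q.equivMapOfInjective _ (Subgroup.subtype_injective _)) hQ, ?_, ?_, ?_, ?_⟩, hcl⟩
  · rw [← Nat.card_congr (Q.equivMapOfInjective _ (Subgroup.subtype_injective _)).toEquiv, hcard]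
    norm_num
  · refine (hmem ⟨z, Subgroup.mem_centralizer_singleton_iff.mpr rfl⟩).mpr (hself _ fun q _ => ?_)
    exact Subtype.ext (Subgroup.mem_centralizer_singleton_iff.mp q.2).symm
  · intro g hg hq
    refine (hmem ⟨g, Subgroup.mem_centralizer_singleton_iff.mpr hg⟩).mpr (hself _ fun q hq' => ?_)
    exact Subtype.ext (hq q ((hmem q).mpr hq'))
  · obtain ⟨g, ⟨hgc, hgQ⟩, hne⟩ := hnwc
    exact ⟨g, (hmem ⟨_, hgc⟩).mpr hgQ, hne⟩

theorem Two.cl (W : Two z Q χ) (K : Ctx z Q u h x c) {a : G} (ha : orderOf a = 2) (hn : ¬ IsConj z a) :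
    IsConj (x * c) a := (W.toHyp.invol_cases K ha).resolve_left hn

namespace Full

theorem isIDP (S : Full z Q χ u h x c X0) :
    Cfsg.IsInternalDirectProduct (FF (x * c) X0) X0 (Subgroup.centralizer ({x * c} : Set G)) := by
  refine ⟨inf_le_left, S.kernel.le, fun a ha b hb => (S.FF_comm_X0 ha hb).eq, ?_,
    le_antisymm (sup_le inf_le_left S.kernel.le) fun g hg => ?_⟩
  · exact eq_bot_iff.mpr fun g hg => Subgroup.mem_bot.mpr (S.FF_inter hg.1 hg.2)
  · obtain ⟨f, hf, hk⟩ := S.decomp (Subgroup.mem_centralizer_singleton_iff.mp hg)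
    rw [show g = f * (f⁻¹ * g) by group]
    exact mul_mem (Subgroup.mem_sup_left hf) (Subgroup.mem_sup_right hk)

theorem X0_iso (S : Full z Q χ u h x c X0) : Nonempty (X0 ≃* A5) := by
  haveI := S.isSimple
  exact H59.simple60_iso S.card_X0

theorem card_G (S : Full z Q χ u h x c X0) : Nat.card G = 604800 := by
  have H := S.hyp
  obtain ⟨e⟩ := S.X0_iso
  refine H70.J2Ord.order_eq z (x * c) H.ord (S.two.ord_y S.ctx) (S.two.nconj S.ctx)
    (fun a ha => H.invol_cases S.ctx ha) Q H.le H.zmem H.extra H.card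
    (fun k hk q hq => H.conj_memQ (mem_C.mp hk) hq)
    (fun k hk hq => H.self k (mem_C.mp hk) fun q hq' => hq q hq') H.card_C
    (fun a ha ho => H.invol_Q_conj ha (sq_one_of_orderOf ho) (ne_one_of_orderOf ho))
    (fun a ha ho hQ => ?_) (FF (x * c) X0) X0 S.isIDP S.card_FF
    (fun v hv => by rw [pow_two]; exact S.FF_sq hv) S.y_mem e
    (fun a ha ho => S.kernel.inv_isConj S.two S.ctx ⟨ha, sq_one_of_orderOf ho, ne_one_of_orderOf ho⟩)
    (fun a ha ho hn => S.two.cl S.ctx ho fun hc => hn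
      (S.kernel.zconj_inv S.two S.ctx hc (Subgroup.mem_centralizer_singleton_iff.mp ha)).1)
  obtain ⟨k, -, hk⟩ := H.invol_conj S.ctx (mem_C.mp ha) (sq_one_of_orderOf ho) hQ
  exact isConj_iff.mpr ⟨k, hk⟩

theorem FF_iso (S : Full z Q χ u h x c X0) : Nonempty (FF (x * c) X0 ≃* V4) := by
  classical
  haveI hK : IsKleinFour (FF (x * c) X0) :=
    { card_four := S.card_FF
      exponent_two := by
        refine (Nat.dvd_prime Nat.prime_two).mp (Monoid.exponent_dvd_of_forall_pow_eq_one fun g =>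
          Subtype.ext (by rw [SubgroupClass.coe_pow, pow_two]; exact S.FF_sq g.2)) |>.resolve_left fun e => ?_
        rw [Monoid.exp_eq_one_iff] at e
        have := S.card_FF
        rw [Nat.card_of_subsingleton (1 : FF (x * c) X0)] at this
        omega }
  have h4 : Nat.card V4 = 4 := by simp
  obtain ⟨e⟩ := (Finite.card_eq.mp (S.card_FF.trans h4.symm))
  have e' : (FF (x * c) X0) ≃ V4 := e.trans (Equiv.swap (e 1) 1)
  refine ⟨IsKleinFour.mulEquiv' (e.trans (Equiv.swap (e 1) 1)) (by simp) ?_⟩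
  refine (Nat.dvd_prime Nat.prime_two).mp (Monoid.exponent_dvd_of_forall_pow_eq_one (by decide))
    |>.resolve_left fun e1 => ?_
  rw [Monoid.exp_eq_one_iff] at e1
  rw [Nat.card_of_subsingleton (1 : V4)] at h4
  omega

omit [Finite G] in
theorem prod_iso {A B M : Subgroup G} [Finite M] (hA : A ≤ M) (hB : B ≤ M)
    (hcomm : ∀ a ∈ A, ∀ b ∈ B, Commute a b) (hdisj : ∀ g ∈ A, g ∈ B → g = 1)
    (hcard : Nat.card A * Nat.card B = Nat.card M) : Nonempty (M ≃* A × B) := by
  have hcm : ∀ (a : A) (b : B), Commute (Subgroup.inclusion hA a) (Subgroup.inclusion hB b) :=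
    fun a b => Subtype.ext (hcomm a a.2 b b.2)
  let f : A × B →* M := MonoidHom.noncommCoprod _ _ hcm
  have hinj : Function.Injective f := by
    rw [← MonoidHom.ker_eq_bot_iff, eq_bot_iff]
    rintro ⟨a, b⟩ hab
    have h' : (a : G) * b = 1 := congrArg Subtype.val hab
    have ha : (a : G) = 1 := hdisj _ a.2 (by rw [eq_inv_of_mul_eq_one_left h']; exact inv_mem b.2)
    rw [ha, one_mul] at h'
    exact Subgroup.mem_bot.mpr (Prod.ext (Subtype.ext ha) (Subtype.ext h'))
  haveI : Finite A := Finite.of_injective _ (Subgroup.inclusion_injective hA)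
  haveI : Finite B := Finite.of_injective _ (Subgroup.inclusion_injective hB)
  exact ⟨(MulEquiv.ofBijective f (hinj.bijective_of_nat_card_le (by rw [Nat.card_prod, hcard]))).symm⟩

theorem X_iso (S : Full z Q χ u h x c X0) :
    Nonempty (Subgroup.centralizer ({x * c} : Set G) ≃* V4 × A5) := by
  obtain ⟨e⟩ := prod_iso (M := Subgroup.centralizer ({x * c} : Set G)) (A := FF (x * c) X0) (B := X0)
    inf_le_left S.kernel.le (fun a ha b hb => S.FF_comm_X0 ha hb) (fun g => S.FF_inter)
    (by rw [S.card_FF, S.card_X0, S.card_X])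
  obtain ⟨e1⟩ := S.FF_iso
  obtain ⟨e2⟩ := S.X0_iso
  exact ⟨e.trans (e1.prodCongr e2)⟩

theorem NN_iso (S : Full z Q χ u h x c X0) :
    Nonempty (NN (x * c) X0 ≃* alternatingGroup (Fin 4) × A5) := by
  obtain ⟨e⟩ := prod_iso (M := NN (x * c) X0) (A := DD (x * c) X0) (B := X0)
    inf_le_left (S.kernel.le.trans S.X_le_NN) (fun a ha b hb => S.DD_comm_X0 ha hb)
    (fun g hg hk => S.cent_X0_z hk fun _ hl => S.DD_comm_X0 hg hl)
    (by rw [S.card_DD, S.card_X0, S.card_NN])
  obtain ⟨e1⟩ := S.DD_iso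
  obtain ⟨e2⟩ := S.X0_iso
  exact ⟨e.trans (e1.prodCongr e2)⟩

theorem pCore_X (S : Full z Q χ u h x c X0) :
    (Cfsg.pCore 2 (Subgroup.centralizer ({x * c} : Set G))).map
      (Subgroup.centralizer ({x * c} : Set G)).subtype = FF (x * c) X0 := by
  classical
  set X := Subgroup.centralizer ({x * c} : Set G)
  have hFX : FF (x * c) X0 ≤ X := inf_le_left
  set P := Cfsg.pCore 2 X
  have hPn : P.Normal := H1.pCore_normal' 2 X
  have hPp : IsPGroup 2 P := H1.isPGroup_pCore 2 X
  refine le_antisymm ?_ ?_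
  · rintro _ ⟨g, hg, rfl⟩
    haveI := S.isSimple
    refine mem_FF.mpr ⟨Subgroup.mem_centralizer_singleton_iff.mp g.2, fun k hk => ?_⟩
    set M := P.comap (Subgroup.inclusion S.kernel.le)
    have hM : M = ⊥ := by
      rcases (hPn.comap (Subgroup.inclusion S.kernel.le)).eq_bot_or_eq_top with e | e
      · exact e
      · exfalso
        have h2 : IsPGroup 2 M := hPp.comap_of_injective _ (Subgroup.inclusion_injective _)
        haveI : Fact (Nat.Prime 2) := ⟨Nat.prime_two⟩
        obtain ⟨n, hn⟩ := IsPGroup.iff_card.mp h2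
        rw [show M = ⊤ from e, Subgroup.card_top, S.card_X0] at hn
        have h3 : 3 ∣ 2 ^ n := hn ▸ (by norm_num)
        have := Nat.Prime.dvd_of_dvd_pow Nat.prime_three h3
        omega
    set k' : X := ⟨k, S.kernel.le hk⟩
    have h1 : g * k' * g⁻¹ * k'⁻¹ ∈ P := by
      rw [mul_assoc g k', mul_assoc g]
      exact mul_mem hg (hPn.conj_mem _ (inv_mem hg) k')
    have h2 : ((g * k' * g⁻¹ * k'⁻¹ : X) : G) ∈ X0 :=
      mul_mem (S.kernel.normal g (Subgroup.mem_centralizer_singleton_iff.mp g.2) k hk) (inv_mem hk)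
    have h3 : (⟨_, h2⟩ : X0) ∈ M := h1
    rw [hM, Subgroup.mem_bot] at h3
    have h4 : (g : G) * k * (g : G)⁻¹ * k⁻¹ = 1 := congrArg Subtype.val h3
    exact commutatorElement_eq_one_iff_mul_comm.mp h4
  · have hn : ((FF (x * c) X0).subgroupOf X).Normal := ⟨fun f hf g => by
      rw [Subgroup.mem_subgroupOf] at hf ⊢
      exact (Subgroup.mem_normalizer_iff.mp (S.X_le_NN g.2) _).mp hf⟩
    have hp : IsPGroup 2 ((FF (x * c) X0).subgroupOf X) := fun g =>
      ⟨1, Subtype.ext (Subtype.ext (by simpa [pow_two] using S.FF_sq (Subgroup.mem_subgroupOf.mp g.2)))⟩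
    intro g hg
    haveI := hn
    exact ⟨⟨g, hFX hg⟩, H1.le_pCore hp (show (⟨g, hFX hg⟩ : X) ∈ (FF (x * c) X0).subgroupOf X from hg), rfl⟩

theorem cent_invol (S : Full z Q χ u h x c X0) {t : G} (ht : orderOf t = 2) (htz : ¬ IsConj t z) :
    Nonempty (↥(Subgroup.centralizer ({t} : Set G)) ≃* V4 × A5) ∧
      Nonempty (↥(Subgroup.normalizer (((Cfsg.pCore 2 ↥(Subgroup.centralizer ({t} : Set G))).map
        (Subgroup.subtype (Subgroup.centralizer ({t} : Set G))) : Subgroup G) : Set G)) ≃*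
          alternatingGroup (Fin 4) × A5) := by
  classical
  obtain ⟨g, hg⟩ := isConj_iff.mp (S.two.cl S.ctx ht fun hc => htz hc.symm)
  set φ := MulAut.conj g with hφ
  set X := Subgroup.centralizer ({x * c} : Set G)
  have hX : X.map (φ : G →* G) = Subgroup.centralizer ({t} : Set G) := by
    ext k
    show k ∈ X.map φ.toMonoidHom ↔ _
    rw [Subgroup.mem_map_equiv, Subgroup.mem_centralizer_singleton_iff,
      Subgroup.mem_centralizer_singleton_iff, ← hg]
    show φ.symm k * (x * c) = (x * c) * φ.symm k ↔ k * φ (x * c) = φ (x * c) * k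
    rw [← φ.injective.eq_iff]
    simp only [map_mul, φ.apply_symm_apply, mul_assoc]
  let e : X ≃* Subgroup.centralizer ({t} : Set G) := (φ.subgroupMap X).trans (MulEquiv.subgroupCongr hX)
  have hP : (Cfsg.pCore 2 (Subgroup.centralizer ({t} : Set G))).map
      (Subgroup.centralizer ({t} : Set G)).subtype = (FF (x * c) X0).map (φ : G →* G) := by
    rw [← H1.map_pCore_equiv 2 e, ← S.pCore_X, Subgroup.map_map, Subgroup.map_map]
    congr 1
  refine ⟨?_, ?_⟩
  · obtain ⟨e1⟩ := S.X_iso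
    exact ⟨e.symm.trans e1⟩
  · obtain ⟨e2⟩ := S.NN_iso
    have hN : (NN (x * c) X0).map (φ : G →* G) =
        Subgroup.normalizer ((((Cfsg.pCore 2 (Subgroup.centralizer ({t} : Set G))).map
          (Subgroup.centralizer ({t} : Set G)).subtype) : Subgroup G) : Set G) := by
      rw [hP]
      exact Subgroup.map_normalizer_eq_of_bijective _ φ.bijective
    exact ⟨((φ.subgroupMap _).trans (MulEquiv.subgroupCongr hN)).symm.trans e2⟩

end Full

end H36.HJ
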