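import Cfsg.Agent.H36.HJ.Main
import Cfsg.Agent.H65.Dihedral

/-!
Groups of Hall–Janko type, part 10: elements of order three and five.  No such element commutes with
involutions of both classes, and the centraliser of one lying in `X0` has order `12p` or `60p`.
-/

set_option autoImplicit false

namespace H36.HJ

local notation "A5" => alternatingGroup (Fin 5)

variable {G : Type*} [Group G] [Finite G]
variable {z : G} {Q : Subgroup G} {χ : Subgroup.centralizer ({z} : Set G) →* A5}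
variable {u h x c : G} {X0 : Subgroup G}

theorem a5_odd_cent : ∀ a b : A5, (a ^ 3 = 1 ∨ a ^ 5 = 1) → a ≠ 1 → a * b = b * a →
    b = 1 ∨ b = a ∨ b = a ^ 2 ∨ b = a ^ 3 ∨ b = a ^ 4 := by decide +kernel

theorem a5_odd_invol : ∀ a b : A5, a * a = 1 → a ≠ 1 → (b ^ 3 = 1 ∨ b ^ 5 = 1) → b ≠ 1 →
    a * b ≠ b * a := by decide +kernel

/-- `w` has order three or five. -/
def IsOdd (w : G) : Prop := orderOf w = 3 ∨ orderOf w = 5

omit [Finite G] in
theorem IsOdd.ne_one {w : G} (hw : IsOdd w) : w ≠ 1 := fun e => by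
  rcases hw with h | h <;> rw [e, orderOf_one] at h <;> omega

omit [Finite G] in
theorem IsOdd.conj {w g : G} (hw : IsOdd w) : IsOdd (g * w * g⁻¹) := by
  have e : orderOf (g * w * g⁻¹) = orderOf w :=
    orderOf_injective (MulAut.conj g).toMonoidHom (MulAut.conj g).injective w
  rwa [IsOdd, e]

omit [Finite G] in
theorem IsOdd.pow_cases {w : G} (hw : IsOdd w) : w ^ 3 = 1 ∨ w ^ 5 = 1 :=
  hw.imp (fun h => orderOf_dvd_iff_pow_eq_one.mp h.dvd) (fun h => orderOf_dvd_iff_pow_eq_one.mp h.dvd)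

omit [Finite G] in
theorem IsOdd.eq_one_of_sq {w k : G} (hw : IsOdd w) (hk : k ∈ Subgroup.zpowers w) (h2 : k * k = 1) :
    k = 1 := by
  have h1 : orderOf k ∣ orderOf w := orderOf_dvd_of_mem_zpowers hk
  have h3 : orderOf k ∣ 2 := orderOf_dvd_of_pow_eq_one (by rw [pow_two]; exact h2)
  have h4 := Nat.dvd_gcd h1 h3
  rw [← orderOf_eq_one_iff]
  rcases hw with e | e <;> rw [e] at h4 <;> exact Nat.dvd_one.mp h4

theorem Two.not_core (W : Two z Q χ) (K : Ctx z Q u h x c) {w s : G} (hw : IsOdd w)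
    (hwz : Commute w z) (hsz : Commute s z) (hs : IsConj (x * c) s) (hws : Commute w s) : False := by
  have H := W.toHyp
  have hs2 := sq_one_of_orderOf (two_of_conj hs (W.ord_y K))
  have hwQ : w ∉ Q := fun hm => by
    have h1 := orderOf_dvd_natCard (⟨w, hm⟩ : Q)
    rw [Subgroup.orderOf_mk, H.card] at h1
    rcases hw with e | e <;> rw [e] at h1 <;> norm_num at h1
  refine a5_odd_invol (img χ hsz) (img χ hwz) ?_ (fun e => W.yconj_not_mem K hs ((H.img_eq_one _).mp e))
    ?_ (fun e => hwQ ((H.img_eq_one _).mp e)) ?_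
  · rw [← H.img_mul hsz hsz]; exact (H.img_eq_one _).mpr (by rw [hs2]; exact one_mem Q)
  · rcases hw.pow_cases with e | e
    · left
      show χ _ ^ 3 = 1
      rw [← map_pow]
      exact (H.ker _).mpr (by rw [SubgroupClass.coe_pow]; show w ^ 3 ∈ Q; rw [e]; exact one_mem Q)
    · right
      show χ _ ^ 5 = 1
      rw [← map_pow]
      exact (H.ker _).mpr (by rw [SubgroupClass.coe_pow]; show w ^ 5 ∈ Q; rw [e]; exact one_mem Q)
  · rw [← H.img_mul hsz hwz, ← H.img_mul hwz hsz, H.img_eq_iff, hws.eq, inv_mul_cancel]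
    exact one_mem Q

theorem Two.not_mixed (W : Two z Q χ) (K : Ctx z Q u h x c) {w i s : G} (hw : IsOdd w)
    (hi : IsConj z i) (hs : IsConj (x * c) s) (his : Commute i s) (hwi : Commute w i)
    (hws : Commute w s) : False := by
  obtain ⟨g, hg⟩ := isConj_iff.mp hi.symm
  refine W.not_core K (w := g * w * g⁻¹) (s := g * s * g⁻¹) hw.conj ?_ ?_
    (hs.trans (isConj_iff.mpr ⟨g, rfl⟩)) (conj_commute_iff.mpr hws)
  · rw [← hg]; exact conj_commute_iff.mpr hwi
  · rw [← hg]; exact conj_commute_iff.mpr his.symm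

/-- An element of order three or five does not commute with involutions of both classes. -/
theorem Two.no_both (W : Two z Q χ) (K : Ctx z Q u h x c) {w i s : G} (hw : IsOdd w)
    (hi : IsConj z i) (hs : IsConj (x * c) s) (hwi : Commute w i) (hws : Commute w s) : False := by
  have hio := two_of_conj hi W.toHyp.ord
  have hso := two_of_conj hs (W.ord_y K)
  have hne : ¬ IsConj i s := fun e => W.nconj K (hi.trans (e.trans hs.symm))
  obtain ⟨-, k, hk, hki, hks, hkm⟩ := H65.exists_commuting_of_not_isConj hio hso hne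
  have hwk : Commute w k := by
    obtain ⟨j, rfl⟩ := Subgroup.mem_zpowers_iff.mp hkm
    exact (hwi.mul_right hws).zpow_right j
  rcases W.toHyp.invol_cases K hk with e | e
  · exact W.not_mixed K hw e hs hks hwk hws
  · exact W.not_mixed K hw hi e hki.symm hwi hwk

namespace Full

theorem cent_X0_odd (S : Full z Q χ u h x c X0) {w k : G} (hwX : w ∈ X0) (hw : IsOdd w) (hk : k ∈ X0)
    (hc : Commute k w) : k ∈ Subgroup.zpowers w := by
  obtain ⟨e⟩ := S.X0_iso
  have h1 : (⟨w, hwX⟩ : X0) ≠ 1 := fun e' => hw.ne_one (congrArg Subtype.val e')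
  have hp : e ⟨w, hwX⟩ ^ 3 = 1 ∨ e ⟨w, hwX⟩ ^ 5 = 1 := by
    rcases hw.pow_cases with h | h
    · left; rw [← map_pow, show (⟨w, hwX⟩ : X0) ^ 3 = 1 from Subtype.ext (by simp [h]), map_one]
    · right; rw [← map_pow, show (⟨w, hwX⟩ : X0) ^ 5 = 1 from Subtype.ext (by simp [h]), map_one]
  have := a5_odd_cent (e ⟨w, hwX⟩) (e ⟨k, hk⟩) hp
    (fun e' => h1 (e.injective (by rw [e', map_one])))
    (by rw [← map_mul, ← map_mul]; congr 1; exact Subtype.ext hc.symm.eq)
  have hpow : ∀ n : ℕ, e ⟨k, hk⟩ = e ⟨w, hwX⟩ ^ n → k ∈ Subgroup.zpowers w := fun n hn => by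
    rw [← map_pow] at hn
    have : k = w ^ n := congrArg Subtype.val (e.injective hn)
    rw [this]; exact Subgroup.npow_mem_zpowers w n
  rcases this with h | h | h | h | h
  · exact hpow 0 (by rw [h, pow_zero])
  · exact hpow 1 (by rw [h, pow_one])
  · exact hpow 2 h
  · exact hpow 3 h
  · exact hpow 4 h

theorem cent_y_odd (S : Full z Q χ u h x c X0) {w g : G} (hwX : w ∈ X0) (hw : IsOdd w)
    (hgy : Commute g (x * c)) (hgw : Commute g w) :
    ∃ f ∈ FF (x * c) X0, f⁻¹ * g ∈ Subgroup.zpowers w := by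
  obtain ⟨f, hf, hk⟩ := S.decomp hgy
  exact ⟨f, hf, S.cent_X0_odd hwX hw hk ((S.FF_comm_X0 hf hwX).inv_left.mul_left hgw)⟩

theorem FF_orbit (S : Full z Q χ u h x c X0) {g : G} (hg : g ∈ NN (x * c) X0) (hg3 : orderOf g = 3)
    (hny : ¬ Commute g (x * c)) {f : G} (hf : f ∈ FF (x * c) X0) (h1 : f ≠ 1) :
    ∃ n : ℕ, g ^ n * (x * c) * (g ^ n)⁻¹ = f := by
  classical
  let φ : Fin 3 → {f : G // f ∈ FF (x * c) X0 ∧ f ≠ 1} := fun i =>
    ⟨g ^ (i : ℕ) * (x * c) * (g ^ (i : ℕ))⁻¹, S.mem_NN.mp (pow_mem hg _),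
      inv_ne_one_conj (S.ctx.ne_one S.hyp)⟩
  have key : ∀ n : ℕ, Commute (g ^ n) (x * c) → 3 ∣ n := by
    intro n hn
    by_contra h3
    have hco : (orderOf g).Coprime n := hg3 ▸ (Nat.Prime.coprime_iff_not_dvd Nat.prime_three).mpr h3
    obtain ⟨m, hm⟩ := exists_pow_eq_self_of_coprime hco.symm
    exact hny (hm ▸ hn.pow_left m)
  have hφ : Function.Injective φ := by
    intro i j hij
    have e := congrArg Subtype.val hij
    simp only [φ] at e
    rcases le_total (i : ℕ) j with hle | hle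
    · obtain ⟨d, hd⟩ := Nat.exists_eq_add_of_le hle
      have hc : Commute (g ^ d) (x * c) := mul_inv_eq_iff_eq_mul.mp (mul_left_cancel (mul_right_cancel
        (show g ^ (i : ℕ) * (g ^ d * (x * c) * (g ^ d)⁻¹) * (g ^ (i : ℕ))⁻¹ =
          g ^ (i : ℕ) * (x * c) * (g ^ (i : ℕ))⁻¹ by
            rw [e, hd, pow_add]; group)))
      have := key d hc
      have := i.isLt
      have := j.isLt
      exact Fin.ext (by omega)
    · obtain ⟨d, hd⟩ := Nat.exists_eq_add_of_le hle
      have hc : Commute (g ^ d) (x * c) := mul_inv_eq_iff_eq_mul.mp (mul_left_cancel (mul_right_cancel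
        (show g ^ (j : ℕ) * (g ^ d * (x * c) * (g ^ d)⁻¹) * (g ^ (j : ℕ))⁻¹ =
          g ^ (j : ℕ) * (x * c) * (g ^ (j : ℕ))⁻¹ by
            rw [← e, hd, pow_add]; group)))
      have := key d hc
      have := i.isLt
      have := j.isLt
      exact Fin.ext (by omega)
  obtain ⟨i, hi⟩ := (hφ.bijective_of_nat_card_le (by rw [S.card_FF_ne_one]; simp)).2 ⟨f, hf, h1⟩
  exact ⟨i, congrArg Subtype.val hi⟩

/-- The centraliser of an element of order `p = 3, 5` of `X0` has order `12p` or `60p`. -/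
theorem card_cent_odd (S : Full z Q χ u h x c X0) {w : G} (hwX : w ∈ X0) (hw : IsOdd w) :
    Nat.card (Subgroup.centralizer ({w} : Set G)) = orderOf w * 12 ∨
      Nat.card (Subgroup.centralizer ({w} : Set G)) = orderOf w * 60 := by
  classical
  have H := S.hyp
  obtain ⟨g, hg3, hgD, -, hny⟩ := S.exists_three
  set y := x * c
  set F := FF y X0
  set M := Subgroup.centralizer ({w} : Set G)
  have hMm : ∀ {m : G}, m ∈ M ↔ Commute m w := Subgroup.mem_centralizer_singleton_iff
  set K : Subgroup M := (Subgroup.zpowers w).subgroupOf M with hKdef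
  have hKn : K.Normal := ⟨fun k hk m => by
    rw [Subgroup.mem_subgroupOf] at hk ⊢
    obtain ⟨j, hj⟩ := Subgroup.mem_zpowers_iff.mp hk
    have : ((m * k * m⁻¹ : M) : G) = (k : G) := by
      show (m : G) * k * (m : G)⁻¹ = k
      rw [← hj, ((hMm.mp m.2).zpow_right j).eq, mul_inv_cancel_right]
    rw [this]; exact hk⟩
  let mk : M →* M ⧸ K := QuotientGroup.mk' K
  have hmk : ∀ a b : M, mk a = mk b ↔ (a : G)⁻¹ * b ∈ Subgroup.zpowers w := fun a b =>
    QuotientGroup.eq.trans Subgroup.mem_subgroupOf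
  have hFM : ∀ {f : G}, f ∈ F → f ∈ M := fun hf => hMm.mpr (S.FF_comm_X0 hf hwX)
  set V : Subgroup (M ⧸ K) := (F.subgroupOf M).map mk
  have hVm : ∀ {q : M ⧸ K}, q ∈ V → ∃ v : M, (v : G) ∈ F ∧ mk v = q := fun ⟨v, hv, e⟩ => ⟨v, hv, e⟩
  have hinj : ∀ {a b : M}, (a : G) ∈ F → (b : G) ∈ F → mk a = mk b → a = b := by
    intro a b ha hb e
    have hm := (hmk a b).mp e
    exact Subtype.ext (inv_mul_eq_one.mp (hw.eq_one_of_sq hm (S.FF_sq (mul_mem (inv_mem ha) hb))))
  have hV4 : Nat.card V = 4 := by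
    rw [← S.card_FF]
    refine (Nat.card_congr (Equiv.ofBijective
      (fun f : F => (⟨mk ⟨f, hFM f.2⟩, ⟨f, hFM f.2⟩, f.2, rfl⟩ : V)) ⟨?_, ?_⟩)).symm
    · intro a b e
      exact Subtype.ext (congrArg Subtype.val (hinj (a := ⟨a, hFM a.2⟩) (b := ⟨b, hFM b.2⟩) a.2 b.2
        (congrArg Subtype.val e)) :)
    · rintro ⟨_, v, hv, rfl⟩
      exact ⟨⟨v, hv⟩, rfl⟩
  have hcentv : ∀ v : M, (v : G) ∈ F → v ≠ 1 → Subgroup.centralizer ({mk v} : Set (M ⧸ K)) = V := by
    intro v hv hv1
    have hv1' : (v : G) ≠ 1 := fun e => hv1 (Subtype.ext e)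
    ext q
    obtain ⟨m, rfl⟩ := QuotientGroup.mk'_surjective K q
    rw [Subgroup.mem_centralizer_singleton_iff]
    constructor
    · intro hc
      have e : mk (v * m) = mk (m * v) := by rw [map_mul, map_mul]; exact hc.symm
      have hk := (hmk _ _).mp e
      have hcm : Commute ((v * m : M) : G)⁻¹ w := (hMm.mp (v * m).2).inv_left
      set k := ((v * m : M) : G)⁻¹ * (m * v : M) with hkdef
      have hkv : (m : G) * v * (m : G)⁻¹ = (v : G) * k := by
        obtain ⟨j, hj⟩ := Subgroup.mem_zpowers_iff.mp hk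
        have hkm : Commute k (m : G) := by rw [← hj]; exact ((hMm.mp m.2).zpow_right j).symm
        have e1 : (m : G) * v = v * m * k := by rw [hkdef]; simp [mul_assoc]
        rw [e1, mul_assoc (v : G), ← hkm.eq]; group
      have hk1 : k = 1 := by
        refine hw.eq_one_of_sq hk ?_
        have hkc : Commute k (v : G) := by
          obtain ⟨j, hj⟩ := Subgroup.mem_zpowers_iff.mp hk
          rw [← hj]; exact ((hMm.mp v.2).zpow_right j).symm
        have h2 : (m : G) * v * (m : G)⁻¹ * ((m : G) * v * (m : G)⁻¹) = 1 := by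
          rw [show (m : G) * v * (m : G)⁻¹ * ((m : G) * v * (m : G)⁻¹) = (m : G) * (v * v) * (m : G)⁻¹ by
            group, S.FF_sq hv, mul_one, mul_inv_cancel]
        rw [hkv] at h2
        calc k * k = (v : G) * v * (k * k) := by rw [S.FF_sq hv, one_mul]
          _ = v * (v * k) * k := by group
          _ = v * (k * v) * k := by rw [hkc.eq]
          _ = (v : G) * k * (v * k) := by group
          _ = 1 := h2
      rw [hk1, mul_one] at hkv
      have hmX : (m : G) ∈ Subgroup.centralizer ({(v : G)} : Set G) :=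
        Subgroup.mem_centralizer_singleton_iff.mpr (mul_inv_eq_iff_eq_mul.mp hkv)
      rw [S.cent_FF hv hv1', Subgroup.mem_centralizer_singleton_iff] at hmX
      obtain ⟨f, hf, hfm⟩ := S.cent_y_odd hwX hw hmX (hMm.mp m.2)
      exact ⟨⟨f, hFM hf⟩, hf, (hmk _ _).mpr hfm⟩
    · rintro ⟨f, hf, e⟩
      show mk m * mk v = mk v * mk m
      rw [show mk m = mk f from e.symm, ← map_mul, ← map_mul,
        show f * v = v * f from Subtype.ext (S.ctx.TT_comm H (S.FF_T hf) (S.FF_T hv)).eq]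
  have hgM : g ∈ M := hMm.mpr (S.DD_comm_X0 hgD hwX)
  have hgN : g ∈ NN y X0 := (Subgroup.mem_inf.mp hgD).1
  set yM : M := ⟨y, hFM S.y_mem⟩
  have horb : ∀ v : M, (v : G) ∈ F → v ≠ 1 → ∃ n : ℕ, (⟨g, hgM⟩ : M) ^ n * yM * ((⟨g, hgM⟩ : M) ^ n)⁻¹ = v := by
    intro v hv hv1
    obtain ⟨n, hn⟩ := S.FF_orbit hgN hg3 hny hv (fun e => hv1 (Subtype.ext e))
    exact ⟨n, Subtype.ext (by simpa using hn)⟩
  have hyM1 : yM ≠ 1 := fun e => S.ctx.ne_one H (congrArg Subtype.val e)
  have hinv : ∀ s : M, orderOf s = 2 → ∀ v : M, (v : G) ∈ F → v ≠ 1 → IsConj v s := by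
    intro s hs v hv hv1
    have hyv : IsConj yM v := by
      obtain ⟨n, hn⟩ := horb v hv hv1
      exact isConj_iff.mpr ⟨_, hn⟩
    refine hyv.symm.trans ?_
    by_contra hns
    have hyo : orderOf yM = 2 := orderOf_two (Subtype.ext (S.FF_sq S.y_mem)) hyM1
    obtain ⟨-, k, hk, hky, hks, -⟩ := H65.exists_commuting_of_not_isConj hyo hs hns
    have hkF : ∀ {r : M}, r * r = 1 → Commute (r : G) y → (r : G) ∈ F := by
      intro r hr hry
      obtain ⟨f, hf, hfr⟩ := S.cent_y_odd hwX hw hry (hMm.mp r.2)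
      have hr' : (r : G) * r = 1 := congrArg Subtype.val hr
      have hfrc : Commute f (r : G) := by
        have h1 : Commute f (f⁻¹ * (r : G)) := by
          obtain ⟨j, hj⟩ := Subgroup.mem_zpowers_iff.mp hfr
          rw [← hj]; exact (S.FF_comm_X0 hf hwX).zpow_right j
        have := (Commute.refl f).mul_right h1
        rwa [mul_inv_cancel_left] at this
      have h1 : f⁻¹ * (r : G) = 1 := hw.eq_one_of_sq hfr (by
        rw [inv_eq_of_mul_eq_one_right (S.FF_sq hf), show f * (r : G) * (f * r) = f * (r * f) * r by group,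
          ← hfrc.eq, show f * (f * (r : G)) * r = (f * f) * (r * r) by group, S.FF_sq hf, hr', one_mul])
      rwa [inv_mul_eq_one.mp h1] at hf
    have hkF' := hkF (sq_one_of_orderOf hk) (congrArg Subtype.val hky.eq : _)
    have hk1 : (k : G) ≠ 1 := fun e => ne_one_of_orderOf hk (Subtype.ext e)
    have hsX : (s : G) ∈ Subgroup.centralizer ({(k : G)} : Set G) :=
      Subgroup.mem_centralizer_singleton_iff.mpr (congrArg Subtype.val hks.symm.eq)
    rw [S.cent_FF hkF' hk1, Subgroup.mem_centralizer_singleton_iff] at hsX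
    obtain ⟨n, hn⟩ := horb s (hkF (sq_one_of_orderOf hs) hsX) (ne_one_of_orderOf hs)
    exact hns (isConj_iff.mpr ⟨_, hn⟩)
  have hwp : orderOf w % 2 = 1 := by rcases hw with e | e <;> rw [e]
  have hconj : ∀ t : M ⧸ K, orderOf t = 2 → ∀ a ∈ V, a ≠ 1 → IsConj a t := by
    intro t ht a ha ha1
    obtain ⟨m, rfl⟩ := QuotientGroup.mk'_surjective K t
    obtain ⟨v, hv, rfl⟩ := hVm ha
    have hm2 : ((m * m : M) : G) ∈ Subgroup.zpowers w := by
      have h1 := (hmk 1 (m * m)).mp (by rw [map_one, map_mul]; exact (sq_one_of_orderOf ht).symm)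
      simpa using h1
    have hmp : mk (m ^ orderOf w) = mk m := by
      rw [map_pow, ← Nat.mod_add_div (orderOf w) 2, hwp, pow_add, pow_one, pow_mul, pow_two,
        sq_one_of_orderOf ht, one_pow, mul_one]
    have hs2 : m ^ orderOf w * m ^ orderOf w = 1 := by
      obtain ⟨j, hj⟩ := Subgroup.mem_zpowers_iff.mp hm2
      refine Subtype.ext ?_
      rw [← (Commute.refl m).mul_pow, SubgroupClass.coe_pow, OneMemClass.coe_one, ← hj, ← zpow_natCast,
        ← zpow_mul, mul_comm, zpow_mul, zpow_natCast, pow_orderOf_eq_one, one_zpow]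
    have hs1 : m ^ orderOf w ≠ 1 := fun e => ne_one_of_orderOf ht (by
      show mk m = 1
      rw [← hmp, e, map_one])
    have hv1 : v ≠ 1 := fun e => ha1 (by rw [e, map_one])
    have := mk.map_isConj (hinv _ (orderOf_two hs2 hs1) v hv hv1)
    rwa [hmp] at this
  have hyV : mk yM ∈ V := ⟨yM, S.y_mem, rfl⟩
  set N := Subgroup.normalizer (V : Set (M ⧸ K))
  have hN12 : Nat.card N = 12 := by
    have hgN' : mk ⟨g, hgM⟩ ∈ N := by
      refine mem_normalizer_of_maps fun q hq => ?_
      obtain ⟨v, hv, rfl⟩ := hVm hq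
      exact ⟨⟨g, hgM⟩ * v * (⟨g, hgM⟩ : M)⁻¹,
        (Subgroup.mem_normalizer_iff.mp hgN _).mp hv, by rw [map_mul, map_mul, map_inv]⟩
    have e1 := H65.card_conjugates_mul (⟨mk yM, Subgroup.le_normalizer hyV⟩ : N)
    have h3 : Nat.card {r : N // IsConj (⟨mk yM, Subgroup.le_normalizer hyV⟩ : N) r} =
        Nat.card {r : V // r ≠ 1} := by
      refine Nat.card_congr
        { toFun := fun r => ⟨⟨((r : N) : M ⧸ K), ?_⟩, ?_⟩
          invFun := fun r => ⟨⟨(r : V), Subgroup.le_normalizer (r : V).2⟩, ?_⟩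
          left_inv := fun r => rfl
          right_inv := fun r => rfl }
      · obtain ⟨k, hk⟩ := isConj_iff.mp r.2
        rw [← hk]
        exact (Subgroup.mem_normalizer_iff.mp k.2 _).mp hyV
      · intro e
        obtain ⟨k, hk⟩ := isConj_iff.mp r.2
        have : ((r : N) : M ⧸ K) = 1 := congrArg Subtype.val e
        rw [← hk] at this
        exact hyM1 (hinj S.y_mem (one_mem _) ((conj_eq_one_iff.mp this).trans (map_one mk).symm))
      · obtain ⟨v, hv, e⟩ := hVm (r : V).2
        have hv1 : v ≠ 1 := fun e' => r.2 (Subtype.ext (by rw [← e, e', map_one]; rfl))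
        obtain ⟨n, hn⟩ := horb v hv hv1
        refine isConj_iff.mpr ⟨⟨mk ⟨g, hgM⟩, hgN'⟩ ^ n, Subtype.ext ?_⟩
        simp only [Subgroup.coe_mul, SubgroupClass.coe_pow, Subgroup.coe_inv]
        rw [← map_pow, ← map_inv, ← map_mul, ← map_mul, hn, e]
    have hc4 : Nat.card (Subgroup.centralizer ({(⟨mk yM, Subgroup.le_normalizer hyV⟩ : N)} : Set N)) = 4 := by
      rw [← hV4]
      refine Nat.card_congr
        { toFun := fun r => ⟨((r : N) : M ⧸ K), (hcentv yM S.y_mem hyM1).le
            (Subgroup.mem_centralizer_singleton_iff.mpr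
              (congrArg Subtype.val (Subgroup.mem_centralizer_singleton_iff.mp r.2)))⟩
          invFun := fun r => ⟨⟨r, Subgroup.le_normalizer r.2⟩, ?_⟩
          left_inv := fun r => rfl
          right_inv := fun r => rfl }
      rw [Subgroup.mem_centralizer_singleton_iff]
      exact Subtype.ext (Subgroup.mem_centralizer_singleton_iff.mp
        ((hcentv yM S.y_mem hyM1).ge r.2))
    rw [h3, hc4] at e1
    haveI := Fintype.ofFinite V
    rw [Nat.card_eq_fintype_card (α := {r : V // r ≠ 1}), Fintype.card_subtype_compl, Fintype.card_subtype_eq,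
      ← Nat.card_eq_fintype_card, hV4] at e1
    exact e1.symm
  have hcfg : H70.SCK.Config V :=
    ⟨hV4, fun q hq => by
      obtain ⟨v, hv, rfl⟩ := hVm hq
      rw [← map_pow, pow_two, show v * v = 1 from Subtype.ext (S.FF_sq hv), map_one],
    fun q hq hq1 => by
      obtain ⟨v, hv, rfl⟩ := hVm hq
      exact hcentv v hv (fun e => hq1 (by rw [e, map_one])),
    hconj, hN12⟩
  have hKc : Nat.card K = orderOf w := by
    rw [hKdef, Nat.card_congr (Subgroup.subgroupOfEquivOfLe (Subgroup.zpowers_le.mpr (hMm.mpr (Commute.refl w)))).toEquiv,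
      Nat.card_zpowers]
  rw [← Subgroup.card_mul_index K, hKc, Subgroup.index]
  rcases H70.SCK.card_eq hcfg with e | e <;> rw [e] <;> simp

end Full

end H36.HJ
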