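import Cfsg.Agent.H36.HJ.CentT
import Cfsg.Agent.H65.OrderFormula

/-!
Groups of Hall–Janko type, part 6: the normal subgroup of index four of the second involution centraliser
has order sixty.
-/

set_option autoImplicit false

namespace H36.HJ

local notation "A5" => alternatingGroup (Fin 5)

variable {G : Type*} [Group G] [Finite G]
variable {z : G} {Q : Subgroup G} {χ : Subgroup.centralizer ({z} : Set G) →* A5}
variable {u h x c : G} {X0 : Subgroup G}

/-- The involutions of a subgroup. -/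
def Inv (X0 : Subgroup G) (w : G) : Prop := w ∈ X0 ∧ w * w = 1 ∧ w ≠ 1

theorem sq_one_of_orderOf {a : G} (h : orderOf a = 2) : a * a = 1 := by
  rw [← pow_two, ← h, pow_orderOf_eq_one]

theorem ne_one_of_orderOf {a : G} (h : orderOf a = 2) : a ≠ 1 := fun e => by
  rw [e, orderOf_one] at h; omega

theorem orderOf_two {a : G} (h : a * a = 1) (h1 : a ≠ 1) : orderOf a = 2 :=
  orderOf_eq_prime (by rw [pow_two]; exact h) h1

theorem two_of_conj {a b : G} (h : IsConj a b) (ha : orderOf a = 2) : orderOf b = 2 := by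
  obtain ⟨g, rfl⟩ := isConj_iff.mp h
  exact (orderOf_injective (MulAut.conj g).toMonoidHom (MulAut.conj g).injective a).trans ha

theorem conj_commute_iff {g a b : G} : Commute (g * a * g⁻¹) (g * b * g⁻¹) ↔ Commute a b :=
  commute_map_iff (f := (MulAut.conj g).toMonoidHom) (MulAut.conj g).injective

theorem Hyp.invol_Q_cases (H : Hyp z Q χ) {a : G} (ha : a ∈ Q) (h2 : a * a = 1) (h1 : a ≠ 1) :
    a = z ∨ Hyp.Sat z Q a := by
  by_cases e : a = z
  · exact Or.inl e
  · exact Or.inr ⟨ha, h2, h1, e⟩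

theorem Hyp.invol_Q_conj (H : Hyp z Q χ) {a : G} (ha : a ∈ Q) (h2 : a * a = 1) (h1 : a ≠ 1) :
    IsConj z a := by
  rcases H.invol_Q_cases ha h2 h1 with rfl | h
  · exact IsConj.refl _
  · exact H.sat_isConj h

theorem Two.ord_y (W : Two z Q χ) (K : Ctx z Q u h x c) : orderOf (x * c) = 2 :=
  orderOf_two (K.sq W.toHyp) (K.ne_one W.toHyp)

/-- A conjugate of `z` that commutes with `z` lies in `Q`. -/
theorem Two.zconj_mem_Q (W : Two z Q χ) (K : Ctx z Q u h x c) {a : G} (ha : IsConj z a)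
    (hc : Commute a z) : a ∈ Q := by
  by_contra hQ
  obtain ⟨k, -, hk⟩ := W.toHyp.invol_conj K hc (sq_one_of_orderOf (two_of_conj ha W.toHyp.ord)) hQ
  exact W.nconj K (ha.trans (isConj_iff.mpr ⟨k, hk⟩).symm)

theorem Two.yconj_not_mem (W : Two z Q χ) (K : Ctx z Q u h x c) {b : G} (hb : IsConj (x * c) b) :
    b ∉ Q := fun hQ => by
  have hb2 := two_of_conj hb (W.ord_y K)
  exact W.nconj K ((W.toHyp.invol_Q_conj hQ (sq_one_of_orderOf hb2) (ne_one_of_orderOf hb2)).trans hb.symm)

theorem Two.card_zconj_cent (W : Two z Q χ) (K : Ctx z Q u h x c) :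
    Nat.card {a : G // IsConj z a ∧ Commute a z} = 11 := by
  classical
  haveI := Fintype.ofFinite G
  have H := W.toHyp
  have e : (Finset.univ.filter fun a : G => IsConj z a ∧ Commute a z) =
      insert z (Finset.univ.filter fun a : G => Hyp.Sat z Q a) := by
    ext a
    simp only [Finset.mem_filter, Finset.mem_insert, Finset.mem_univ, true_and]
    constructor
    · rintro ⟨ha, hc⟩
      have h2 := two_of_conj ha H.ord
      exact H.invol_Q_cases (W.zconj_mem_Q K ha hc) (sq_one_of_orderOf h2) (ne_one_of_orderOf h2)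
    · rintro (rfl | h)
      · exact ⟨IsConj.refl _, Commute.refl _⟩
      · exact ⟨H.sat_isConj h, H.comm_z h.1⟩
  rw [Nat.card_eq_fintype_card, Fintype.card_subtype, e, Finset.card_insert_of_notMem
    (fun hm => (Finset.mem_filter.mp hm).2.2.2.2 rfl), ← Fintype.card_subtype, ← Nat.card_eq_fintype_card, H.sat_main.1]

theorem Two.card_yconj_cent (W : Two z Q χ) (K : Ctx z Q u h x c) :
    Nat.card {b : G // IsConj (x * c) b ∧ Commute b z} = 120 := by
  classical
  have H := W.toHyp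
  set C := Subgroup.centralizer ({z} : Set G)
  set y' : C := ⟨x * c, mem_C.mpr (K.comm_z H)⟩
  have e1 := H65.card_conjugates_mul y'
  have hconj : Nat.card {w : C // IsConj y' w} = Nat.card {b : G // IsConj (x * c) b ∧ Commute b z} := by
    refine Nat.card_congr
      { toFun := fun w => ⟨((w : C) : G), ?_, mem_C.mp (w : C).2⟩
        invFun := fun b => ⟨⟨b.1, mem_C.mpr b.2.2⟩, ?_⟩
        left_inv := fun w => rfl
        right_inv := fun w => rfl }
    · obtain ⟨k, hk⟩ := isConj_iff.mp w.2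
      exact isConj_iff.mpr ⟨k, congrArg Subtype.val hk⟩
    · obtain ⟨k, hk, he⟩ := H.invol_conj K b.2.2
        (sq_one_of_orderOf (two_of_conj b.2.1 (W.ord_y K))) (W.yconj_not_mem K b.2.1)
      exact isConj_iff.mpr ⟨⟨k, mem_C.mpr hk⟩, Subtype.ext he⟩
  have hcent : Nat.card (Subgroup.centralizer ({y'} : Set C)) = Nat.card (TT z (x * c)) := by
    refine Nat.card_congr
      { toFun := fun w => ⟨((w : C) : G), mem_TT.mpr ⟨mem_C.mp (w : C).2,
          congrArg Subtype.val (Subgroup.mem_centralizer_singleton_iff.mp w.2)⟩⟩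
        invFun := fun w => ⟨⟨w.1, mem_C.mpr (mem_TT.mp w.2).1⟩,
          Subgroup.mem_centralizer_singleton_iff.mpr (Subtype.ext (mem_TT.mp w.2).2.eq)⟩
        left_inv := fun w => rfl
        right_inv := fun w => rfl }
  rw [hconj, hcent, K.card_TT H, H.card_C] at e1
  omega

theorem Hyp.card_AA (H : Hyp z Q χ) (P : Pair z Q u h) : 16 ≤ Nat.card (AA Q u) := by
  classical
  have h32 := H.card
  by_cases hall : ∃ q0 ∈ Q, q0 ∉ AA Q u
  · obtain ⟨q0, hq0, hq0A⟩ := hall
    let f : Q → Bool × AA Q u := fun q =>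
      if hq : (q : G) ∈ AA Q u then (true, ⟨q, hq⟩)
      else (false, ⟨q0 * q, P.not_mem_mul H hq0 q.2 hq0A hq⟩)
    have hf : Function.Injective f := by
      intro a b hab
      simp only [f] at hab
      split_ifs at hab with ha hb hb
      · simpa using hab
      · simp at hab
      · simp at hab
      · exact Subtype.ext (mul_left_cancel (congrArg (fun p => (p.2 : G)) hab))
    have := Nat.card_le_card_of_injective f hf
    rw [h32, Nat.card_prod, Nat.card_eq_fintype_card (α := Bool), Fintype.card_bool] at this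
    omega
  · push Not at hall
    have := Subgroup.card_le_of_le (show Q ≤ AA Q u from hall)
    omega

/-- A conjugate of `z` outside `C(z)` has a small stabiliser. -/
theorem Two.stab_le (W : Two z Q χ) {a : G} (ha : ¬ Commute a z) (ha2 : a * a = 1) :
    Nat.card (Subgroup.centralizer ({z} : Set G) ⊓ Subgroup.centralizer ({a} : Set G) : Subgroup G) ≤ 60 := by
  classical
  have H := W.toHyp
  set S : Subgroup G := Subgroup.centralizer ({z} : Set G) ⊓ Subgroup.centralizer ({a} : Set G)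
  have hmem : ∀ {g : G}, g ∈ S → Commute g z ∧ Commute g a := fun hg =>
    ⟨mem_C.mp hg.1, Subgroup.mem_centralizer_singleton_iff.mp hg.2⟩
  have hz : z ∉ S := fun e => ha (hmem e).2.symm
  have hinv : ∀ q, q ∈ Q → q ∈ S → q ≠ 1 → Hyp.Sat z Q q := by
    intro q hq hqS h1
    rcases H.sq_cases hq with e | e
    · exact ⟨hq, e, h1, fun e' => hz (e' ▸ hqS)⟩
    · exact absurd (e ▸ mul_mem hqS hqS) hz
  let ψ : S →* A5 := χ.comp (Subgroup.inclusion inf_le_left)
  have hker : ∀ g : S, g ∈ ψ.ker ↔ (g : G) ∈ Q := fun g => by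
    rw [MonoidHom.mem_ker]; exact H.ker (Subgroup.inclusion inf_le_left g)
  have hA5 : Nat.card A5 = 60 := by rw [Nat.card_eq_fintype_card]; decide +kernel
  have hmul := Subgroup.card_mul_index ψ.ker
  rw [Subgroup.index_ker] at hmul
  have hr60 : Nat.card ψ.range ≤ 60 := hA5 ▸ Subgroup.card_le_card_group _
  by_cases hex : ∃ v, v ∈ Q ∧ v ∈ S ∧ v ≠ 1
  · obtain ⟨v, hvQ, hvS, hv1⟩ := hex
    have hv := hinv v hvQ hvS hv1
    obtain ⟨h', P⟩ := H.exists_pair hv
    have honly : ∀ q, q ∈ Q → q ∈ S → q = 1 ∨ q = v := by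
      intro q hq hqS
      by_contra! hne
      have hq' := hinv q hq hqS hne.1
      have hp := hinv (v * q) (mul_mem hvQ hq) (mul_mem hvS hqS) (fun e => hne.2 (by
        rw [← inv_eq_of_mul_eq_one_right hv.2.1]; exact (inv_eq_of_mul_eq_one_right e).symm))
      have hne' : q ≠ v * z := fun e => hz (by
        have := mul_mem (inv_mem hvS) hqS
        rwa [e, inv_mul_cancel_left] at this)
      have hnc := H.sat_noncomm hv hq' hne.2 hne'
      have hcm : v * q = q * v := by
        calc v * q = (v * q)⁻¹ := (inv_eq_of_mul_eq_one_right hp.2.1).symm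
          _ = q * v := by
            rw [mul_inv_rev, inv_eq_of_mul_eq_one_right hv.2.1, inv_eq_of_mul_eq_one_right hq'.2.1]
      rw [hcm] at hnc
      exact H.z_ne (mul_eq_left.mp hnc.symm)
    have hSv : S ≤ TT z v := by
      intro g hg
      refine mem_TT.mpr ⟨(hmem hg).1, ?_⟩
      have h1 : g * v * g⁻¹ ∈ Q := H.conj_memQ (hmem hg).1 hvQ
      rcases honly _ h1 (mul_mem (mul_mem hg hvS) (inv_mem hg)) with e | e
      · exact absurd (conj_eq_one_iff.mp e) hv1
      · exact mul_inv_eq_iff_eq_mul.mp e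
    let φ : TT z v →* A5 := χ.comp (Subgroup.inclusion inf_le_left)
    have hφk : 16 ≤ Nat.card φ.ker := by
      refine (H.card_AA P).trans (Nat.card_le_card_of_injective
        (fun q : AA Q v => (⟨⟨(q : G), mem_TT.mpr ⟨H.comm_z (mem_AA.mp q.2).1, (mem_AA.mp q.2).2⟩⟩, ?_⟩ : φ.ker))
        fun a b hab => Subtype.ext (congrArg (fun g : φ.ker => ((g : TT z v) : G)) hab))
      exact (H.ker (Subgroup.inclusion inf_le_left _)).mpr (mem_AA.mp q.2).1
    have hmul' := Subgroup.card_mul_index φ.ker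
    rw [Subgroup.index_ker, H.card_C_inf hv] at hmul'
    have hrange : Nat.card ψ.range ≤ Nat.card φ.range := by
      refine Subgroup.card_le_of_le ?_
      rintro _ ⟨g, rfl⟩
      exact ⟨⟨g, hSv g.2⟩, rfl⟩
    have hk2 : Nat.card ψ.ker ≤ 2 := by
      haveI := Fintype.ofFinite G
      refine le_trans (Nat.card_le_card_of_injective
        (fun g : ψ.ker => (⟨((g : S) : G), honly _ ((hker _).mp g.2) (g : S).2⟩ : {w : G // w = 1 ∨ w = v}))
        fun a b hab => Subtype.ext (Subtype.ext (congrArg Subtype.val hab :))) ?_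
      rw [Nat.card_eq_fintype_card, Fintype.card_subtype]
      exact le_trans (Finset.card_le_card (fun w hw => by simpa using hw : _ ⊆ ({1, v} : Finset G)))
        (Finset.card_le_two)
    have h12 : Nat.card φ.range ≤ 12 := by nlinarith
    rw [← hmul]
    calc Nat.card ψ.ker * Nat.card ψ.range ≤ 2 * 12 := Nat.mul_le_mul hk2 (hrange.trans h12)
      _ ≤ 60 := by norm_num
  · push Not at hex
    have hk1 : ψ.ker = ⊥ := eq_bot_iff.mpr fun g hg =>
      Subgroup.mem_bot.mpr (Subtype.ext (hex _ ((hker g).mp hg) g.2))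
    rw [← hmul, hk1, Subgroup.card_bot, one_mul]
    exact hr60

/-- There are at least 43 conjugates of `z`. -/
theorem Two.card_zconj_ge (W : Two z Q χ) (K : Ctx z Q u h x c) :
    43 ≤ Nat.card {a : G // IsConj z a} := by
  classical
  haveI := Fintype.ofFinite G
  have H := W.toHyp
  set C := Subgroup.centralizer ({z} : Set G)
  obtain ⟨a, ha, hac⟩ : ∃ a, IsConj z a ∧ ¬ Commute a z := by
    by_contra! hall
    have hu := H.sat_isConj K.pair.sat
    obtain ⟨b, hb, hbn⟩ := Pair.exists_sat_avoid H {u, u * z} (by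
      exact lt_of_le_of_lt Finset.card_le_two (by norm_num))
    simp only [Finset.mem_insert, Finset.mem_singleton, not_or] at hbn
    obtain ⟨g, hg⟩ := isConj_iff.mp hu
    have hb' : IsConj z (g⁻¹ * b * g) :=
      (H.sat_isConj hb).trans (isConj_iff.mpr ⟨g⁻¹, by rw [inv_inv]⟩)
    have hcm := (conj_commute_iff (g := g)).mpr (hall _ hb')
    rw [hg, show g * (g⁻¹ * b * g) * g⁻¹ = b by group] at hcm
    have hnc := H.sat_noncomm K.pair.sat hb hbn.1 hbn.2
    rw [hcm.eq] at hnc
    exact H.z_ne (mul_eq_left.mp hnc.symm)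
  have ha2 := sq_one_of_orderOf (two_of_conj ha H.ord)
  let s : Finset C := Finset.univ
  let f : C → G := fun k => (k : G) * a * (k : G)⁻¹
  have horb : 32 ≤ (s.image f).card := by
    have hle : s.card ≤ 60 * (s.image f).card := by
      refine Finset.card_le_mul_card_image s 60 fun w hw => ?_
      obtain ⟨k0, -, rfl⟩ := Finset.mem_image.mp hw
      refine le_trans ?_ (W.stab_le hac ha2)
      rw [← Fintype.card_coe, ← Nat.card_eq_fintype_card]
      refine Nat.card_le_card_of_injective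
        (fun k => (⟨(k0 : G)⁻¹ * ((k : C) : G), ?_⟩ :
          (C ⊓ Subgroup.centralizer ({a} : Set G) : Subgroup G))) ?_
      · refine ⟨C.mul_mem (C.inv_mem k0.2) (k : C).2, Subgroup.mem_centralizer_singleton_iff.mpr ?_⟩
        have hk : ((k : C) : G) * a * ((k : C) : G)⁻¹ = (k0 : G) * a * (k0 : G)⁻¹ :=
          (Finset.mem_filter.mp k.2).2
        calc (k0 : G)⁻¹ * (k : C) * a
            = (k0 : G)⁻¹ * (((k : C) : G) * a * ((k : C) : G)⁻¹) * (k : C) := by group
          _ = a * ((k0 : G)⁻¹ * (k : C)) := by rw [hk]; group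
      · intro k k' e
        exact Subtype.ext (Subtype.ext (mul_left_cancel (congrArg Subtype.val e)))
    rw [Finset.card_univ, ← Nat.card_eq_fintype_card, H.card_C] at hle
    omega
  have h11 := W.card_zconj_cent K
  rw [Nat.card_eq_fintype_card, Fintype.card_subtype] at h11
  rw [Nat.card_eq_fintype_card, Fintype.card_subtype]
  have hdis : Disjoint (Finset.univ.filter fun a : G => IsConj z a ∧ Commute a z) (s.image f) := by
    rw [Finset.disjoint_left]
    intro w hw hw'
    obtain ⟨k, -, rfl⟩ := Finset.mem_image.mp hw'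
    have hc : Commute ((k : G) * a * (k : G)⁻¹) ((k : G) * z * (k : G)⁻¹) := by
      rw [(mem_C.mp k.2).eq, mul_inv_cancel_right]
      exact (Finset.mem_filter.mp hw).2.2
    exact hac (conj_commute_iff.mp hc)
  have hsub : (Finset.univ.filter fun a : G => IsConj z a ∧ Commute a z) ∪ s.image f ⊆
      Finset.univ.filter fun a : G => IsConj z a := by
    intro w hw
    rw [Finset.mem_filter]
    refine ⟨Finset.mem_univ _, ?_⟩
    rcases Finset.mem_union.mp hw with h' | h'
    · exact (Finset.mem_filter.mp h').2.1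
    · obtain ⟨k, -, rfl⟩ := Finset.mem_image.mp h'
      exact ha.trans (isConj_iff.mpr ⟨k, rfl⟩)
  have := Finset.card_le_card hsub
  rw [Finset.card_union_of_disjoint hdis] at this
  omega

/-! ### Elementary properties of the kernel -/

theorem Kernel.inE_mem (H : Hyp z Q χ) (K : Ctx z Q u h x c) (L : Kernel z u (x * c) X0) {g : G}
    (hg : InE z u g) : g ∈ X0 :=
  (L.inter g (K.mem_TT_of_inE H hg)).mpr hg

theorem Kernel.comm_y (L : Kernel z u (x * c) X0) {g : G} (hg : g ∈ X0) : Commute g (x * c) :=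
  Subgroup.mem_centralizer_singleton_iff.mp (L.le hg)

theorem Kernel.inE_inv (H : Hyp z Q χ) (K : Ctx z Q u h x c) (L : Kernel z u (x * c) X0) {g : G}
    (hg : InE z u g) (h1 : g ≠ 1) : Inv X0 g :=
  ⟨L.inE_mem H K hg, K.pair.inE_sq H hg, h1⟩

theorem Kernel.inv_z (H : Hyp z Q χ) (K : Ctx z Q u h x c) (L : Kernel z u (x * c) X0) : Inv X0 z :=
  L.inE_inv H K (Or.inr (Or.inl rfl)) H.z_ne

/-- `E` is self-centralising in the kernel. -/
theorem Kernel.cent (W : Two z Q χ) (K : Ctx z Q u h x c) (L : Kernel z u (x * c) X0) {g v : G}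
    (hg : g ∈ X0) (hv : InE z u v) (hv1 : v ≠ 1) (hc : Commute g v) : InE z u g := by
  have hgT : g ∈ TT v (x * c) := mem_TT.mpr ⟨hc, L.comm_y hg⟩
  rcases hv with rfl | rfl | rfl | rfl
  · exact absurd rfl hv1
  · exact (L.inter g hgT).mp hg
  · exact (L.inter g ((W.TT_u K).1 ▸ hgT)).mp hg
  · exact (L.inter g ((W.TT_u K).2 ▸ hgT)).mp hg

theorem Kernel.exists_rot (W : Two z Q χ) (K : Ctx z Q u h x c) (L : Kernel z u (x * c) X0) :
    ∃ k ∈ X0, k * z * k⁻¹ = u ∧ k * u * k⁻¹ = u * z ∧ k * (u * z) * k⁻¹ = z := by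
  have H := W.toHyp
  obtain ⟨n, hny, hnz, hnu⟩ := W.exists_cycle K
  obtain ⟨t, ht, hk⟩ := L.prod n hny
  have hfix : ∀ e, InE z u e → t⁻¹ * e * t⁻¹⁻¹ = e := fun e he => by
    rw [(K.TT_comm H (inv_mem ht) (K.mem_TT_of_inE H he)).eq, mul_inv_cancel_right]
  have e1 : t⁻¹ * n * z * (t⁻¹ * n)⁻¹ = u := by
    rw [show t⁻¹ * n * z * (t⁻¹ * n)⁻¹ = t⁻¹ * (n * z * n⁻¹) * t⁻¹⁻¹ by group, hnz,
      hfix u (Or.inr (Or.inr (Or.inl rfl)))]
  have e2 : t⁻¹ * n * u * (t⁻¹ * n)⁻¹ = u * z := by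
    rw [show t⁻¹ * n * u * (t⁻¹ * n)⁻¹ = t⁻¹ * (n * u * n⁻¹) * t⁻¹⁻¹ by group, hnu,
      hfix (u * z) (Or.inr (Or.inr (Or.inr rfl)))]
  refine ⟨_, hk, e1, e2, ?_⟩
  rw [show t⁻¹ * n * (u * z) * (t⁻¹ * n)⁻¹ = (t⁻¹ * n * u * (t⁻¹ * n)⁻¹) * (t⁻¹ * n * z * (t⁻¹ * n)⁻¹)
    by group, e1, e2, (K.pair.u_comm H).eq, mul_assoc, K.pair.uu, mul_one]

theorem Kernel.conj_E (W : Two z Q χ) (K : Ctx z Q u h x c) (L : Kernel z u (x * c) X0) {v : G}
    (hv : InE z u v) (hv1 : v ≠ 1) : ∃ k ∈ X0, k * z * k⁻¹ = v := by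
  obtain ⟨k, hk, e1, e2, e3⟩ := L.exists_rot W K
  rcases hv with rfl | rfl | rfl | rfl
  · exact absurd rfl hv1
  · exact ⟨1, one_mem _, by group⟩
  · exact ⟨k, hk, e1⟩
  · exact ⟨k * k, mul_mem hk hk, by
      rw [show k * k * z * (k * k)⁻¹ = k * (k * z * k⁻¹) * k⁻¹ by group, e1, e2]⟩

/-- Every involution of `C(xc)` has an `X0`-conjugate in `T`. -/
theorem Kernel.into_T (W : Two z Q χ) (K : Ctx z Q u h x c) (L : Kernel z u (x * c) X0) {w : G}
    (hw : Commute w (x * c)) (hw2 : w * w = 1) : ∃ k ∈ X0, k * w * k⁻¹ ∈ TT z (x * c) := by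
  classical
  haveI : Fact (Nat.Prime 2) := ⟨Nat.prime_two⟩
  have H := W.toHyp
  set X := Subgroup.centralizer ({x * c} : Set G)
  obtain ⟨S, hS⟩ : ∃ S : Sylow 2 X, (S : Subgroup X) = (TT z (x * c)).subgroupOf X := W.isSylow_TT K
  set w' : X := ⟨w, Subgroup.mem_centralizer_singleton_iff.mpr hw⟩
  have hp : IsPGroup 2 (Subgroup.zpowers w') := by
    rintro ⟨_, i, rfl⟩
    refine ⟨1, Subtype.ext ?_⟩
    show (w' ^ i) ^ 2 ^ 1 = 1
    rw [pow_one, ← zpow_natCast, ← zpow_mul, mul_comm, zpow_mul, zpow_natCast,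
      show w' ^ 2 = 1 from Subtype.ext (by show w ^ 2 = 1; rw [pow_two, hw2]), one_zpow]
  obtain ⟨S', hS'⟩ := hp.exists_le_sylow
  obtain ⟨k, hk⟩ := MulAction.exists_smul_eq X S' S
  have hkS : k * w' * k⁻¹ ∈ (S : Subgroup X) := by
    rw [← hk, Sylow.coe_subgroup_smul]
    exact ⟨_, hS' (Subgroup.mem_zpowers _), rfl⟩
  rw [hS] at hkS
  have hkT : (k : G) * w * (k : G)⁻¹ ∈ TT z (x * c) := hkS
  obtain ⟨t, ht, htk⟩ := L.prod k (Subgroup.mem_centralizer_singleton_iff.mp k.2)
  refine ⟨_, htk, ?_⟩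
  rw [show t⁻¹ * (k : G) * w * (t⁻¹ * k)⁻¹ = t⁻¹ * ((k : G) * w * (k : G)⁻¹) * t by group]
  exact mul_mem (mul_mem (inv_mem ht) hkT) ht

/-- Conjugates of `z` in `C(xc)` lie in the kernel. -/
theorem Kernel.zconj_inv (W : Two z Q χ) (K : Ctx z Q u h x c) (L : Kernel z u (x * c) X0) {a : G}
    (ha : IsConj z a) (hy : Commute a (x * c)) : Inv X0 a := by
  have h2 := two_of_conj ha W.toHyp.ord
  obtain ⟨k, hk, hkT⟩ := L.into_T W K hy (sq_one_of_orderOf h2)
  have hE := W.TT_conj_mem K hkT (ha.trans (isConj_iff.mpr ⟨k, rfl⟩))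
  refine ⟨?_, sq_one_of_orderOf h2, ne_one_of_orderOf h2⟩
  have := L.normal k⁻¹ (L.comm_y hk).inv_left _ (L.inE_mem W.toHyp K hE)
  rwa [show k⁻¹ * (k * a * k⁻¹) * k⁻¹⁻¹ = a by group] at this

theorem Kernel.inv_conj (W : Two z Q χ) (K : Ctx z Q u h x c) (L : Kernel z u (x * c) X0) {w : G}
    (hw : Inv X0 w) : ∃ k ∈ X0, k * z * k⁻¹ = w := by
  obtain ⟨k, hk, hkT⟩ := L.into_T W K (L.comm_y hw.1) hw.2.1
  have hE := (L.inter _ hkT).mp (mul_mem (mul_mem hk hw.1) (inv_mem hk))
  obtain ⟨l, hl, e⟩ := L.conj_E W K hE fun e => hw.2.2 (conj_eq_one_iff.mp e)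
  refine ⟨k⁻¹ * l, mul_mem (inv_mem hk) hl, ?_⟩
  rw [show k⁻¹ * l * z * (k⁻¹ * l)⁻¹ = k⁻¹ * (l * z * l⁻¹) * k by group, e]
  group

theorem Kernel.inv_isConj (W : Two z Q χ) (K : Ctx z Q u h x c) (L : Kernel z u (x * c) X0) {w : G}
    (hw : Inv X0 w) : IsConj z w := by
  obtain ⟨k, -, e⟩ := L.inv_conj W K hw
  exact isConj_iff.mpr ⟨k, e⟩

theorem card_inE (H : Hyp z Q χ) (P : Pair z Q u h) : Nat.card {g : G // InE z u g} = 4 := by
  classical
  haveI := Fintype.ofFinite G
  rw [Nat.card_eq_fintype_card, Fintype.card_subtype,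
    show (Finset.univ.filter fun g => InE z u g) = {1, z, u, u * z} by
      ext g
      rw [Finset.mem_filter]
      simp [InE],
    Finset.card_insert_of_notMem, Finset.card_insert_of_notMem, Finset.card_insert_of_notMem,
    Finset.card_singleton]
  · simp only [Finset.mem_singleton]; exact fun e => H.z_ne (mul_eq_left.mp e.symm)
  · simp only [Finset.mem_insert, Finset.mem_singleton, not_or]
    exact ⟨P.u_ne.symm, P.uz_ne_z.symm⟩
  · simp only [Finset.mem_insert, Finset.mem_singleton, not_or]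
    exact ⟨H.z_ne.symm, P.u_ne_one.symm, (P.uz_ne_one H).symm⟩

theorem Kernel.card_inv (W : Two z Q χ) (K : Ctx z Q u h x c) (L : Kernel z u (x * c) X0) :
    Nat.card {w : G // Inv X0 w} * 4 = Nat.card X0 := by
  classical
  have H := W.toHyp
  set z' : X0 := ⟨z, (L.inv_z H K).1⟩
  have e1 := H65.card_conjugates_mul z'
  have hconj : Nat.card {w : X0 // IsConj z' w} = Nat.card {w : G // Inv X0 w} := by
    refine Nat.card_congr
      { toFun := fun w => ⟨((w : X0) : G), (w : X0).2, ?_, ?_⟩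
        invFun := fun w => ⟨⟨w.1, w.2.1⟩, ?_⟩
        left_inv := fun w => rfl
        right_inv := fun w => rfl }
    · obtain ⟨k, hk⟩ := isConj_iff.mp w.2
      have : ((w : X0) : G) = (k : G) * z * (k : G)⁻¹ := (congrArg Subtype.val hk).symm
      rw [this, show (k : G) * z * (k : G)⁻¹ * ((k : G) * z * (k : G)⁻¹) = (k : G) * (z * z) * (k : G)⁻¹ by group,
        H.zz, mul_one, mul_inv_cancel]
    · intro e
      obtain ⟨k, hk⟩ := isConj_iff.mp w.2
      have : ((w : X0) : G) = (k : G) * z * (k : G)⁻¹ := (congrArg Subtype.val hk).symm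
      exact H.z_ne (conj_eq_one_iff.mp (this.symm.trans e))
    · obtain ⟨k, hk, he⟩ := L.inv_conj W K w.2
      exact isConj_iff.mpr ⟨⟨k, hk⟩, Subtype.ext he⟩
  have hcent : Nat.card (Subgroup.centralizer ({z'} : Set X0)) = Nat.card {g : G // InE z u g} :=
    Nat.card_congr
      { toFun := fun g => ⟨((g : X0) : G), L.cent W K (g : X0).2 (Or.inr (Or.inl rfl)) H.z_ne
          (congrArg Subtype.val (Subgroup.mem_centralizer_singleton_iff.mp g.2))⟩
        invFun := fun g => ⟨⟨g.1, L.inE_mem H K g.2⟩, Subgroup.mem_centralizer_singleton_iff.mpr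
          (Subtype.ext (K.TT_comm H (K.mem_TT_of_inE H g.2) (K.mem_TT_of_inE H (Or.inr (Or.inl rfl)))).eq)⟩
        left_inv := fun g => rfl
        right_inv := fun g => rfl }
  rwa [hconj, hcent, card_inE H K.pair] at e1

/-- An involution of `C(xc)` mapping `z` into `E` lies in `T`. -/
theorem Two.invol_mem_TT (W : Two z Q χ) (K : Ctx z Q u h x c) {r : G} (hr : Commute r (x * c))
    (h2 : r * r = 1) (hE : InE z u (r * z * r⁻¹)) : r ∈ TT z (x * c) := by
  have H := W.toHyp
  obtain ⟨e1, e2⟩ := W.TT_u K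
  have hri := inv_eq_of_mul_eq_one_right h2
  have hsq : r * (r * z * r⁻¹) * r⁻¹ = z := by
    rw [show r * (r * z * r⁻¹) * r⁻¹ = (r * r) * z * (r * r)⁻¹ by group, h2, inv_one, one_mul, mul_one]
  have hfix : ∀ v, r * v * r⁻¹ = v → r ∈ TT v (x * c) := fun v e =>
    mem_TT.mpr ⟨mul_inv_eq_iff_eq_mul.mp e, hr⟩
  rcases hE with e | e | e | e
  · exact absurd (conj_eq_one_iff.mp e) H.z_ne
  · exact hfix z e
  · rw [e] at hsq
    rw [← e2]
    refine hfix _ ?_
    rw [show r * (u * z) * r⁻¹ = (r * u * r⁻¹) * (r * z * r⁻¹) by group, hsq, e, (K.pair.u_comm H).eq]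
  · rw [← e1]
    refine hfix _ ?_
    rw [e, show r * (u * z) * r⁻¹ = (r * u * r⁻¹) * (r * z * r⁻¹) by group, e] at hsq
    calc r * u * r⁻¹ = r * u * r⁻¹ * (u * z) * (u * z) := by
          rw [mul_assoc (r * u * r⁻¹), (H.sat_mul_z K.pair.sat).2.1, mul_one]
      _ = z * (u * z) := by rw [hsq]
      _ = u := by rw [← mul_assoc, ← (K.pair.u_comm H).eq, mul_assoc, H.zz, mul_one]

theorem Kernel.card_eq (W : Two z Q χ) (K : Ctx z Q u h x c) (L : Kernel z u (x * c) X0) :
    Nat.card X0 = 60 := by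
  classical
  rcases L.dichotomy with h12 | h60
  swap
  · exact h60
  exfalso
  haveI := Fintype.ofFinite G
  have H := W.toHyp
  set y := x * c with hy
  have h3 := L.card_inv W K
  rw [h12] at h3
  have hInv : ∀ w, Inv X0 w → InE z u w := by
    intro w hw
    have hsub : (Finset.univ.filter fun g : G => InE z u g ∧ g ≠ 1) ⊆
        Finset.univ.filter fun g : G => Inv X0 g := by
      intro g hg
      simp only [Finset.mem_filter, Finset.mem_univ, true_and] at hg ⊢
      exact L.inE_inv H K hg.1 hg.2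
    have hE : (Finset.univ.filter fun g : G => InE z u g ∧ g ≠ 1) =
        (Finset.univ.filter fun g : G => InE z u g).erase 1 := by
      ext g; simp [and_comm]
    have hcE := card_inE H K.pair
    rw [Nat.card_eq_fintype_card, Fintype.card_subtype] at hcE
    rw [Nat.card_eq_fintype_card, Fintype.card_subtype] at h3
    have heq := Finset.eq_of_subset_of_card_le hsub (by
      rw [hE, Finset.card_erase_of_mem (show (1 : G) ∈ Finset.univ.filter (fun g => InE z u g) from
        Finset.mem_filter.mpr ⟨Finset.mem_univ _, Or.inl rfl⟩), hcE]; omega)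
    have : w ∈ Finset.univ.filter fun g : G => InE z u g ∧ g ≠ 1 := heq ▸ by simp [hw]
    exact (Finset.mem_filter.mp this).2.1
  have hzT : ∀ g, Commute g y → g * g = 1 → g ∈ TT z y := fun g hg hg2 =>
    W.invol_mem_TT K hg hg2 (hInv _ (L.zconj_inv W K (isConj_iff.mpr ⟨g, rfl⟩) (by
      have : Commute (g * z * g⁻¹) (g * y * g⁻¹) := conj_commute_iff.mpr (K.comm_z H).symm
      rwa [hg.eq, mul_inv_cancel_right] at this)))
  have hform := H65.order_formula z y H.ord (W.ord_y K) (W.nconj K)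
    (fun t ht => H.invol_cases K ht)
  have hpair : ∀ {a b w : G}, orderOf a = 2 → orderOf b = 2 → orderOf w = 2 →
      w ∈ Subgroup.zpowers (a * b) → Commute a w ∧ Commute b w := by
    intro a b w ha hb hw hm
    obtain ⟨i, hi⟩ := Subgroup.mem_zpowers_iff.mp hm
    have ha2 := inv_eq_of_mul_eq_one_right (sq_one_of_orderOf ha)
    have hb2 := inv_eq_of_mul_eq_one_right (sq_one_of_orderOf hb)
    have hwi : w⁻¹ = w := inv_eq_of_mul_eq_one_right (sq_one_of_orderOf hw)
    have h1 : a * w * a⁻¹ = w := by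
      rw [← hi, ← conj_zpow, show a * (a * b) * a⁻¹ = (a * a) * b * a⁻¹ by group,
        sq_one_of_orderOf ha, one_mul, show b * a⁻¹ = (a * b)⁻¹ by rw [mul_inv_rev, hb2], inv_zpow, hi, hwi]
    have h2 : b * w * b⁻¹ = w := by
      rw [← hi, ← conj_zpow, show b * (a * b) * b⁻¹ = b * a by group,
        show b * a = (a * b)⁻¹ by rw [mul_inv_rev, ha2, hb2], inv_zpow, hi, hwi]
    exact ⟨mul_inv_eq_iff_eq_mul.mp h1, mul_inv_eq_iff_eq_mul.mp h2⟩
  have hn1 : Nat.card (H65.OrderPairs z y z) ≤ 1320 := by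
    have := Nat.card_le_card_of_injective
      (fun p : H65.OrderPairs z y z => ((⟨p.1.1, p.2.1, (hpair (two_of_conj p.2.1 H.ord)
          (two_of_conj p.2.2.1 (W.ord_y K)) H.ord p.2.2.2).1⟩ : {a : G // IsConj z a ∧ Commute a z}),
        (⟨p.1.2, p.2.2.1, (hpair (two_of_conj p.2.1 H.ord)
          (two_of_conj p.2.2.1 (W.ord_y K)) H.ord p.2.2.2).2⟩ : {b : G // IsConj y b ∧ Commute b z})))
      (fun p q e => Subtype.ext (Prod.ext (congrArg (fun r => r.1.1) e) (congrArg (fun r => r.2.1) e)))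
    rw [Nat.card_prod, W.card_zconj_cent K, W.card_yconj_cent K] at this
    exact this
  have hn2 : Nat.card (H65.OrderPairs z y y) ≤ 3 := by
    have hcm : ∀ p : H65.OrderPairs z y y, InE z u p.1.1 ∧ p.1.1 ≠ 1 ∧ p.1.2 = p.1.1 * y := by
      rintro ⟨⟨a, b⟩, ha, hb, hm⟩
      have ha' := two_of_conj ha H.ord
      have hb' := two_of_conj hb (W.ord_y K)
      obtain ⟨c1, c2⟩ := hpair ha' hb' (W.ord_y K) hm
      have hia := L.zconj_inv W K ha c1
      have hcomm := K.TT_comm H (hzT a c1 hia.2.1) (hzT b c2 (sq_one_of_orderOf hb'))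
      refine ⟨hInv a hia, hia.2.2, ?_⟩
      obtain ⟨i, hi⟩ := Subgroup.mem_zpowers_iff.mp hm
      have h2 : (a * b) ^ (2 : ℤ) = 1 := by
        rw [zpow_two, mul_assoc, ← mul_assoc b a, ← hcomm.eq, mul_assoc a b b, sq_one_of_orderOf hb',
          mul_one, hia.2.1]
      show b = a * y
      rcases Int.even_or_odd i with ⟨j, rfl⟩ | ⟨j, rfl⟩
      · exact absurd (hi.symm.trans (by rw [← two_mul, zpow_mul, h2, one_zpow])) (K.ne_one H)
      · rw [← hi, zpow_add, zpow_mul, h2, one_zpow, one_mul, zpow_one, ← mul_assoc, hia.2.1, one_mul]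
    have := Nat.card_le_card_of_injective
      (fun p : H65.OrderPairs z y y => (⟨p.1.1, (hcm p).1, (hcm p).2.1⟩ : {g : G // InE z u g ∧ g ≠ 1}))
      (fun p q e => Subtype.ext (Prod.ext (congrArg Subtype.val e)
        (by rw [(hcm p).2.2, (hcm q).2.2, show p.1.1 = q.1.1 from congrArg Subtype.val e])))
    refine this.trans (le_of_eq ?_)
    have hcE := card_inE H K.pair
    rw [Nat.card_eq_fintype_card, Fintype.card_subtype] at hcE
    rw [Nat.card_eq_fintype_card, Fintype.card_subtype,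
      show (Finset.univ.filter fun g : G => InE z u g ∧ g ≠ 1) =
        (Finset.univ.filter fun g : G => InE z u g).erase 1 by ext g; simp [and_comm],
      Finset.card_erase_of_mem (show (1 : G) ∈ Finset.univ.filter (fun g => InE z u g) from
        Finset.mem_filter.mpr ⟨Finset.mem_univ _, Or.inl rfl⟩), hcE]
  have hK := W.card_zconj_ge K
  have e1 := H65.card_conjugates_mul z
  rw [H.card_C] at e1
  rw [L.card, h12, H.card_C, ← e1] at hform
  have : Nat.card (Subgroup.centralizer ({y} : Set G)) = 48 := by rw [L.card, h12]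
  nlinarith

end H36.HJ
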