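import Cfsg.Agent.H36.HJ.Basic

/-!
Groups of Hall–Janko type, part 2: two commuting conjugates `z`, `u` of the centre of the
extraspecial subgroup, with `u ∈ Q(z)` and `z ∈ Q(u)`.
-/

set_option autoImplicit false

namespace H36.HJ

local notation "A5" => alternatingGroup (Fin 5)

variable {G : Type*} [Group G] [Finite G]
variable {z : G} {Q : Subgroup G} {χ : Subgroup.centralizer ({z} : Set G) →* A5}

/-- A non-central involution of `Q` with an element exchanging it with `z`. -/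
structure Pair (z : G) (Q : Subgroup G) (u h : G) : Prop where
  sat : Hyp.Sat z Q u
  hz : h * z * h⁻¹ = u
  hu : h * u * h⁻¹ = z

theorem Hyp.sat_isConj (H : Hyp z Q χ) {u : G} (hu : Hyp.Sat z Q u) : IsConj z u := by
  obtain ⟨g, hg⟩ := H.exists_sat
  obtain ⟨c, -, hc⟩ := H.sat_main.2 _ _ hg hu
  exact (isConj_iff.mpr ⟨g, rfl⟩).trans (isConj_iff.mpr ⟨c, hc⟩)

/-- The four-group `{1, z, u, uz}` as a predicate. -/
def InE (z u g : G) : Prop := g = 1 ∨ g = z ∨ g = u ∨ g = u * z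

/-- `C_Q(u)`. -/
def AA (Q : Subgroup G) (u : G) : Subgroup G := Q ⊓ Subgroup.centralizer ({u} : Set G)

/-- The image of `C_Q(u)` under the exchanging element. -/
def BB (Q : Subgroup G) (u h : G) : Subgroup G := (AA Q u).map (MulAut.conj h).toMonoidHom

theorem mem_AA {u a : G} : a ∈ AA Q u ↔ a ∈ Q ∧ Commute a u :=
  and_congr_right fun _ => Subgroup.mem_centralizer_singleton_iff

theorem mem_BB {u h x : G} : x ∈ BB Q u h ↔ h⁻¹ * x * h ∈ AA Q u := by
  constructor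
  · rintro ⟨a, ha, rfl⟩
    simpa [mul_assoc] using ha
  · exact fun hx => ⟨_, hx, by simp [mul_assoc]⟩

/-- `c⁻¹ c^x`. -/
def dl (x c : G) : G := c⁻¹ * (x⁻¹ * c * x)

omit [Finite G] in
theorem dl_eq_one {x c : G} : dl x c = 1 ↔ Commute c x := by
  rw [dl, inv_mul_eq_one, mul_assoc, eq_inv_mul_iff_mul_eq]
  exact ⟨fun h => h.symm, fun h => h.eq.symm⟩

namespace Pair

variable {u h : G}

theorem u_comm (H : Hyp z Q χ) (P : Pair z Q u h) : Commute u z := H.comm_z P.sat.1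

theorem uu (P : Pair z Q u h) : u * u = 1 := P.sat.2.1

theorem u_ne (P : Pair z Q u h) : u ≠ z := P.sat.2.2.2

theorem u_ne_one (P : Pair z Q u h) : u ≠ 1 := P.sat.2.2.1

theorem uz_ne_one (H : Hyp z Q χ) (P : Pair z Q u h) : u * z ≠ 1 := (H.sat_mul_z P.sat).2.2.1

theorem uz_ne_z (P : Pair z Q u h) : u * z ≠ z := fun e => P.u_ne_one (mul_eq_right.mp e)

theorem uz_ne_u (H : Hyp z Q χ) : u * z ≠ u := fun e => H.z_ne (mul_eq_left.mp e)

theorem invz (P : Pair z Q u h) : h⁻¹ * z * h = u := by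
  calc h⁻¹ * z * h = h⁻¹ * (h * u * h⁻¹) * h := by rw [P.hu]
    _ = u := by group

theorem invu (P : Pair z Q u h) : h⁻¹ * u * h = z := by
  calc h⁻¹ * u * h = h⁻¹ * (h * z * h⁻¹) * h := by rw [P.hz]
    _ = z := by group

theorem huz (H : Hyp z Q χ) (P : Pair z Q u h) : h * (u * z) * h⁻¹ = u * z := by
  rw [show h * (u * z) * h⁻¹ = (h * u * h⁻¹) * (h * z * h⁻¹) by group, P.hu, P.hz,
    (P.u_comm H).eq]

theorem inE_sq (H : Hyp z Q χ) (P : Pair z Q u h) {g : G} (hg : InE z u g) : g * g = 1 := by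
  rcases hg with rfl | rfl | rfl | rfl
  exacts [one_mul 1, H.zz, P.uu, (H.sat_mul_z P.sat).2.1]

theorem inE_inv (H : Hyp z Q χ) (P : Pair z Q u h) {g : G} (hg : InE z u g) : g⁻¹ = g :=
  inv_eq_of_mul_eq_one_right (P.inE_sq H hg)

theorem inE_mul (H : Hyp z Q χ) (P : Pair z Q u h) {g k : G} (hg : InE z u g) (hk : InE z u k) :
    InE z u (g * k) := by
  have huu : ∀ w : G, u * (u * w) = w := fun w => by rw [← mul_assoc, P.uu, one_mul]
  have hzu : z * u = u * z := (P.u_comm H).eq.symm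
  have hzuw : ∀ w : G, z * (u * w) = u * (z * w) := fun w => by rw [← mul_assoc, hzu, mul_assoc]
  unfold InE at hg hk ⊢
  rcases hg with rfl | rfl | rfl | rfl <;> rcases hk with rfl | rfl | rfl | rfl <;>
    simp [H.zz, P.uu, huu, hzu, hzuw, mul_assoc]

theorem inE_mem_A (H : Hyp z Q χ) (P : Pair z Q u h) {g : G} (hg : InE z u g) : g ∈ AA Q u := by
  have hu' : u ∈ AA Q u := mem_AA.mpr ⟨P.sat.1, Commute.refl u⟩
  have hz' : z ∈ AA Q u := mem_AA.mpr ⟨H.zmem, (P.u_comm H).symm⟩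
  rcases hg with rfl | rfl | rfl | rfl
  exacts [one_mem _, hz', hu', mul_mem hu' hz']

theorem inE_conj (H : Hyp z Q χ) (P : Pair z Q u h) {g : G} (hg : InE z u g) :
    InE z u (h * g * h⁻¹) := by
  rcases hg with rfl | rfl | rfl | rfl
  · left; group
  · right; right; left; exact P.hz
  · right; left; exact P.hu
  · right; right; right; exact P.huz H

theorem inE_conj' (H : Hyp z Q χ) (P : Pair z Q u h) {g : G} (hg : InE z u g) :
    InE z u (h⁻¹ * g * h) := by
  rcases hg with rfl | rfl | rfl | rfl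
  · left; group
  · right; right; left; exact P.invz
  · right; left; exact P.invu
  · right; right; right
    calc h⁻¹ * (u * z) * h = h⁻¹ * (h * (u * z) * h⁻¹) * h := by rw [P.huz H]
      _ = u * z := by group

theorem inE_comm (P : Pair z Q u h) {g k : G} (hk : InE z u k) (hz : Commute g z) (hu : Commute g u) :
    Commute g k := by
  rcases hk with rfl | rfl | rfl | rfl
  exacts [Commute.one_right g, hz, hu, hu.mul_right hz]

theorem inE_A_invol (H : Hyp z Q χ) (P : Pair z Q u h) {a : G} (ha : a ∈ AA Q u) (h2 : a * a = 1) :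
    InE z u a := by
  obtain ⟨haQ, hau⟩ := mem_AA.mp ha
  by_contra hn
  unfold InE at hn
  push Not at hn
  obtain ⟨h1, hz', hu', huz'⟩ := hn
  have := H.sat_noncomm P.sat ⟨haQ, h2, h1, hz'⟩ hu' huz'
  rw [hau.eq] at this
  exact H.z_ne (mul_eq_left.mp this.symm)

theorem A_sq (H : Hyp z Q χ) (P : Pair z Q u h) {a : G} (ha : a ∈ AA Q u) (hn : ¬ InE z u a) :
    a * a = z :=
  (H.sq_cases (mem_AA.mp ha).1).resolve_left fun e => hn (P.inE_A_invol H ha e)

/-- Commuting elements of `C_Q(u)` outside `E` lie in one coset of `E`. -/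
theorem A_coset (H : Hyp z Q χ) (P : Pair z Q u h) {a b : G} (ha : a ∈ AA Q u) (hb : b ∈ AA Q u)
    (hna : ¬ InE z u a) (hnb : ¬ InE z u b) (hc : Commute a b) : InE z u (a⁻¹ * b) := by
  refine P.inE_A_invol H (mul_mem (inv_mem ha) hb) ?_
  rw [mul_assoc, ← mul_assoc b, hc.symm.inv_right.eq, mul_assoc a⁻¹ b b, P.A_sq H hb hnb, ← mul_assoc,
    ← mul_inv_rev, P.A_sq H ha hna, inv_mul_cancel]

theorem A_noncomm (H : Hyp z Q χ) (P : Pair z Q u h) {a b : G} (ha : a ∈ AA Q u) (hb : b ∈ AA Q u)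
    (hna : ¬ InE z u a) (hnb : ¬ InE z u b) (hn : ¬ InE z u (a⁻¹ * b)) : a * b = b * a * z :=
  (H.comm_cases (mem_AA.mp ha).1 (mem_AA.mp hb).1).resolve_left
    fun e => hn (P.A_coset H ha hb hna hnb e)

/-- `C_Q(u)` consists of four cosets of `E`. -/
theorem A_tri (H : Hyp z Q χ) (P : Pair z Q u h) {a b w : G} (ha : a ∈ AA Q u) (hb : b ∈ AA Q u)
    (hw : w ∈ AA Q u) (hna : ¬ InE z u a) (hnb : ¬ InE z u b) (hn : ¬ InE z u (a⁻¹ * b)) :
    InE z u w ∨ InE z u (a⁻¹ * w) ∨ InE z u (b⁻¹ * w) ∨ InE z u ((a * b)⁻¹ * w) := by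
  by_cases hw0 : InE z u w
  · exact Or.inl hw0
  by_cases hwa : InE z u (a⁻¹ * w)
  · exact Or.inr (Or.inl hwa)
  by_cases hwb : InE z u (b⁻¹ * w)
  · exact Or.inr (Or.inr (Or.inl hwb))
  refine Or.inr (Or.inr (Or.inr ?_))
  have hab := P.A_noncomm H ha hb hna hnb hn
  have haw := P.A_noncomm H ha hw hna hw0 hwa
  have hbw := P.A_noncomm H hb hw hnb hw0 hwb
  set r := (a * b)⁻¹ * w with hr
  have hrA : r ∈ AA Q u := mul_mem (inv_mem (mul_mem ha hb)) hw
  by_contra hr0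
  have hzc : ∀ g ∈ AA Q u, Commute g z := fun g hg => H.comm_z (mem_AA.mp hg).1
  have key : ∀ g : G, g ∈ AA Q u → g * (a * b) = a * b * g * z → g * w = w * g * z → Commute g r := by
    intro g hg e1 e2
    have e1' : g * (a * b)⁻¹ = (a * b)⁻¹ * g * z := by
      rw [mul_inv_eq_iff_eq_mul]
      calc g = (a * b)⁻¹ * (a * b * g * z) * z := by
            rw [show (a * b)⁻¹ * (a * b * g * z) * z = g * (z * z) by group, H.zz, mul_one]
        _ = (a * b)⁻¹ * (g * (a * b)) * z := by rw [e1]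
        _ = (a * b)⁻¹ * g * ((a * b) * z) := by group
        _ = (a * b)⁻¹ * g * z * (a * b) := by rw [(hzc _ (mul_mem ha hb)).eq]; group
    show g * r = r * g
    calc g * r = g * (a * b)⁻¹ * w := by rw [hr]; group
      _ = (a * b)⁻¹ * g * (z * w) := by rw [e1']; group
      _ = (a * b)⁻¹ * (g * w) * z := by rw [← (hzc w hw).eq]; group
      _ = (a * b)⁻¹ * w * g * (z * z) := by rw [e2]; group
      _ = r * g := by rw [H.zz, mul_one]
  have hca : Commute a r := by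
    refine key a ha ?_ haw
    calc a * (a * b) = a * (b * a * z) := by rw [hab]
      _ = a * b * a * z := by group
  have hcb : Commute b r := by
    refine key b hb ?_ hbw
    calc b * (a * b) = b * a * b * (z * z) := by rw [H.zz]; group
      _ = b * a * (b * z) * z := by group
      _ = b * a * z * b * z := by rw [(hzc b hb).eq]; group
      _ = a * b * b * z := by rw [← hab]
  have h1 := P.A_coset H ha hrA hna hr0 hca
  have h2 := P.A_coset H hb hrA hnb hr0 hcb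
  refine hn ?_
  have := P.inE_mul H h1 ((P.inE_inv H h2).symm ▸ h2 : InE z u (b⁻¹ * r)⁻¹)
  rwa [show a⁻¹ * r * (b⁻¹ * r)⁻¹ = a⁻¹ * b by group] at this

theorem not_mem_mul (H : Hyp z Q χ) (P : Pair z Q u h) {q q' : G} (hq : q ∈ Q) (hq' : q' ∈ Q)
    (h1 : q ∉ AA Q u) (h2 : q' ∉ AA Q u) : q * q' ∈ AA Q u := by
  have e : ∀ w, w ∈ Q → w ∉ AA Q u → w * u = u * w * z := fun w hw hn =>
    (H.comm_cases hw P.sat.1).resolve_left fun hc => hn (mem_AA.mpr ⟨hw, hc⟩)
  refine mem_AA.mpr ⟨mul_mem hq hq', ?_⟩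
  show q * q' * u = u * (q * q')
  calc q * q' * u = q * (q' * u) := by group
    _ = q * u * (q' * z) := by rw [e q' hq' h2]; group
    _ = u * q * (z * q') * z := by rw [e q hq h1]; group
    _ = u * q * q' * (z * z) := by rw [← (H.comm_z hq').eq]; group
    _ = u * (q * q') := by rw [H.zz]; group

theorem conjA (H : Hyp z Q χ) (P : Pair z Q u h) {k a : G} (hkz : Commute k z) (hku : Commute k u)
    (ha : a ∈ AA Q u) : k * a * k⁻¹ ∈ AA Q u :=
  mem_AA.mpr ⟨H.conj_memQ hkz (mem_AA.mp ha).1,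
    (hku.mul_left (mem_AA.mp ha).2).mul_left hku.inv_left⟩

theorem h_comm (P : Pair z Q u h) {k : G} (hkz : Commute k z) (hku : Commute k u) :
    Commute (h⁻¹ * k * h) z ∧ Commute (h⁻¹ * k * h) u := by
  constructor
  · show h⁻¹ * k * h * z = z * (h⁻¹ * k * h)
    calc h⁻¹ * k * h * z = h⁻¹ * (k * (h * z * h⁻¹)) * h := by group
      _ = h⁻¹ * (u * k) * h := by rw [P.hz, hku.eq]
      _ = (h⁻¹ * u * h) * (h⁻¹ * k * h) := by group
      _ = z * (h⁻¹ * k * h) := by rw [P.invu]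
  · show h⁻¹ * k * h * u = u * (h⁻¹ * k * h)
    calc h⁻¹ * k * h * u = h⁻¹ * (k * (h * u * h⁻¹)) * h := by group
      _ = h⁻¹ * (z * k) * h := by rw [P.hu, hkz.eq]
      _ = (h⁻¹ * z * h) * (h⁻¹ * k * h) := by group
      _ = u * (h⁻¹ * k * h) := by rw [P.invz]

theorem conjB (H : Hyp z Q χ) (P : Pair z Q u h) {k x : G} (hkz : Commute k z) (hku : Commute k u)
    (hx : x ∈ BB Q u h) : k * x * k⁻¹ ∈ BB Q u h := by
  rw [mem_BB] at hx ⊢
  obtain ⟨h1, h2⟩ := P.h_comm hkz hku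
  have := P.conjA H h1 h2 hx
  simpa [mul_assoc] using this

theorem B_comm (H : Hyp z Q χ) (P : Pair z Q u h) {x : G} (hx : x ∈ BB Q u h) :
    Commute x z ∧ Commute x u := by
  obtain ⟨a, ha, rfl⟩ := hx
  obtain ⟨haQ, hau⟩ := mem_AA.mp ha
  simp only [MulEquiv.coe_toMonoidHom, MulAut.conj_apply]
  constructor
  · have := hau.map (MulAut.conj h)
    simpa [P.hu] using this
  · have := (H.comm_z haQ).map (MulAut.conj h)
    simpa [P.hz] using this

theorem A_to_B {x : G} (hx : x ∈ AA Q u) : h * x * h⁻¹ ∈ BB Q u h := ⟨x, hx, rfl⟩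

theorem B_to_A (H : Hyp z Q χ) (P : Pair z Q u h) {x : G} (hx : x ∈ BB Q u h) :
    h * x * h⁻¹ ∈ AA Q u := by
  obtain ⟨a, ha, rfl⟩ := hx
  have h1 : Commute (h * h) z := by
    show h * h * z = z * (h * h)
    calc h * h * z = h * (h * z * h⁻¹) * h := by group
      _ = (h * u * h⁻¹) * (h * h) := by rw [P.hz]; group
      _ = z * (h * h) := by rw [P.hu]
  have h2 : Commute (h * h) u := by
    show h * h * u = u * (h * h)
    calc h * h * u = h * (h * u * h⁻¹) * h := by group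
      _ = (h * z * h⁻¹) * (h * h) := by rw [P.hu]; group
      _ = u * (h * h) := by rw [P.hz]
  have := P.conjA H h1 h2 ha
  simpa [mul_assoc] using this

theorem inE_mem_B (H : Hyp z Q χ) (P : Pair z Q u h) {g : G} (hg : InE z u g) : g ∈ BB Q u h :=
  mem_BB.mpr (P.inE_mem_A H (P.inE_conj' H hg))

theorem B_inter_Q (H : Hyp z Q χ) (P : Pair z Q u h) {x : G} (hx : x ∈ BB Q u h) (hQ : x ∈ Q) :
    InE z u x := by
  have hxA : x ∈ AA Q u := mem_AA.mpr ⟨hQ, (P.B_comm H hx).2⟩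
  rcases H.sq_cases hQ with e | e
  · exact P.inE_A_invol H hxA e
  · exfalso
    rcases H.sq_cases (mem_AA.mp (mem_BB.mp hx)).1 with e' | e' <;>
      rw [show h⁻¹ * x * h * (h⁻¹ * x * h) = h⁻¹ * (x * x) * h by group, e, P.invz] at e'
    · exact P.u_ne_one e'
    · exact P.u_ne e'

theorem B_sq (H : Hyp z Q χ) (P : Pair z Q u h) {x : G} (hx : x ∈ BB Q u h) (hn : ¬ InE z u x) :
    x * x = u := by
  have h' := P.A_sq H (mem_BB.mp hx) fun hh => hn (by
    have := P.inE_conj H hh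
    simpa [mul_assoc] using this)
  calc x * x = h * (h⁻¹ * x * h * (h⁻¹ * x * h)) * h⁻¹ := by group
    _ = u := by rw [h', P.hz]

theorem B_not_mem (H : Hyp z Q χ) (P : Pair z Q u h) {x : G} (hx : x ∈ BB Q u h) (hn : ¬ InE z u x) :
    x ∉ Q := fun hQ => hn (P.B_inter_Q H hx hQ)

theorem B_noncomm (H : Hyp z Q χ) (P : Pair z Q u h) {x y : G} (hx : x ∈ BB Q u h)
    (hy : y ∈ BB Q u h) (hnx : ¬ InE z u x) (hny : ¬ InE z u y) (hn : ¬ InE z u (x⁻¹ * y)) :
    x * y = y * x * u := by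
  have hcl : ∀ w, ¬ InE z u w → ¬ InE z u (h⁻¹ * w * h) := fun w hw hh => hw (by
    have := P.inE_conj H hh
    simpa [mul_assoc] using this)
  have h' := P.A_noncomm H (mem_BB.mp hx) (mem_BB.mp hy) (hcl x hnx) (hcl y hny)
    (by rw [show (h⁻¹ * x * h)⁻¹ * (h⁻¹ * y * h) = h⁻¹ * (x⁻¹ * y) * h by group]; exact hcl _ hn)
  calc x * y = h * (h⁻¹ * x * h * (h⁻¹ * y * h)) * h⁻¹ := by group
    _ = (y * x) * (h * z * h⁻¹) := by rw [h']; group
    _ = y * x * u := by rw [P.hz]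

theorem exists_sat_avoid (H : Hyp z Q χ) (s : Finset G) (hs : s.card < 10) :
    ∃ a, Hyp.Sat z Q a ∧ a ∉ s := by
  classical
  by_contra hc
  push Not at hc
  have h10 := H.sat_main.1
  have : Nat.card {a : G // Hyp.Sat z Q a} ≤ Nat.card s :=
    Nat.card_le_card_of_injective (fun a => (⟨a.1, hc a.1 a.2⟩ : s))
      fun a b e => Subtype.ext (congrArg Subtype.val e :)
  rw [h10, Nat.card_eq_fintype_card, Fintype.card_coe] at this
  omega

theorem sat_not_mem_A (H : Hyp z Q χ) (P : Pair z Q u h) {a : G} (ha : Hyp.Sat z Q a) (h1 : a ≠ u)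
    (h2 : a ≠ u * z) : a ∉ AA Q u := fun hA => by
  rcases P.inE_A_invol H hA ha.2.1 with e | e | e | e
  exacts [ha.2.2.1 e, ha.2.2.2 e, h1 e, h2 e]

theorem sat_mul_mem (H : Hyp z Q χ) (P : Pair z Q u h) {a b : G} (ha : Hyp.Sat z Q a)
    (hb : Hyp.Sat z Q b) (hA : a ∉ AA Q u) (hB : b ∉ AA Q u) (hne : b ≠ a) (hne' : b ≠ a * z) :
    a * b ∈ AA Q u ∧ ¬ InE z u (a * b) := by
  refine ⟨P.not_mem_mul H ha.1 hb.1 hA hB, fun hE => ?_⟩
  have h1 := P.inE_sq H hE
  have h2 : a * b * (a * b) = z := by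
    calc a * b * (a * b) = b * a * z * (a * b) := by rw [← H.sat_noncomm ha hb hne hne']
      _ = b * a * (z * (a * b)) := by group
      _ = b * (a * a) * b * z := by
        rw [← ((H.comm_z ha.1).mul_left (H.comm_z hb.1)).eq]; group
      _ = z := by rw [ha.2.1, mul_one, hb.2.1, one_mul]
  exact H.z_ne (h2.symm.trans h1)

theorem exists_A_outside (H : Hyp z Q χ) (P : Pair z Q u h) (d : G) :
    ∃ c ∈ AA Q u, ¬ InE z u c ∧ ¬ InE z u (d⁻¹ * c) := by
  classical
  obtain ⟨a, ha, hs⟩ := exists_sat_avoid H {u, u * z} (Finset.card_le_two.trans_lt (by norm_num))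
  simp only [Finset.mem_insert, Finset.mem_singleton, not_or] at hs
  obtain ⟨a₁, ha₁, hs₁⟩ := exists_sat_avoid H {u, u * z, a, a * z}
    (Finset.card_le_four.trans_lt (by norm_num))
  simp only [Finset.mem_insert, Finset.mem_singleton, not_or] at hs₁
  obtain ⟨a₂, ha₂, hs₂⟩ := exists_sat_avoid H {u, u * z, a, a * z, a₁, a₁ * z}
    (Finset.card_le_six.trans_lt (by norm_num))
  simp only [Finset.mem_insert, Finset.mem_singleton, not_or] at hs₂
  obtain ⟨u1, u1', a1, a1'⟩ := hs₁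
  obtain ⟨u2, u2', a2, a2', b2, b2'⟩ := hs₂
  have hA := P.sat_not_mem_A H ha hs.1 hs.2
  have hA1 := P.sat_not_mem_A H ha₁ u1 u1'
  have hA2 := P.sat_not_mem_A H ha₂ u2 u2'
  obtain ⟨hc1, hn1⟩ := P.sat_mul_mem H ha ha₁ hA hA1 a1 a1'
  obtain ⟨hc2, hn2⟩ := P.sat_mul_mem H ha ha₂ hA hA2 a2 a2'
  by_cases hd : InE z u (d⁻¹ * (a * a₁))
  · refine ⟨a * a₂, hc2, hn2, fun hd' => (P.sat_mul_mem H ha₁ ha₂ hA1 hA2 b2 b2').2 ?_⟩
    have := P.inE_mul H ((P.inE_inv H hd).symm ▸ hd : InE z u (d⁻¹ * (a * a₁))⁻¹) hd'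
    rwa [show (d⁻¹ * (a * a₁))⁻¹ * (d⁻¹ * (a * a₂)) = a₁⁻¹ * a₂ by group,
      inv_eq_of_mul_eq_one_right ha₁.2.1] at this
  · exact ⟨a * a₁, hc1, hn1, hd⟩

theorem dl_inE (H : Hyp z Q χ) (P : Pair z Q u h) {x c : G} (hx : x ∈ BB Q u h) (hc : c ∈ AA Q u) :
    InE z u (dl x c) := by
  obtain ⟨hxz, hxu⟩ := P.B_comm H hx
  obtain ⟨hcQ, hcu⟩ := mem_AA.mp hc
  have h1 : dl x c ∈ Q := mul_mem (inv_mem hcQ) (H.conj_memQ' hxz hcQ)
  have h2 : dl x c ∈ BB Q u h := by
    have := mul_mem (P.conjB H (H.comm_z hcQ).inv_left hcu.inv_left (inv_mem hx)) hx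
    simpa [dl, mul_assoc] using this
  exact P.B_inter_Q H h2 h1

theorem dl_mul (H : Hyp z Q χ) (P : Pair z Q u h) {x c c' : G} (hx : x ∈ BB Q u h)
    (hc : c ∈ AA Q u) (hc' : c' ∈ AA Q u) : dl x (c * c') = dl x c * dl x c' := by
  have hcm := P.inE_comm (P.dl_inE H hx hc) (g := c') (H.comm_z (mem_AA.mp hc').1) (mem_AA.mp hc').2
  calc dl x (c * c') = c'⁻¹ * dl x c * (x⁻¹ * c' * x) := by simp only [dl]; group
    _ = dl x c * (c'⁻¹ * (x⁻¹ * c' * x)) := by rw [hcm.inv_left.eq]; group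
    _ = dl x c * dl x c' := rfl

theorem dl_inE_arg (H : Hyp z Q χ) (P : Pair z Q u h) {x e : G} (hx : x ∈ BB Q u h) (he : InE z u e) :
    dl x e = 1 :=
  dl_eq_one.mpr (P.inE_comm he (P.B_comm H hx).1 (P.B_comm H hx).2).symm

theorem dl_coset (H : Hyp z Q χ) (P : Pair z Q u h) {x c c' : G} (hx : x ∈ BB Q u h)
    (hc : c ∈ AA Q u) (he : InE z u (c⁻¹ * c')) : dl x c' = dl x c := by
  have := P.dl_mul H hx hc (P.inE_mem_A H he)
  rwa [mul_inv_cancel_left, P.dl_inE_arg H hx he, mul_one] at this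

/-- Elements of `C_{Q(u)}(z)` outside `E` centralise exactly one further coset of `E` in `C_Q(u)`. -/
theorem exists_d (H : Hyp z Q χ) (P : Pair z Q u h) {x : G} (hx : x ∈ BB Q u h) (hn : ¬ InE z u x) :
    ∃ a d, a ∈ Q ∧ a ∉ AA Q u ∧ d ∈ AA Q u ∧ ¬ InE z u d ∧ Commute d x ∧ a⁻¹ * x * a = x * d * z ∧
      (∀ c ∈ AA Q u, ¬ InE z u c → ¬ InE z u (d⁻¹ * c) → ¬ Commute c x) := by
  classical
  obtain ⟨a, ha, hs⟩ := exists_sat_avoid H {u, u * z} (Finset.card_le_two.trans_lt (by norm_num))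
  simp only [Finset.mem_insert, Finset.mem_singleton, not_or] at hs
  have hA := P.sat_not_mem_A H ha hs.1 hs.2
  obtain ⟨hxz, hxu⟩ := P.B_comm H hx
  have hxx := P.B_sq H hx hn
  set b := x⁻¹ * a * x with hb
  have hbS : Hyp.Sat z Q b := by simpa using H.sat_conj ha hxz.inv_left
  have hau : a * u = u * a * z :=
    (H.comm_cases ha.1 P.sat.1).resolve_left fun e => hA (mem_AA.mpr ⟨ha.1, e⟩)
  have hB : b ∉ AA Q u := fun hh => hA (by
    have := P.conjA H hxz hxu hh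
    simpa [hb, mul_assoc] using this)
  have hbb : x⁻¹ * b * x = a * z := by
    calc x⁻¹ * b * x = (x * x)⁻¹ * a * (x * x) := by rw [hb]; group
      _ = u * (a * u) := by rw [hxx, inv_eq_of_mul_eq_one_right P.uu]; group
      _ = a * z := by rw [hau, ← mul_assoc, ← mul_assoc, P.uu, one_mul]
  have hxzx : x⁻¹ * z * x = z := by rw [hxz.inv_left.eq, inv_mul_cancel_right]
  have haz : a * z ≠ a := fun e => H.z_ne (mul_eq_left.mp e)
  have hne : b ≠ a := fun e => by
    have h2 := hbb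
    rw [e, ← hb, e] at h2
    exact haz h2.symm
  have hne' : b ≠ a * z := fun e => by
    have h2 := hbb
    rw [e, show x⁻¹ * (a * z) * x = (x⁻¹ * a * x) * (x⁻¹ * z * x) by group, ← hb, hxzx, e,
      mul_assoc, H.zz, mul_one] at h2
    exact haz h2.symm
  obtain ⟨hd, hdn⟩ := P.sat_mul_mem H ha hbS hA hB hne hne'
  have hab := H.sat_noncomm ha hbS hne hne'
  have hdx : Commute (a * b) x := by
    rw [← dl_eq_one, dl, inv_mul_eq_one]
    calc a * b = b * a * z := hab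
      _ = b * (a * z) := by group
      _ = (x⁻¹ * a * x) * (x⁻¹ * b * x) := by rw [hbb]
      _ = x⁻¹ * (a * b) * x := by group
  refine ⟨a, a * b, ha.1, hA, hd, hdn, hdx, ?_, fun c hc hcn hcd hcx => ?_⟩
  · calc a⁻¹ * x * a = x * (x⁻¹ * a⁻¹ * x) * a := by group
      _ = x * (b⁻¹ * a) := by rw [hb]; group
      _ = x * (b * a) := by rw [inv_eq_of_mul_eq_one_right hbS.2.1]
      _ = x * (a * b * z) := by rw [hab, mul_assoc (b * a), H.zz, mul_one]
      _ = x * (a * b) * z := by group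
  · -- the commutators of `c` with `a` and `b` agree
    have hcm : Commute (a * b) c := by
      have hcx' : x⁻¹ * c * x = c := by rw [mul_assoc, hcx.eq, inv_mul_cancel_left]
      rcases H.comm_cases ha.1 (mem_AA.mp hc).1 with e | e
      · have e' : b * c = c * b := by
          calc b * c = x⁻¹ * (a * c) * x := by
                rw [show x⁻¹ * (a * c) * x = x⁻¹ * a * x * (x⁻¹ * c * x) by group, hcx', hb]
            _ = c * b := by
                rw [e, show x⁻¹ * (c * a) * x = x⁻¹ * c * x * (x⁻¹ * a * x) by group, hcx', hb]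
        exact Commute.mul_left (a := a) (b := b) (c := c) e e'
      · have e' : b * c = c * b * z := by
          calc b * c = x⁻¹ * (a * c) * x := by
                rw [show x⁻¹ * (a * c) * x = x⁻¹ * a * x * (x⁻¹ * c * x) by group, hcx', hb]
            _ = c * b * z := by
                rw [e, show x⁻¹ * (c * a * z) * x =
                  x⁻¹ * c * x * (x⁻¹ * a * x) * (x⁻¹ * z * x) by group, hcx', hxzx, hb]
        show a * b * c = c * (a * b)
        calc a * b * c = a * (b * c) := by group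
          _ = (a * c) * b * z := by rw [e']; group
          _ = c * a * (z * b) * z := by rw [e]; group
          _ = c * a * b * (z * z) := by rw [← (H.comm_z hbS.1).eq]; group
          _ = c * (a * b) := by rw [H.zz]; group
    exact hcd (P.A_coset H hd hc hdn hcn hcm)

theorem conj_dl (H : Hyp z Q χ) (P : Pair z Q u h) {x c : G} (hx : x ∈ BB Q u h) (hc : c ∈ AA Q u) :
    dl (h * c * h⁻¹) (h * x * h⁻¹) = h * dl x c * h⁻¹ := by
  conv_rhs => rw [← P.inE_inv H (P.dl_inE H hx hc)]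
  simp only [dl]; group

theorem not_inE_conj (H : Hyp z Q χ) (P : Pair z Q u h) {g : G} (hg : ¬ InE z u g) :
    ¬ InE z u (h * g * h⁻¹) := fun hh => hg (by
  have := P.inE_conj' H hh
  simpa [mul_assoc] using this)

theorem dl_fix_x (H : Hyp z Q χ) (P : Pair z Q u h) {x c c' : G} (hx : x ∈ BB Q u h)
    (hn : ¬ InE z u x) (hc : c ∈ AA Q u) (hc' : c' ∈ AA Q u) (h1 : dl x c ≠ 1) (h2 : dl x c' ≠ 1) :
    dl x c = dl x c' := by
  obtain ⟨a, d, -, -, hd, hdn, hdx, -, -⟩ := P.exists_d H hx hn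
  have hcn : ¬ InE z u c := fun e => h1 (P.dl_inE_arg H hx e)
  have hcd : ¬ InE z u (d⁻¹ * c) := fun e => h1 ((P.dl_coset H hx hd e).trans (dl_eq_one.mpr hdx))
  rcases P.A_tri H hd hc hc' hdn hcn hcd with e | e | e | e
  · exact absurd (P.dl_inE_arg H hx e) h2
  · exact absurd ((P.dl_coset H hx hd e).trans (dl_eq_one.mpr hdx)) h2
  · exact (P.dl_coset H hx hc e).symm
  · rw [P.dl_coset H hx (mul_mem hd hc) e, P.dl_mul H hx hd hc, dl_eq_one.mpr hdx, one_mul]

theorem dl_fix_c (H : Hyp z Q χ) (P : Pair z Q u h) {x x' c : G} (hc : c ∈ AA Q u)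
    (hcn : ¬ InE z u c) (hx : x ∈ BB Q u h) (hx' : x' ∈ BB Q u h) (h1 : dl x c ≠ 1)
    (h2 : dl x' c ≠ 1) : dl x c = dl x' c := by
  have := P.dl_fix_x H (A_to_B hc) (P.not_inE_conj H hcn) (P.B_to_A H hx) (P.B_to_A H hx')
    (by rw [P.conj_dl H hx hc]; simpa using h1) (by rw [P.conj_dl H hx' hc]; simpa using h2)
  rw [P.conj_dl H hx hc, P.conj_dl H hx' hc] at this
  exact mul_left_cancel (mul_right_cancel this)

/-- The commutators between `C_Q(u)` and `C_{Q(u)}(z)`. -/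
theorem dl_cases (H : Hyp z Q χ) (P : Pair z Q u h) {x c : G} (hx : x ∈ BB Q u h) (hc : c ∈ AA Q u) :
    dl x c = 1 ∨ dl x c = u * z := by
  by_cases h1 : dl x c = 1
  · exact Or.inl h1
  refine Or.inr ?_
  have hxn : ¬ InE z u x := fun e =>
    h1 (dl_eq_one.mpr (P.inE_comm e (H.comm_z (mem_AA.mp hc).1) (mem_AA.mp hc).2))
  have hcn : ¬ InE z u c := fun e => h1 (P.dl_inE_arg H hx e)
  have hx2 := P.B_to_A H hx
  have hc2 : h * c * h⁻¹ ∈ BB Q u h := A_to_B hc
  have hx2n := P.not_inE_conj H hxn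
  have hc2n := P.not_inE_conj H hcn
  have h1' : dl (h * c * h⁻¹) (h * x * h⁻¹) ≠ 1 := by rw [P.conj_dl H hx hc]; simpa using h1
  obtain ⟨-, d, -, -, hd, hdn, hdx, -, hdu⟩ := P.exists_d H hx hxn
  obtain ⟨-, d', -, -, hd', hd'n, hd'x, -, hd'u⟩ := P.exists_d H hc2 hc2n
  obtain ⟨c'', hc'', hn1, hn2⟩ : ∃ c'' ∈ AA Q u, ¬ Commute c'' x ∧ ¬ Commute c'' (h * c * h⁻¹) := by
    by_cases hdd : InE z u (d⁻¹ * d')
    · obtain ⟨w, hw, hwn, hwd⟩ := P.exists_A_outside H d
      refine ⟨w, hw, hdu w hw hwn hwd, hd'u w hw hwn fun e => hwd ?_⟩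
      have := P.inE_mul H hdd e
      rwa [show d⁻¹ * d' * (d'⁻¹ * w) = d⁻¹ * w by group] at this
    · refine ⟨d * d', mul_mem hd hd', fun e => ?_, fun e => ?_⟩
      · rw [← dl_eq_one, P.dl_mul H hx hd hd', dl_eq_one.mpr hdx, one_mul, dl_eq_one] at e
        exact hdu d' hd' hd'n hdd e
      · rw [← dl_eq_one, P.dl_mul H hc2 hd hd', dl_eq_one.mpr hd'x, mul_one, dl_eq_one] at e
        refine hd'u d hd hdn (fun e' => hdd ?_) e
        have := P.inE_inv H e'
        rw [mul_inv_rev, inv_inv] at this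
        exact this ▸ e'
  rw [← dl_eq_one] at hn1 hn2
  have hc''n : ¬ InE z u c'' := fun e => hn1 (P.dl_inE_arg H hx e)
  have hv : dl x c = h * dl x c * h⁻¹ := by
    calc dl x c = dl x c'' := P.dl_fix_x H hx hxn hc hc'' h1 hn1
      _ = dl (h * c * h⁻¹) c'' := P.dl_fix_c H hc'' hc''n hx hc2 hn1 hn2
      _ = dl (h * c * h⁻¹) (h * x * h⁻¹) := (P.dl_fix_x H hc2 hc2n hx2 hc'' h1' hn2).symm
      _ = h * dl x c * h⁻¹ := P.conj_dl H hx hc
  rcases P.dl_inE H hx hc with e | e | e | e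
  · exact absurd e h1
  · rw [e, P.hz] at hv; exact absurd hv.symm P.u_ne
  · rw [e, P.hu] at hv; exact absurd hv P.u_ne
  · exact e

end Pair

theorem Hyp.exists_pair (H : Hyp z Q χ) {u : G} (hu : Hyp.Sat z Q u) : ∃ h, Pair z Q u h := by
  classical
  obtain ⟨g, hg⟩ := isConj_iff.mp (H.sat_isConj hu)
  -- an element of order four commuting with `u` squares to `z`
  obtain ⟨a, ha, hs⟩ := Pair.exists_sat_avoid H {u, u * z} (Finset.card_le_two.trans_lt (by norm_num))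
  simp only [Finset.mem_insert, Finset.mem_singleton, not_or] at hs
  obtain ⟨b, hb, hs'⟩ := Pair.exists_sat_avoid H {u, u * z, a, a * z}
    (Finset.card_le_four.trans_lt (by norm_num))
  simp only [Finset.mem_insert, Finset.mem_singleton, not_or] at hs'
  have hua := H.sat_noncomm hu ha hs.1 hs.2
  have hub := H.sat_noncomm hu hb hs'.1 hs'.2.1
  have hab := H.sat_noncomm ha hb hs'.2.2.1 hs'.2.2.2
  have hcu : Commute u (a * b) := by
    show u * (a * b) = a * b * u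
    calc u * (a * b) = (u * a) * b := by group
      _ = a * u * (z * b) := by rw [hua]; group
      _ = a * (u * b) * z := by rw [← (H.comm_z hb.1).eq]; group
      _ = a * (b * u * z) * z := by rw [hub]
      _ = a * b * u * (z * z) := by group
      _ = a * b * u := by rw [H.zz, mul_one]
  have hsq : a * b * (a * b) = z := by
    calc a * b * (a * b) = b * a * z * (a * b) := by rw [← hab]
      _ = b * a * (z * (a * b)) := by group
      _ = b * (a * a) * b * z := by rw [← ((H.comm_z ha.1).mul_left (H.comm_z hb.1)).eq]; group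
      _ = z := by rw [ha.2.1, mul_one, hb.2.1, one_mul]
  have hgc : Commute (g⁻¹ * (a * b) * g) z := by
    have h1 : g⁻¹ * u * g = z := by rw [← hg]; group
    show g⁻¹ * (a * b) * g * z = z * (g⁻¹ * (a * b) * g)
    calc g⁻¹ * (a * b) * g * z = g⁻¹ * (a * b * (g * z * g⁻¹)) * g := by group
      _ = g⁻¹ * (u * (a * b)) * g := by rw [hg, hcu.eq]
      _ = (g⁻¹ * u * g) * (g⁻¹ * (a * b) * g) := by group
      _ = z * (g⁻¹ * (a * b) * g) := by rw [h1]
  have hz' : g⁻¹ * z * g ∈ Q := by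
    have h4 : (g⁻¹ * (a * b) * g) * (g⁻¹ * (a * b) * g) = g⁻¹ * z * g := by
      rw [show g⁻¹ * (a * b) * g * (g⁻¹ * (a * b) * g) = g⁻¹ * (a * b * (a * b)) * g by group, hsq]
    rw [← h4]
    set w : Subgroup.centralizer ({z} : Set G) := ⟨g⁻¹ * (a * b) * g, mem_C.mpr hgc⟩
    refine (H.ker (w * w)).mp ?_
    rw [map_mul]
    refine a5_four _ ?_
    rw [← map_pow, H.ker]
    show (g⁻¹ * (a * b) * g) ^ 4 ∈ Q
    rw [show (g⁻¹ * (a * b) * g) ^ 4 = g⁻¹ * (a * b * (a * b) * (a * b * (a * b))) * g by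
        simp only [pow_succ, pow_zero, one_mul]; group,
      hsq, H.zz, mul_one, inv_mul_cancel]
    exact one_mem Q
  have hne : g⁻¹ * z * g ≠ z := fun e => hu.2.2.2 (by
    rw [← hg]
    calc g * z * g⁻¹ = g * (g⁻¹ * z * g) * g⁻¹ := by rw [e]
      _ = z := by group)
  have hsat : Hyp.Sat z Q (g⁻¹ * z * g) := ⟨hz', by
    rw [show g⁻¹ * z * g * (g⁻¹ * z * g) = g⁻¹ * (z * z) * g by group, H.zz, mul_one, inv_mul_cancel],
    fun e => H.z_ne (by
      calc z = g * (g⁻¹ * z * g) * g⁻¹ := by group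
        _ = 1 := by rw [e]; group), hne⟩
  obtain ⟨k, hkz, hk⟩ := H.sat_main.2 u _ hu hsat
  refine ⟨g * k, hu, ?_, ?_⟩
  · rw [show g * k * z * (g * k)⁻¹ = g * (k * z * k⁻¹) * g⁻¹ by group, hkz.eq, mul_inv_cancel_right, hg]
  · rw [show g * k * u * (g * k)⁻¹ = g * (k * u * k⁻¹) * g⁻¹ by group, hk]; group

end H36.HJ
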