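import Cfsg.Agent.H36.HJ.Three
import Mathlib.GroupTheory.SpecificGroups.Cyclic

/-!
Groups of Hall–Janko type, part 14: the Sylow 7-subgroups.
-/

set_option autoImplicit false

namespace H36.HJ

local notation "A5" => alternatingGroup (Fin 5)

variable {G : Type*} [Group G] [Finite G]
variable {z : G} {Q : Subgroup G} {χ : Subgroup.centralizer ({z} : Set G) →* A5}
variable {u h x c : G} {X0 : Subgroup G}

theorem card_cent_conj {a b : G} (h : IsConj a b) :
    Nat.card (Subgroup.centralizer ({a} : Set G)) = Nat.card (Subgroup.centralizer ({b} : Set G)) := by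
  have e1 := H65.card_conjugates_mul a
  have e2 := H65.card_conjugates_mul b
  have e : Nat.card {y : G // IsConj a y} = Nat.card {y : G // IsConj b y} :=
    Nat.card_congr (Equiv.subtypeEquivRight fun y => ⟨fun hy => h.symm.trans hy, fun hy => h.trans hy⟩)
  have hpos : 0 < Nat.card {y : G // IsConj a y} :=
    haveI : Nonempty {y : G // IsConj a y} := ⟨⟨a, IsConj.refl a⟩⟩
    Nat.card_pos
  rw [← e] at e2
  exact Nat.eq_of_mul_eq_mul_left hpos (e1.trans e2.symm)

theorem dvd_card_cent {a r : G} (hc : Commute r a) :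
    orderOf r ∣ Nat.card (Subgroup.centralizer ({a} : Set G)) := by
  have := orderOf_dvd_natCard (⟨r, Subgroup.mem_centralizer_singleton_iff.mpr hc.eq⟩ :
    Subgroup.centralizer ({a} : Set G))
  rwa [Subgroup.orderOf_mk] at this

/-- An element of order three of `C(z)` has centraliser in `C(z)` of order dividing 24. -/
theorem Hyp.cent_three_z (H : Hyp z Q χ) {g : G} (hg : orderOf g = 3) (hgz : Commute g z) :
    Nat.card (TT z g) ∣ 24 := by
  classical
  have hg3 : g ^ 3 = 1 := orderOf_dvd_iff_pow_eq_one.mp hg.dvd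
  let ψ : TT z g →* A5 := χ.comp (Subgroup.inclusion inf_le_left)
  have hker : ∀ r : TT z g, r ∈ ψ.ker ↔ (r : G) ∈ Q := fun r => by
    rw [MonoidHom.mem_ker]; exact H.ker (Subgroup.inclusion inf_le_left r)
  have hmul := Subgroup.card_mul_index ψ.ker
  rw [Subgroup.index_ker] at hmul
  have hr : Nat.card ψ.range ∣ 3 := by
    have hle : ψ.range ≤ Subgroup.zpowers (img χ hgz) := by
      rintro _ ⟨r, rfl⟩
      obtain ⟨hrz, hrg⟩ := mem_TT.mp r.2
      obtain ⟨j, hj⟩ := H.cent_img (Or.inl hg) hgz hrz hrg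
      have e : img χ (hgz.pow_left j) = img χ hrz := (H.img_eq_iff _ _).mpr hj
      rw [img_pow] at e
      exact ⟨j, by simp only [zpow_natCast]; exact e⟩
    refine (Subgroup.card_dvd_of_le hle).trans ?_
    rw [Nat.card_zpowers]
    exact orderOf_dvd_of_pow_eq_one (by rw [← img_pow]; exact (H.img_eq_one _).mpr (by rw [hg3]; exact one_mem Q))
  set K := (Q ⊓ Subgroup.centralizer ({g} : Set G)).subgroupOf Q with hKdef
  have hK : Nat.card ψ.ker = Nat.card K := by
    refine Nat.card_congr
      { toFun := fun r => ⟨⟨((r : TT z g) : G), (hker _).mp r.2⟩, Subgroup.mem_subgroupOf.mpr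
          ⟨(hker _).mp r.2, Subgroup.mem_centralizer_singleton_iff.mpr (mem_TT.mp (r : TT z g).2).2.eq⟩⟩
        invFun := fun q => ⟨⟨((q : Q) : G), mem_TT.mpr ⟨H.comm_z (q : Q).2,
          Subgroup.mem_centralizer_singleton_iff.mp (Subgroup.mem_subgroupOf.mp q.2).2⟩⟩,
          (hker _).mpr (q : Q).2⟩
        left_inv := fun r => rfl
        right_inv := fun q => rfl }
  have hKi := Subgroup.card_mul_index K
  rw [H.card] at hKi
  have hid : K.index ∣ 2 ^ 5 := ⟨Nat.card K, by rw [mul_comm]; exact hKi.symm⟩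
  obtain ⟨i, hi, hKic⟩ := (Nat.dvd_prime_pow Nat.prime_two).mp hid
  have hnQ : g ∉ Q := H.not_mem_odd (Or.inl hg)
  have hKmem : ∀ {q : Q}, q ∈ K ↔ Commute (q : G) g := fun {q} => by
    rw [hKdef, Subgroup.mem_subgroupOf, Subgroup.mem_inf, Subgroup.mem_centralizer_singleton_iff]
    exact ⟨fun h => h.2, fun h => ⟨q.2, h⟩⟩
  have h0 : i ≠ 0 := fun e => by
    rw [e, pow_zero, Subgroup.index_eq_one] at hKic
    exact hnQ (H.self g hgz fun q hq => (hKmem.mp (show (⟨q, hq⟩ : Q) ∈ K from hKic ▸ Subgroup.mem_top _)).symm)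
  have h1 : i ≠ 1 := by
    intro e
    rw [e, pow_one] at hKic
    obtain ⟨q, -, hqK⟩ := SetLike.exists_of_lt (lt_top_iff_ne_top.mpr (fun e' => by
      rw [e', Subgroup.index_top] at hKic; omega) : K < ⊤)
    have hgq : g * (q : G) * g⁻¹ ∈ Q := H.conj_memQ hgz q.2
    have hn : (⟨g * q * g⁻¹, hgq⟩ : Q) ∉ K := fun hm => hqK (hKmem.mpr (by
      have h2 : Commute (g * (q : G) * g⁻¹) g := hKmem.mp hm
      refine (conj_commute_iff (g := g)).mp ?_
      rw [mul_inv_cancel_right]
      exact h2))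
    have hc : (⟨g * q * g⁻¹, hgq⟩ : Q) * q⁻¹ ∈ K :=
      (Subgroup.mul_mem_iff_of_index_two hKic).mpr (iff_of_false hn fun hm => hqK (inv_mem_iff.mp hm))
    set d : G := g * q * g⁻¹ * (q : G)⁻¹ with hd
    have hdg : Commute d g := hKmem.mp hc
    have hdQ : d ∈ Q := mul_mem hgq (inv_mem q.2)
    have hdq : d * (q : G) = g * q * g⁻¹ := by rw [hd]; group
    have hstep : ∀ n : ℕ, g ^ n * (q : G) * (g ^ n)⁻¹ = d ^ n * q := by
      intro n
      induction n with
      | zero => simp
      | succ n ih =>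
        rw [pow_succ' g, show g * g ^ n * (q : G) * (g * g ^ n)⁻¹ = g * (g ^ n * q * (g ^ n)⁻¹) * g⁻¹ by group,
          ih, show g * (d ^ n * (q : G)) * g⁻¹ = (g * d ^ n * g⁻¹) * (g * q * g⁻¹) by group,
          (hdg.pow_left n).symm.eq, mul_inv_cancel_right, pow_succ, mul_assoc (d ^ n) d, hdq]
    have h3 := hstep 3
    rw [hg3, one_mul, inv_one, mul_one] at h3
    have hd3 : d ^ 3 = 1 := (mul_eq_right.mp h3.symm)
    have hd1 : d = 1 := by
      have e1 : orderOf d ∣ 3 := orderOf_dvd_of_pow_eq_one hd3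
      have e2 : orderOf d ∣ 32 := by
        have := orderOf_dvd_natCard (⟨d, hdQ⟩ : Q)
        rwa [Subgroup.orderOf_mk, H.card] at this
      exact orderOf_eq_one_iff.mp (Nat.eq_one_of_dvd_coprimes (by norm_num) e1 e2)
    exact hqK (hKmem.mpr (mul_inv_eq_iff_eq_mul.mp (mul_inv_eq_one.mp hd1)).symm)
  have h8 : Nat.card K ∣ 8 := by
    refine ⟨2 ^ (i - 2), ?_⟩
    rw [hKic, show i = 2 + (i - 2) by omega, pow_add, show (32 : ℕ) = 2 ^ 2 * 8 by norm_num] at hKi
    nlinarith
  rw [← hmul, hK, show 24 = 8 * 3 by norm_num]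
  exact Nat.mul_dvd_mul h8 hr

namespace Full

variable {S : Full z Q χ u h x c X0} {b g : G}

theorem not_comm_seven_invol (S : Full z Q χ u h x c X0) {a i : G} (ha : orderOf a = 7)
    (hi : orderOf i = 2) (hc : Commute a i) : False := by
  have h7 := ha ▸ dvd_card_cent hc
  rcases S.hyp.invol_cases S.ctx hi with e | e
  · rw [← card_cent_conj e, S.hyp.card_C] at h7
    norm_num at h7
  · rw [← card_cent_conj e, S.card_X] at h7
    norm_num at h7

theorem not_comm_seven_five (S : Full z Q χ u h x c X0) {a f : G} (ha : orderOf a = 7)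
    (hf : orderOf f = 5) (hc : Commute a f) : False := by
  classical
  haveI : Fact (Nat.Prime 5) := ⟨by norm_num⟩
  obtain ⟨P, w, s, D⟩ := S.exists_five_data
  obtain ⟨R, hR⟩ := (IsPGroup.of_card (n := 1) (by rw [Nat.card_zpowers, hf, pow_one]) :
    IsPGroup 5 (Subgroup.zpowers f)).exists_le_sylow
  obtain ⟨k, hk⟩ := MulAction.exists_smul_eq G R P
  have hkf : k * f * k⁻¹ ∈ (P : Subgroup G) := by
    rw [← hk, Sylow.coe_subgroup_smul]; exact ⟨f, hR (Subgroup.mem_zpowers f), rfl⟩
  obtain ⟨l, hl⟩ := D.classes hkf (inv_ne_one_conj fun e1 => by rw [e1, orderOf_one] at hf; omega)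
  set m := l * k
  rw [show l * (k * f * k⁻¹) * l⁻¹ = m * f * m⁻¹ by simp only [m]; group] at hl
  have hmo : orderOf (m * f * m⁻¹) = 5 :=
    (orderOf_injective (MulAut.conj m).toMonoidHom (MulAut.conj m).injective f).trans hf
  set a' := m * a * m⁻¹
  have ha' : orderOf a' = 7 :=
    (orderOf_injective (MulAut.conj m).toMonoidHom (MulAut.conj m).injective a).trans ha
  have hgen : ∀ v, m * f * m⁻¹ ∈ Subgroup.zpowers v → orderOf v = 5 → Commute a' v := by
    intro v hv hvo
    have hv' : v ∈ Subgroup.zpowers (m * f * m⁻¹) :=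
      zpowers_eq_of_mem hv (hmo.trans hvo.symm) ▸ Subgroup.mem_zpowers v
    obtain ⟨j, hj⟩ := Subgroup.mem_zpowers_iff.mp hv'
    rw [← hj]; exact (conj_commute_iff.mpr hc).zpow_right j
  rcases hl with hl | hl
  · have h7 := ha' ▸ dvd_card_cent (hgen w hl D.wo)
    rw [D.card_Cw] at h7
    norm_num at h7
  · have hN := D.cent_s_norm (by rw [ha']; decide) (hgen s hl D.so)
    have h7 := orderOf_dvd_natCard (⟨a', hN⟩ : Subgroup.normalizer ((P : Subgroup G) : Set G))
    rw [Subgroup.orderOf_mk, ha', D.card_N.1] at h7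
    norm_num at h7

/-- An element of order three commuting with an element of order seven is conjugate to `g`. -/
theorem Three.seven_three (T : Three S b g) {a r : G} (ha : orderOf a = 7) (hr : orderOf r = 3)
    (hc : Commute a r) : IsConj r g := by
  rcases T.classes hr with e | e
  · have h7 := ha ▸ dvd_card_cent hc
    rw [card_cent_conj e, S.card_cent_three T.bX T.bo] at h7
    norm_num at h7
  · exact e

theorem Three.card_Cg (T : Three S b g) (h7 : 7 ∣ Nat.card (Subgroup.centralizer ({g} : Set G))) :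
    Nat.card (Subgroup.centralizer ({g} : Set G)) = 3780 ∨
      Nat.card (Subgroup.centralizer ({g} : Set G)) = 7560 := by
  classical
  haveI : Fact (Nat.Prime 2) := ⟨Nat.prime_two⟩
  haveI : Fact (Nat.Prime 5) := ⟨by norm_num⟩
  set M := Subgroup.centralizer ({g} : Set G)
  have hMm : ∀ {m : G}, m ∈ M ↔ Commute m g := Subgroup.mem_centralizer_singleton_iff
  have h60 : 60 ∣ Nat.card M := S.card_X0 ▸ Subgroup.card_dvd_of_le
    (fun k hk => hMm.mpr (S.DD_comm_X0 T.gD hk).symm)
  obtain ⟨P3, hP3⟩ := T.exists_sylow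
  have h27 : 27 ∣ Nat.card M := S.card_P3 P3 ▸ Subgroup.card_dvd_of_le
    (fun p hp => hMm.mpr ((T.structure_P hP3).1 p hp))
  have h25 : ¬ 5 ^ 2 ∣ Nat.card M := by
    intro hd
    obtain ⟨R, hR⟩ := Sylow.exists_subgroup_card_pow_prime (G := M) 5 hd
    set R0 := R.map M.subtype
    have hR0 : Nat.card R0 = 25 := by
      rw [← Nat.card_congr (R.equivMapOfInjective _ M.subtype_injective).toEquiv, hR]; norm_num
    obtain ⟨P, hP⟩ := (IsPGroup.of_card (n := 2) (by rw [hR0]; norm_num) : IsPGroup 5 R0).exists_le_sylow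
    have heq : R0 = P := Subgroup.eq_of_le_of_card_ge hP (by rw [hR0, S.card_P5 P])
    have hg : g ∈ Subgroup.centralizer ((P : Subgroup G) : Set G) := mem_cent_set.mpr fun k hk => by
      rw [← heq] at hk
      exact (hMm.mp (Subgroup.map_subtype_le _ hk)).symm
    rw [(S.sylow_five P).1] at hg
    have := orderOf_dvd_natCard (⟨g, hg⟩ : (P : Subgroup G))
    rw [Subgroup.orderOf_mk, T.go, S.card_P5 P] at this
    norm_num at this
  have h16 : ¬ 2 ^ 4 ∣ Nat.card M := by
    intro hd
    obtain ⟨R, hR⟩ := Sylow.exists_subgroup_card_pow_prime (G := M) 2 hd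
    have hRp : IsPGroup 2 R := IsPGroup.of_card hR
    haveI : Nontrivial R := Finite.one_lt_card_iff_nontrivial.mp (by rw [hR]; norm_num)
    haveI := hRp.center_nontrivial
    have h2 : 2 ∣ Nat.card (Subgroup.center R) := by
      obtain ⟨k, hk⟩ := IsPGroup.iff_card.mp (hRp.to_subgroup (Subgroup.center R))
      have h1 : 1 < Nat.card (Subgroup.center R) := Finite.one_lt_card
      rw [hk] at h1 ⊢
      exact dvd_pow_self 2 (fun e => by rw [e, pow_zero] at h1; omega)
    obtain ⟨k, hk⟩ := exists_prime_orderOf_dvd_card' (G := Subgroup.center R) 2 h2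
    set k0 : G := (((k : R) : M) : G)
    have hk0 : orderOf k0 = 2 := by rw [Subgroup.orderOf_coe, Subgroup.orderOf_coe, Subgroup.orderOf_coe, hk]
    have hk0g : Commute g k0 := (hMm.mp ((k : R) : M).2).symm
    have hkz : IsConj z k0 := by
      rcases S.hyp.invol_cases S.ctx hk0 with e | e
      · exact e
      · exact (S.two.no_both S.ctx (Or.inl T.go) (IsConj.refl z) e T.gz hk0g).elim
    obtain ⟨t, ht⟩ := isConj_iff.mp hkz
    set g' := t⁻¹ * g * t
    have hg' : t * g' * t⁻¹ = g := by simp only [g']; group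
    have hg'o : orderOf g' = 3 := by
      rw [← T.go]; conv_rhs => rw [← hg']
      exact (orderOf_injective (MulAut.conj t).toMonoidHom (MulAut.conj t).injective g').symm
    have hg'z : Commute g' z := (conj_commute_iff (g := t)).mp (by rw [hg', ht]; exact hk0g)
    have hR0 : Nat.card ((R.map M.subtype).map (MulAut.conj t⁻¹).toMonoidHom) = 16 := by
      rw [← Nat.card_congr ((R.map M.subtype).equivMapOfInjective _ (MulAut.conj t⁻¹).injective).toEquiv,
        ← Nat.card_congr (R.equivMapOfInjective _ M.subtype_injective).toEquiv, hR]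
      norm_num
    have hle : (R.map M.subtype).map (MulAut.conj t⁻¹).toMonoidHom ≤ TT z g' := by
      rintro _ ⟨_, ⟨r, hr, rfl⟩, rfl⟩
      show t⁻¹ * (r : G) * t⁻¹⁻¹ ∈ TT z g'
      refine mem_TT.mpr ⟨?_, ?_⟩
      · refine (conj_commute_iff (g := t)).mp ?_
        rw [ht, show t * (t⁻¹ * (r : G) * t⁻¹⁻¹) * t⁻¹ = r by group]
        exact congrArg (fun q : R => ((q : M) : G)) (Subgroup.mem_center_iff.mp k.2 ⟨r, hr⟩)
      · refine (conj_commute_iff (g := t)).mp ?_
        rw [hg', show t * (t⁻¹ * (r : G) * t⁻¹⁻¹) * t⁻¹ = r by group]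
        exact hMm.mp r.2
    have h := (Subgroup.card_dvd_of_le hle).trans (S.hyp.cent_three_z hg'o hg'z)
    rw [hR0] at h
    norm_num at h
  have hG : Nat.card M ∣ 604800 := S.card_G ▸ Subgroup.card_subgroup_dvd_card M
  obtain ⟨q, hq⟩ : 3780 ∣ Nat.card M := by
    have := Nat.lcm_dvd (Nat.lcm_dvd h60 h27) h7
    norm_num at this
    exact this
  rw [hq] at hG h25 h16 ⊢
  have hq' : q ∣ 160 := by
    rw [show (604800 : ℕ) = 3780 * 160 by norm_num] at hG
    exact (Nat.mul_dvd_mul_iff_left (by norm_num : 0 < 3780)).mp hG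
  have := Nat.le_of_dvd (by norm_num) hq'
  have h4 : q ∣ 2 := by
    have hmem : q ∈ Nat.divisors 160 := Nat.mem_divisors.mpr ⟨hq', by norm_num⟩
    rw [show Nat.divisors 160 = {1, 2, 4, 5, 8, 10, 16, 20, 32, 40, 80, 160} from by decide +kernel] at hmem
    simp only [Finset.mem_insert, Finset.mem_singleton] at hmem
    rcases hmem with rfl | rfl | rfl | rfl | rfl | rfl | rfl | rfl | rfl | rfl | rfl | rfl <;>
      revert h25 h16 <;> norm_num
  rcases (Nat.dvd_prime Nat.prime_two).mp h4 with rfl | rfl <;> norm_num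

theorem sylow_seven (S : Full z Q χ u h x c X0) (D : Sylow 7 G) :
    Subgroup.centralizer ((D : Subgroup G) : Set G) = D ∧
      Nat.card (Subgroup.normalizer ((D : Subgroup G) : Set G)) = 42 ∧
        ¬ IsMulCommutative (Subgroup.normalizer ((D : Subgroup G) : Set G)) := by
  classical
  haveI : Fact (Nat.Prime 7) := ⟨by norm_num⟩
  haveI : Fact (Nat.Prime 3) := ⟨Nat.prime_three⟩
  obtain ⟨b, g, T⟩ := S.exists_three_data
  have hD : Nat.card D = 7 := by
    rw [H62.card_sylow_coe (a := 1) (m := 86400) (by rw [S.card_G]; norm_num) (by norm_num) D]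
    norm_num
  obtain ⟨⟨a, haD⟩, ha⟩ := exists_prime_orderOf_dvd_card' (G := (D : Subgroup G)) 7 (by rw [hD])
  rw [Subgroup.orderOf_mk] at ha
  set C := Subgroup.centralizer ((D : Subgroup G) : Set G)
  set N := Subgroup.normalizer ((D : Subgroup G) : Set G)
  haveI : IsCyclic (D : Subgroup G) := isCyclic_of_prime_card hD
  have hDC : (D : Subgroup G) ≤ C := fun v hv => mem_cent_set.mpr fun w hw =>
    congrArg Subtype.val (mul_comm' (⟨v, hv⟩ : (D : Subgroup G)) ⟨w, hw⟩)
  have hCa : ∀ {r : G}, r ∈ C → Commute a r := fun hr => (mem_cent_set.mp hr a haD).symm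
  have hel : ∀ p, p.Prime → p ∣ Nat.card C → ∃ r ∈ C, orderOf r = p := fun p hp hd => by
    haveI := Fact.mk hp
    obtain ⟨r, hr⟩ := exists_prime_orderOf_dvd_card' (G := C) p hd
    exact ⟨r, r.2, (Subgroup.orderOf_coe r).trans hr⟩
  have h2 : ¬ 2 ∣ Nat.card C := fun hd => by
    obtain ⟨r, hr, ho⟩ := hel 2 Nat.prime_two hd
    exact S.not_comm_seven_invol ha ho (hCa hr)
  have h5 : ¬ 5 ∣ Nat.card C := fun hd => by
    obtain ⟨r, hr, ho⟩ := hel 5 (by norm_num) hd
    exact S.not_comm_seven_five ha ho (hCa hr)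
  have h9 : ¬ 9 ∣ Nat.card C := fun hd => by
    obtain ⟨R, hR⟩ := Sylow.exists_subgroup_card_pow_prime (G := C) 3 (n := 2) (by norm_num; exact hd)
    set R0 := R.map C.subtype
    have hR0 : Nat.card R0 = 9 := by
      rw [← Nat.card_congr (R.equivMapOfInjective _ C.subtype_injective).toEquiv, hR]; norm_num
    obtain ⟨P0, hP0⟩ := T.exists_sylow
    obtain ⟨P, hP⟩ := (IsPGroup.of_card (n := 2) (by rw [hR0]; norm_num) : IsPGroup 3 R0).exists_le_sylow
    obtain ⟨k, hk⟩ := MulAction.exists_smul_eq G P P0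
    set R1 := R0.map (MulAut.conj k).toMonoidHom
    have hR1 : Nat.card R1 = 9 := by
      rw [← Nat.card_congr (R0.equivMapOfInjective _ (MulAut.conj k).injective).toEquiv, hR0]
    obtain ⟨r, hr, hrg⟩ : ∃ r ∈ R1, r ∉ Subgroup.zpowers g := by
      by_contra! hall
      have := Subgroup.card_le_of_le (show R1 ≤ Subgroup.zpowers g from hall)
      rw [hR1, Nat.card_zpowers, T.go] at this
      omega
    obtain ⟨r0, hr0, rfl⟩ := hr
    have hrP : k * r0 * k⁻¹ ∈ (P0 : Subgroup G) := by
      rw [← hk, Sylow.coe_subgroup_smul]; exact ⟨r0, hP hr0, rfl⟩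
    have hb := (T.card_N hP0).2 _ hrP hrg
    have hb0 : IsConj b r0 := hb.trans (isConj_iff.mpr ⟨k⁻¹, by
      show k⁻¹ * (k * r0 * k⁻¹) * k⁻¹⁻¹ = r0
      group⟩)
    have ho : orderOf r0 = 3 := by
      obtain ⟨l, hl⟩ := isConj_iff.mp hb0
      rw [← hl]
      exact (orderOf_injective (MulAut.conj l).toMonoidHom (MulAut.conj l).injective b).trans T.bo
    exact T.not_conj (hb0.trans (T.seven_three ha ho (hCa (Subgroup.map_subtype_le _ hr0))))
      (Subgroup.mem_zpowers g)
  have hC : Nat.card C = 7 ∨ Nat.card C = 21 := by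
    obtain ⟨q, hq⟩ : 7 ∣ Nat.card C := hD ▸ Subgroup.card_dvd_of_le hDC
    have hG : Nat.card C ∣ 604800 := S.card_G ▸ Subgroup.card_subgroup_dvd_card C
    rw [hq] at hG h2 h5 h9 ⊢
    have hq' : q ∣ 86400 := by
      rw [show (604800 : ℕ) = 7 * 86400 by norm_num] at hG
      exact (Nat.mul_dvd_mul_iff_left (by norm_num : 0 < 7)).mp hG
    have c2 : Nat.Coprime q 2 := ((Nat.Prime.coprime_iff_not_dvd Nat.prime_two).mpr
      fun e => h2 (e.mul_left 7)).symm
    have c5 : Nat.Coprime q 5 := ((Nat.Prime.coprime_iff_not_dvd (by norm_num : Nat.Prime 5)).mpr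
      fun e => h5 (e.mul_left 7)).symm
    have h27 : q ∣ 27 := by
      have e := hq'
      rw [show (86400 : ℕ) = 27 * (2 ^ 7 * 5 ^ 2) by norm_num] at e
      exact ((c2.pow_right 7).mul_right (c5.pow_right 2)).dvd_of_dvd_mul_right e
    have hmem : q ∈ Nat.divisors 27 := Nat.mem_divisors.mpr ⟨h27, by norm_num⟩
    rw [show Nat.divisors 27 = {1, 3, 9, 27} from by decide +kernel] at hmem
    simp only [Finset.mem_insert, Finset.mem_singleton] at hmem
    rcases hmem with rfl | rfl | rfl | rfl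
    · left; norm_num
    · right; norm_num
    · exact absurd (by norm_num) h9
    · exact absurd (by norm_num) h9
  -- `N / C` embeds in the automorphism group of `D`
  set φ := (D : Subgroup G).normalizerMonoidHom
  have hCN : C ≤ N := by
    intro r hr
    refine mem_normalizer_of_maps fun v hv => ?_
    rw [(mem_cent_set.mp hr v hv).eq, mul_inv_cancel_right]; exact hv
  have hker : Nat.card φ.ker = Nat.card C := by
    rw [Subgroup.normalizerMonoidHom_ker]
    exact Nat.card_congr (Subgroup.subgroupOfEquivOfLe hCN).toEquiv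
  have hran : Nat.card φ.range ∣ 6 := by
    have := Subgroup.card_subgroup_dvd_card φ.range
    rwa [IsCyclic.card_mulAut, hD, show Nat.totient 7 = 6 by decide +kernel] at this
  have hN : Nat.card N = Nat.card C * Nat.card φ.range := by
    rw [← hker, ← Subgroup.index_ker, Subgroup.card_mul_index]
  have hidx : Nat.card (Sylow 7 G) = N.index := D.card_eq_index_normalizer
  have hmod : Nat.card (Sylow 7 G) % 7 = 1 := H62.card_sylow_mod
  have hmul := Subgroup.card_mul_index N
  rw [S.card_G, ← hidx, hN] at hmul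
  have hcases : (Nat.card C = 7 ∧ Nat.card N = 42) ∨ (Nat.card C = 21 ∧ Nat.card N = 42) := by
    have hr6 := Nat.le_of_dvd (by norm_num) hran
    rcases hC with e | e <;> rw [e] at hN hmul <;> interval_cases hr : Nat.card φ.range <;> omega
  have hC7 : Nat.card C = 7 := by
    rcases hcases with e | ⟨e, eN⟩
    · exact e.1
    exfalso
    obtain ⟨r, hr, ho⟩ := hel 3 Nat.prime_three (by rw [e]; norm_num)
    have hrg := T.seven_three ha ho (hCa hr)
    set M := Subgroup.centralizer ({r} : Set G)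
    have hCM : C ≤ M := by
      intro v hv
      let f : ↥(D : Subgroup G) × Subgroup.zpowers r → C := fun p =>
        ⟨(p.1 : G) * p.2, mul_mem (hDC p.1.2) (Subgroup.zpowers_le.mpr hr p.2.2)⟩
      have hf : Function.Injective f := by
        rintro ⟨s, k⟩ ⟨s', k'⟩ e'
        have e'' : (s : G) * k = s' * k' := congrArg Subtype.val e'
        have hm : (s' : G)⁻¹ * s = k' * (k : G)⁻¹ := by
          calc (s' : G)⁻¹ * s = (s' : G)⁻¹ * ((s : G) * k) * (k : G)⁻¹ := by group
            _ = k' * (k : G)⁻¹ := by rw [e'']; group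
        have h1 : (s' : G)⁻¹ * s = 1 := by
          have d1 : orderOf ((s' : G)⁻¹ * s) ∣ 7 := by
            have := orderOf_dvd_natCard (s'⁻¹ * s)
            rw [hD, ← Subgroup.orderOf_coe] at this
            exact this
          have d2 : orderOf ((s' : G)⁻¹ * s) ∣ 3 := by
            rw [hm, ← ho]
            exact orderOf_dvd_of_mem_zpowers (mul_mem k'.2 (inv_mem k.2))
          exact orderOf_eq_one_iff.mp (Nat.eq_one_of_dvd_coprimes (by norm_num) d1 d2)
        obtain rfl : s' = s := Subtype.ext (inv_mul_eq_one.mp h1)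
        rw [Subtype.ext (mul_left_cancel e'')]
      obtain ⟨⟨s, k⟩, hsk⟩ := (hf.bijective_of_nat_card_le (by
        rw [Nat.card_prod, hD, Nat.card_zpowers, ho, e])).2 ⟨v, hv⟩
      obtain ⟨j, hj⟩ := Subgroup.mem_zpowers_iff.mp k.2
      refine Subgroup.mem_centralizer_singleton_iff.mpr ?_
      rw [show v = (s : G) * k from (congrArg Subtype.val hsk).symm, ← hj]
      exact (((mem_cent_set.mp hr s s.2).symm).mul_left ((Commute.refl r).zpow_left j)).eq
    have hDM : (D : Subgroup G) ≤ M := hDC.trans hCM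
    have h7 : 7 ∣ Nat.card M := hD ▸ Subgroup.card_dvd_of_le hDM
    have hcardM := card_cent_conj hrg
    have hM := T.card_Cg (by rw [← hcardM]; exact h7)
    rw [← hcardM] at hM
    set R : Sylow 7 M := D.subtype hDM
    have hn : Nat.card (Subgroup.normalizer ((R : Subgroup M) : Set M)) ∣ 42 ∧
        21 ∣ Nat.card (Subgroup.normalizer ((R : Subgroup M) : Set M)) := by
      set NM := Subgroup.normalizer ((R : Subgroup M) : Set M)
      constructor
      · have hsub : NM.map M.subtype ≤ N := by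
          rintro _ ⟨m, hm, rfl⟩
          refine mem_normalizer_of_maps fun v hv => ?_
          exact Subgroup.mem_subgroupOf.mp
            ((Subgroup.mem_normalizer_iff.mp hm ⟨v, hDM hv⟩).mp (Subgroup.mem_subgroupOf.mpr hv))
        rw [← eN, Nat.card_congr (NM.equivMapOfInjective _ M.subtype_injective).toEquiv]
        exact Subgroup.card_dvd_of_le hsub
      · have hsub : C.subgroupOf M ≤ NM := by
          intro p hp
          refine mem_normalizer_of_maps fun v hv => ?_
          have hc : Commute (p : G) (v : G) :=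
            mem_cent_set.mp (Subgroup.mem_subgroupOf.mp hp) _ (Subgroup.mem_subgroupOf.mp hv)
          have : p * v * p⁻¹ = v := Subtype.ext (by simp [hc.eq])
          rw [this]; exact hv
        rw [← e, ← Nat.card_congr (Subgroup.subgroupOfEquivOfLe hCM).toEquiv]
        exact Subgroup.card_dvd_of_le hsub
    have hmulM := Subgroup.card_mul_index (Subgroup.normalizer ((R : Subgroup M) : Set M))
    rw [← (show Nat.card (Sylow 7 M) = (Subgroup.normalizer ((R : Subgroup M) : Set M)).index from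
      R.card_eq_index_normalizer)] at hmulM
    have hmodM : Nat.card (Sylow 7 M) % 7 = 1 := H62.card_sylow_mod
    obtain ⟨⟨q, hq⟩, ⟨q', hq'⟩⟩ := hn
    rw [hq'] at hq hmulM
    have : q' ≤ 2 := by
      rcases Nat.eq_zero_or_pos q with rfl | hq0
      · omega
      · nlinarith
    have : Nat.card M = 3780 ∨ Nat.card M = 7560 := hM
    interval_cases q' <;> omega
  refine ⟨(Subgroup.eq_of_le_of_card_ge hDC (by rw [hC7, hD])).symm, ?_, fun hcomm => ?_⟩
  · rcases hcases with e | e <;> exact e.2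
  · have hle : N ≤ C := fun n hn => mem_cent_set.mpr fun v hv =>
      congrArg Subtype.val (hcomm.is_comm.comm ⟨n, hn⟩ ⟨v, Subgroup.le_normalizer hv⟩)
    have := Subgroup.card_le_of_le hle
    rcases hcases with e | e <;> omega

end Full

end H36.HJ
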