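import Cfsg.Agent.H36.HJ.Order
import Cfsg.Agent.H59.A5Char

/-!
Groups of Hall–Janko type, part 7: the structure of `C(xc)` and of the normaliser of its 2-core.
-/

set_option autoImplicit false

namespace H36.HJ

local notation "A5" => alternatingGroup (Fin 5)

variable {G : Type*} [Group G] [Finite G]
variable {z : G} {Q : Subgroup G} {χ : Subgroup.centralizer ({z} : Set G) →* A5}
variable {u h x c : G} {X0 : Subgroup G}

theorem exists_abelian_normal {H : Type*} [Group H] [Nontrivial H] (hs : Group.IsSolvable H) :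
    ∃ A : Subgroup H, A.Normal ∧ A ≠ ⊥ ∧ ∀ a ∈ A, ∀ b ∈ A, a * b = b * a := by
  classical
  have hex : ∃ n, derivedSeries H n = ⊥ := (isSolvable_def H).mp hs
  have h0 : Nat.find hex ≠ 0 := fun e => by
    have h' := Nat.find_spec hex
    rw [e, derivedSeries_zero] at h'
    exact top_ne_bot h'
  obtain ⟨m, hm⟩ := Nat.exists_eq_succ_of_ne_zero h0
  refine ⟨derivedSeries H m, derivedSeries_normal H m, Nat.find_min hex (by omega), ?_⟩
  intro a ha b hb
  have hbot : derivedSeries H (m + 1) = ⊥ := by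
    have := Nat.find_spec hex
    rwa [hm] at this
  rw [derivedSeries_succ, Subgroup.commutator_eq_bot_iff_le_centralizer] at hbot
  exact (Subgroup.mem_centralizer_iff.mp (hbot hb) a ha)

theorem inv_ne_one_conj {g w : G} (hw : w ≠ 1) : g * w * g⁻¹ ≠ 1 := fun e => hw (conj_eq_one_iff.mp e)

theorem Inv.conj {g w : G} (hw : Inv X0 w) (hg : g * w * g⁻¹ ∈ X0) : Inv X0 (g * w * g⁻¹) :=
  ⟨hg, by rw [show g * w * g⁻¹ * (g * w * g⁻¹) = g * (w * w) * g⁻¹ by group, hw.2.1, mul_one,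
    mul_inv_cancel], inv_ne_one_conj hw.2.2⟩

/-- All the data around the second involution `xc`. -/
structure Full (z : G) (Q : Subgroup G) (χ : Subgroup.centralizer ({z} : Set G) →* A5)
    (u h x c : G) (X0 : Subgroup G) : Prop where
  two : Two z Q χ
  ctx : Ctx z Q u h x c
  kernel : Kernel z u (x * c) X0

theorem Two.exists_full (W : Two z Q χ) : ∃ u h x c X0, Full z Q χ u h x c X0 := by
  obtain ⟨u, h, x, c, K⟩ := W.toHyp.exists_ctx
  obtain ⟨X0, L⟩ := W.exists_kernel K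
  exact ⟨u, h, x, c, X0, W, K, L⟩

namespace Full

theorem hyp (S : Full z Q χ u h x c X0) : Hyp z Q χ := S.two.toHyp

theorem card_X0 (S : Full z Q χ u h x c X0) : Nat.card X0 = 60 := S.kernel.card_eq S.two S.ctx

theorem card_X (S : Full z Q χ u h x c X0) :
    Nat.card (Subgroup.centralizer ({x * c} : Set G)) = 240 := by
  rw [S.kernel.card, S.card_X0]

theorem card_Inv (S : Full z Q χ u h x c X0) : Nat.card {w : G // Inv X0 w} = 15 := by
  have := S.kernel.card_inv S.two S.ctx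
  rw [S.card_X0] at this
  omega

theorem inE_z : InE z u z := Or.inr (Or.inl rfl)

theorem cent (S : Full z Q χ u h x c X0) {g v : G} (hg : g ∈ X0) (hv : InE z u v) (hv1 : v ≠ 1)
    (hc : Commute g v) : InE z u g := S.kernel.cent S.two S.ctx hg hv hv1 hc

theorem inE_mem (S : Full z Q χ u h x c X0) {g : G} (hg : InE z u g) : g ∈ X0 :=
  S.kernel.inE_mem S.hyp S.ctx hg

theorem inE_commute (S : Full z Q χ u h x c X0) {e f : G} (he : InE z u e) (hf : InE z u f) :
    Commute e f :=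
  S.ctx.TT_comm S.hyp (S.ctx.mem_TT_of_inE S.hyp he) (S.ctx.mem_TT_of_inE S.hyp hf)

/-- Commuting is transitive on the involutions of `X0`. -/
theorem trans (S : Full z Q χ u h x c X0) {a b d : G} (ha : Inv X0 a) (hb : Inv X0 b) (hd : Inv X0 d)
    (hab : Commute a b) (hbd : Commute b d) : Commute a d := by
  obtain ⟨k, hk, rfl⟩ := S.kernel.inv_conj S.two S.ctx hb
  have aux : ∀ {w : G}, Inv X0 w → Commute w (k * z * k⁻¹) → InE z u (k⁻¹ * w * k) := fun {w} hw hc => by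
    refine S.cent (mul_mem (mul_mem (inv_mem hk) hw.1) hk) inE_z S.hyp.z_ne ?_
    refine (conj_commute_iff (g := k)).mp ?_
    rwa [show k * (k⁻¹ * w * k) * k⁻¹ = w by group]
  have h1 := (conj_commute_iff (g := k)).mpr (S.inE_commute (aux ha hab) (aux hd hbd.symm))
  rwa [show k * (k⁻¹ * a * k) * k⁻¹ = a by group, show k * (k⁻¹ * d * k) * k⁻¹ = d by group] at h1

theorem inE_of_commute (S : Full z Q χ u h x c X0) {w e : G} (hw : Inv X0 w) (he : InE z u e)
    (he1 : e ≠ 1) (hc : Commute w e) : InE z u w := S.cent hw.1 he he1 hc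

theorem inv_conj_inE (S : Full z Q χ u h x c X0) {e w : G} (he : InE z u e) (hw : Inv X0 w) :
    Inv X0 (e * w * e⁻¹) :=
  hw.conj (mul_mem (mul_mem (S.inE_mem he) hw.1) (inv_mem (S.inE_mem he)))

/-- `E` acts freely on the other classes of commuting involutions. -/
theorem free (S : Full z Q χ u h x c X0) {e w : G} (he : InE z u e) (hw : Inv X0 w)
    (hn : ¬ InE z u w) (hc : Commute (e * w * e⁻¹) w) : e = 1 := by
  by_contra he1
  obtain ⟨k, hk, rfl⟩ := S.kernel.inv_conj S.two S.ctx hw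
  set r := k⁻¹ * e * k with hr
  have hrX : r ∈ X0 := mul_mem (mul_mem (inv_mem hk) (S.inE_mem he)) hk
  have hr2 : r * r = 1 := by
    rw [hr, show k⁻¹ * e * k * (k⁻¹ * e * k) = k⁻¹ * (e * e) * k by group, S.ctx.pair.inE_sq S.hyp he]
    group
  have hrz : InE z u (r * z * r⁻¹) := by
    refine S.cent (mul_mem (mul_mem hrX (S.inE_mem inE_z)) (inv_mem hrX)) inE_z S.hyp.z_ne ?_
    refine (conj_commute_iff (g := k)).mp ?_
    rwa [hr, show k * (k⁻¹ * e * k * z * (k⁻¹ * e * k)⁻¹) * k⁻¹ = e * (k * z * k⁻¹) * e⁻¹ by group]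
  have hrE : InE z u r :=
    (S.kernel.inter r (S.two.invol_mem_TT S.ctx (S.kernel.comm_y hrX) hr2 hrz)).mp hrX
  have h1 := (conj_commute_iff (g := k)).mpr (S.inE_commute inE_z hrE)
  rw [hr, show k * (k⁻¹ * e * k) * k⁻¹ = e by group] at h1
  exact hn (S.inE_of_commute hw he he1 h1)

theorem exists_w0 (S : Full z Q χ u h x c X0) :
    ∃ g0 ∈ X0, ¬ InE z u (g0 * z * g0⁻¹) := by
  classical
  by_contra! hall
  haveI := Fintype.ofFinite G
  have h15 := S.card_Inv
  have h4 := card_inE S.hyp S.ctx.pair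
  have hle := Nat.card_le_card_of_injective
    (fun w : {w : G // Inv X0 w} => (⟨w.1, by
      obtain ⟨k, hk, e⟩ := S.kernel.inv_conj S.two S.ctx w.2
      exact e ▸ hall k hk⟩ : {g : G // InE z u g}))
    fun a b e => Subtype.ext (congrArg Subtype.val e :)
  omega

/-- The four classes other than `E` are the `E`-translates of one of them. -/
theorem cover (S : Full z Q χ u h x c X0) {g0 : G} (hg0 : g0 ∈ X0)
    (hn0 : ¬ InE z u (g0 * z * g0⁻¹)) {w : G} (hw : Inv X0 w) (hwn : ¬ InE z u w) :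
    ∃ e, InE z u e ∧ Commute (e * (g0 * z * g0⁻¹) * e⁻¹) w := by
  classical
  haveI := Fintype.ofFinite G
  have H := S.hyp
  have hv : ∀ {v : G}, InE z u v → v ≠ 1 → Inv X0 (g0 * v * g0⁻¹) ∧ ¬ InE z u (g0 * v * g0⁻¹) := by
    intro v hv hv1
    have hI : Inv X0 v := S.kernel.inE_inv H S.ctx hv hv1
    have hI' := hI.conj (mul_mem (mul_mem hg0 hI.1) (inv_mem hg0))
    refine ⟨hI', fun hE => hn0 ?_⟩
    have hI0 : Inv X0 (g0 * z * g0⁻¹) :=
      (S.kernel.inv_z H S.ctx).conj (mul_mem (mul_mem hg0 (S.inE_mem inE_z)) (inv_mem hg0))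
    exact S.inE_of_commute hI0 hE hI'.2.2 (conj_commute_iff.mpr (S.inE_commute inE_z hv))
  let f : {e : G // InE z u e} × {v : G // InE z u v ∧ v ≠ 1} → {w : G // Inv X0 w ∧ ¬ InE z u w} :=
    fun p => ⟨p.1.1 * (g0 * p.2.1 * g0⁻¹) * p.1.1⁻¹, S.inv_conj_inE p.1.2 (hv p.2.2.1 p.2.2.2).1,
      fun hE => (hv p.2.2.1 p.2.2.2).2 (by
        have hc := S.inE_commute hE p.1.2
        rwa [hc.eq.symm.trans (by group : (p.1.1 : G) * (g0 * p.2.1 * g0⁻¹) * p.1.1⁻¹ * p.1.1 =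
          p.1.1 * (g0 * p.2.1 * g0⁻¹)) |> mul_left_cancel |>.symm])⟩
  have hinj : Function.Injective f := by
    rintro ⟨⟨e1, he1⟩, ⟨v1, hv1⟩⟩ ⟨⟨e2, he2⟩, ⟨v2, hv2⟩⟩ heq
    have e' : e1 * (g0 * v1 * g0⁻¹) * e1⁻¹ = e2 * (g0 * v2 * g0⁻¹) * e2⁻¹ := congrArg Subtype.val heq
    have hI := hv hv1.1 hv1.2
    have he : e2⁻¹ * e1 = 1 := by
      refine S.free ?_ hI.1 hI.2 ?_
      · rw [S.ctx.pair.inE_inv H he2]
        exact S.ctx.pair.inE_mul H he2 he1
      · rw [show e2⁻¹ * e1 * (g0 * v1 * g0⁻¹) * (e2⁻¹ * e1)⁻¹ =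
          e2⁻¹ * (e1 * (g0 * v1 * g0⁻¹) * e1⁻¹) * e2 by group, e',
          show e2⁻¹ * (e2 * (g0 * v2 * g0⁻¹) * e2⁻¹) * e2 = g0 * v2 * g0⁻¹ by group]
        exact conj_commute_iff.mpr (S.inE_commute hv2.1 hv1.1)
    obtain rfl : e2 = e1 := inv_mul_eq_one.mp he
    have : v1 = v2 := by simpa using e'
    subst this
    rfl
  have hcard : Nat.card {w : G // Inv X0 w ∧ ¬ InE z u w} ≤
      Nat.card ({e : G // InE z u e} × {v : G // InE z u v ∧ v ≠ 1}) := by
    have h15 := S.card_Inv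
    have h4 := card_inE H S.ctx.pair
    have h3 : Nat.card {v : G // InE z u v ∧ v ≠ 1} = 3 := by
      rw [Nat.card_eq_fintype_card, Fintype.card_subtype] at h4 ⊢
      rw [show (Finset.univ.filter fun g : G => InE z u g ∧ g ≠ 1) =
          (Finset.univ.filter fun g : G => InE z u g).erase 1 by ext g; simp [and_comm],
        Finset.card_erase_of_mem (show (1 : G) ∈ Finset.univ.filter (fun g => InE z u g) from
          Finset.mem_filter.mpr ⟨Finset.mem_univ _, Or.inl rfl⟩), h4]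
    have hsplit : Nat.card {w : G // Inv X0 w ∧ ¬ InE z u w} + Nat.card {v : G // InE z u v ∧ v ≠ 1} =
        Nat.card {w : G // Inv X0 w} := by
      simp only [Nat.card_eq_fintype_card, Fintype.card_subtype]
      rw [← Finset.card_union_of_disjoint]
      · congr 1
        ext g
        simp only [Finset.mem_union, Finset.mem_filter, Finset.mem_univ, true_and]
        refine ⟨fun hg => hg.elim And.left fun h' => S.kernel.inE_inv H S.ctx h'.1 h'.2, fun hg => ?_⟩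
        by_cases hE : InE z u g
        · exact Or.inr ⟨hE, hg.2.2⟩
        · exact Or.inl ⟨hg, hE⟩
      · rw [Finset.disjoint_left]
        intro g hg hg'
        exact (Finset.mem_filter.mp hg).2.2 (Finset.mem_filter.mp hg').2.1
    rw [Nat.card_prod, h4, h3]
    omega
  obtain ⟨⟨⟨e, he⟩, ⟨v, hv'⟩⟩, hp⟩ := (Function.Injective.bijective_of_nat_card_le hinj hcard).2 ⟨w, hw, hwn⟩
  refine ⟨e, he, ?_⟩
  rw [← show e * (g0 * v * g0⁻¹) * e⁻¹ = w from congrArg Subtype.val hp]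
  exact conj_commute_iff.mpr (conj_commute_iff.mpr (S.inE_commute inE_z hv'.1))

theorem isSimple (S : Full z Q χ u h x c X0) : IsSimpleGroup X0 := by
  classical
  refine H59.simple_of_nonsolvable_60 S.card_X0 fun hs => ?_
  have H := S.hyp
  haveI : Nontrivial X0 := Finite.one_lt_card_iff_nontrivial.1 (by rw [S.card_X0]; norm_num)
  obtain ⟨A, hAn, hA1, hAc⟩ := exists_abelian_normal hs
  by_cases hinvol : ∃ a ∈ A, Inv X0 (a : G)
  · obtain ⟨a, ha, haI⟩ := hinvol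
    obtain ⟨k, hk, hka⟩ := S.kernel.inv_conj S.two S.ctx haI
    obtain ⟨g0, hg0, hn0⟩ := S.exists_w0
    have hzA : (⟨z, S.inE_mem inE_z⟩ : X0) ∈ A := by
      convert hAn.conj_mem a ha ⟨k⁻¹, inv_mem hk⟩ using 1
      refine Subtype.ext ?_
      show z = k⁻¹ * (a : G) * k⁻¹⁻¹
      rw [← hka]; group
    have := congrArg Subtype.val (hAc _ (hAn.conj_mem _ hzA ⟨g0, hg0⟩) _ hzA)
    exact hn0 (S.cent (mul_mem (mul_mem hg0 (S.inE_mem inE_z)) (inv_mem hg0)) inE_z H.z_ne this)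
  push Not at hinvol
  refine hA1 (eq_bot_iff.mpr fun a ha => Subgroup.mem_bot.mpr ?_)
  have hinvert : ∀ v, InE z u v → v ≠ 1 → ∀ b ∈ A, v * (b : G) * v = (b : G)⁻¹ := by
    intro v hv hv1 b hb
    have hv2 := S.ctx.pair.inE_sq H hv
    have hvi := inv_eq_of_mul_eq_one_right hv2
    set v' : X0 := ⟨v, S.inE_mem hv⟩
    let f : A → A := fun a => ⟨(a : X0)⁻¹ * (v' * (a : X0) * v'⁻¹),
      mul_mem (inv_mem a.2) (hAn.conj_mem _ a.2 v')⟩
    have hf : Function.Injective f := by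
      intro a a' e
      have e0 : (a : G)⁻¹ * (v * (a : G) * v⁻¹) = (a' : G)⁻¹ * (v * (a' : G) * v⁻¹) :=
        congrArg (fun r : A => ((r : X0) : G)) e
      have hc : Commute ((a' : G) * (a : G)⁻¹) v := by
        show (a' : G) * (a : G)⁻¹ * v = v * ((a' : G) * (a : G)⁻¹)
        calc (a' : G) * (a : G)⁻¹ * v = (a' : G) * ((a : G)⁻¹ * (v * (a : G) * v⁻¹)) * v * (a : G)⁻¹ := by group
          _ = v * ((a' : G) * (a : G)⁻¹) := by rw [e0]; group
      have hmA : (a' : X0) * (a : X0)⁻¹ ∈ A := mul_mem a'.2 (inv_mem a.2)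
      have hE := S.cent ((a' : X0) * (a : X0)⁻¹).2 hv hv1 hc
      by_contra hne
      exact hinvol _ hmA ⟨((a' : X0) * (a : X0)⁻¹).2, S.ctx.pair.inE_sq H hE,
        fun e1 => hne (Subtype.ext (Subtype.ext (mul_inv_eq_one.mp e1).symm))⟩
    obtain ⟨a, ha⟩ := (Finite.injective_iff_surjective.mp hf) ⟨b, hb⟩
    have hb' : (b : G) = (a : G)⁻¹ * (v * (a : G) * v⁻¹) :=
      (congrArg (fun r : A => ((r : X0) : G)) ha).symm
    rw [hb', hvi, show v * ((a : G)⁻¹ * (v * (a : G) * v)) * v = v * (a : G)⁻¹ * v * (a : G) * (v * v) by group,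
      hv2, mul_one, mul_inv_rev, inv_inv, mul_inv_rev, mul_inv_rev, hvi]
    group
  have h1 := hinvert z inE_z H.z_ne a ha
  have h2 := hinvert u (Or.inr (Or.inr (Or.inl rfl))) S.ctx.pair.u_ne_one a ha
  have h3 := hinvert (u * z) (Or.inr (Or.inr (Or.inr rfl))) (S.ctx.pair.uz_ne_one H) a ha
  have hself : (a : G) * a = 1 := by
    have e : u * z * (a : G) * (u * z) = a := by
      calc u * z * (a : G) * (u * z) = u * z * (a : G) * (z * u) := by rw [(S.ctx.pair.u_comm H).eq]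
        _ = u * (z * (a : G) * z) * u := by group
        _ = (u * (a : G) * u)⁻¹ := by
          rw [h1, mul_inv_rev, mul_inv_rev, inv_eq_of_mul_eq_one_right S.ctx.pair.uu, mul_assoc]
        _ = a := by rw [h2, inv_inv]
    exact mul_eq_one_iff_eq_inv.mpr (e.symm.trans h3)
  by_contra hne
  exact hinvol a ha ⟨a.2, hself, fun e => hne (Subtype.ext e)⟩

/-- Fixing every class of commuting involutions. -/
def Fix (X0 : Subgroup G) (g : G) : Prop := ∀ w, Inv X0 w → Commute (g * w * g⁻¹) w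

theorem fix_eq_one (S : Full z Q χ u h x c X0) {k : G} (hk : k ∈ X0) (hf : Fix X0 k) : k = 1 := by
  classical
  haveI := S.isSimple
  have hconj : ∀ {g w : G}, g ∈ X0 → Inv X0 w → Inv X0 (g * w * g⁻¹) := fun hg hw =>
    hw.conj (mul_mem (mul_mem hg hw.1) (inv_mem hg))
  let K5 : Subgroup X0 :=
    { carrier := {g | Fix X0 (g : G)}
      one_mem' := fun w _ => by simp [Commute.refl]
      mul_mem' := by
        intro a b ha hb w hw
        have h1 := hb w hw
        have hI := hconj b.2 hw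
        have h2 := ha _ hI
        rw [show ((a * b : X0) : G) * w * ((a * b : X0) : G)⁻¹ =
          (a : G) * ((b : G) * w * (b : G)⁻¹) * (a : G)⁻¹ by simp [mul_assoc]]
        exact S.trans (hconj a.2 hI) hI hw h2 h1
      inv_mem' := by
        intro a ha w hw
        have hI := hconj (inv_mem a.2) hw
        have h1 := ha _ hI
        rw [show (a : G) * ((a : G)⁻¹ * w * (a : G)⁻¹⁻¹) * (a : G)⁻¹ = w by group] at h1
        exact h1.symm }
  have hn : K5.Normal := ⟨fun a ha g w hw => by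
    have hI := hconj (inv_mem g.2) hw
    have h1 := (conj_commute_iff (g := (g : G))).mpr (ha _ hI)
    rwa [show (g : G) * ((g : G)⁻¹ * w * (g : G)⁻¹⁻¹) * (g : G)⁻¹ = w by group,
      show (g : G) * ((a : G) * ((g : G)⁻¹ * w * (g : G)⁻¹⁻¹) * (a : G)⁻¹) * (g : G)⁻¹ =
        ((g * a * g⁻¹ : X0) : G) * w * ((g * a * g⁻¹ : X0) : G)⁻¹ by simp [mul_assoc]] at h1⟩
  rcases hn.eq_bot_or_eq_top with e | e
  · have : (⟨k, hk⟩ : X0) ∈ K5 := hf
    rw [e, Subgroup.mem_bot] at this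
    exact congrArg Subtype.val this
  · exfalso
    obtain ⟨g0, hg0, hn0⟩ := S.exists_w0
    have hz : (⟨z, S.inE_mem inE_z⟩ : X0) ∈ K5 := e ▸ Subgroup.mem_top _
    exact S.hyp.z_ne (S.free inE_z ((S.kernel.inv_z S.hyp S.ctx).conj
      (mul_mem (mul_mem hg0 (S.inE_mem inE_z)) (inv_mem hg0))) hn0
      (hz _ ((S.kernel.inv_z S.hyp S.ctx).conj
      (mul_mem (mul_mem hg0 (S.inE_mem inE_z)) (inv_mem hg0)))))

/-- An element normalising `X0` and fixing every class centralises `X0`. -/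
theorem cent_of_fix (S : Full z Q χ u h x c X0) {g : G} (hn : ∀ k ∈ X0, g * k * g⁻¹ ∈ X0)
    (hn' : ∀ k ∈ X0, g⁻¹ * k * g ∈ X0) (hf : Fix X0 g) : g ∈ Subgroup.centralizer (X0 : Set G) := by
  rw [Subgroup.mem_centralizer_iff]
  intro k hk
  have hI : ∀ {a w : G}, a ∈ X0 → Inv X0 w → Inv X0 (a * w * a⁻¹) := fun ha hw =>
    hw.conj (mul_mem (mul_mem ha hw.1) (inv_mem ha))
  have e : g * k * g⁻¹ * k⁻¹ = 1 := by
    refine S.fix_eq_one (mul_mem (hn k hk) (inv_mem hk)) fun w hw => ?_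
    have h1 : Inv X0 (k⁻¹ * w * k) := by simpa using hI (inv_mem hk) hw
    have h2 : Inv X0 (g⁻¹ * (k⁻¹ * w * k) * g) := by
      simpa using h1.conj (g := g⁻¹) (by simpa using hn' _ h1.1)
    have c1 : Commute (k⁻¹ * w * k) (g⁻¹ * (k⁻¹ * w * k) * g) := by
      have := hf _ h2
      rwa [show g * (g⁻¹ * (k⁻¹ * w * k) * g) * g⁻¹ = k⁻¹ * w * k by group] at this
    have c2 := (conj_commute_iff (g := k)).mpr c1
    rw [show k * (k⁻¹ * w * k) * k⁻¹ = w by group] at c2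
    have h3 := hI hk h2
    have c3 := hf _ h3
    rw [show g * k * g⁻¹ * k⁻¹ * w * (g * k * g⁻¹ * k⁻¹)⁻¹ =
      g * (k * (g⁻¹ * (k⁻¹ * w * k) * g) * k⁻¹) * g⁻¹ by group]
    exact S.trans (h3.conj (hn _ h3.1)) h3 hw c3 c2.symm
  calc k * g = (g * k * g⁻¹ * k⁻¹)⁻¹ * (g * k) := by group
    _ = g * k := by rw [e, inv_one, one_mul]

/-- Fixing `E` elementwise and one further class suffices. -/
theorem fix_of (S : Full z Q χ u h x c X0) {g0 g : G} (hg0 : g0 ∈ X0)
    (hn0 : ¬ InE z u (g0 * z * g0⁻¹)) (hn : ∀ k ∈ X0, g * k * g⁻¹ ∈ X0)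
    (hgE : ∀ e, InE z u e → Commute g e)
    (hw0 : Commute (g * (g0 * z * g0⁻¹) * g⁻¹) (g0 * z * g0⁻¹)) : Fix X0 g := by
  intro w hw
  by_cases hwE : InE z u w
  · rw [(hgE w hwE).eq, mul_inv_cancel_right]
  obtain ⟨e, he, hc⟩ := S.cover hg0 hn0 hw hwE
  have hI0 : Inv X0 (g0 * z * g0⁻¹) :=
    (S.kernel.inv_z S.hyp S.ctx).conj (mul_mem (mul_mem hg0 (S.inE_mem inE_z)) (inv_mem hg0))
  have hIe := S.inv_conj_inE he hI0
  have c1 : Commute (g * (e * (g0 * z * g0⁻¹) * e⁻¹) * g⁻¹) (g * w * g⁻¹) := conj_commute_iff.mpr hc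
  have c2 : Commute (g * (e * (g0 * z * g0⁻¹) * e⁻¹) * g⁻¹) (e * (g0 * z * g0⁻¹) * e⁻¹) := by
    rw [show g * (e * (g0 * z * g0⁻¹) * e⁻¹) * g⁻¹ = (g * e) * (g0 * z * g0⁻¹) * (g * e)⁻¹ by group,
      (hgE e he).eq, show (e * g) * (g0 * z * g0⁻¹) * (e * g)⁻¹ = e * (g * (g0 * z * g0⁻¹) * g⁻¹) * e⁻¹ by group]
    exact conj_commute_iff.mpr hw0
  have hIge := hIe.conj (hn _ hIe.1)
  exact S.trans (hw.conj (hn _ hw.1)) hIe hw (S.trans (hw.conj (hn _ hw.1)) hIge hIe c1.symm c2) hc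

end Full

end H36.HJ
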