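import Cfsg.Agent.H36.HJ.ThreeCent
import Cfsg.Agent.H79.CubeExtraspecial

/-!
Groups of Hall–Janko type, part 13: the Sylow 3-subgroups.
-/

set_option autoImplicit false

namespace H36.HJ

open scoped commutatorElement

local notation "A5" => alternatingGroup (Fin 5)

variable {G : Type*} [Group G] [Finite G]
variable {z : G} {Q : Subgroup G} {χ : Subgroup.centralizer ({z} : Set G) →* A5}
variable {u h x c : G} {X0 : Subgroup G}

theorem a5_three_inverted : ∀ a : A5, a ^ 3 = 1 → ∃ b : A5, b * a * b⁻¹ = a⁻¹ := by decide +kernel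

/-- `⟨b, g⟩` as a centraliser. -/
def AT (b g : G) : Subgroup G := Subgroup.centralizer ({b} : Set G) ⊓ Subgroup.centralizer ({g} : Set G)

omit [Finite G] in
theorem mem_AT {b g a : G} : a ∈ AT b g ↔ Commute a b ∧ Commute a g := by
  rw [AT, Subgroup.mem_inf, Subgroup.mem_centralizer_singleton_iff, Subgroup.mem_centralizer_singleton_iff]
  exact Iff.rfl

namespace Full

/-- Data for the Sylow 3-argument. -/
structure Three (S : Full z Q χ u h x c X0) (b g : G) : Prop where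
  bX : b ∈ X0
  bo : orderOf b = 3
  go : orderOf g = 3
  gD : g ∈ DD (x * c) X0
  gz : Commute g z
  gny : ¬ Commute g (x * c)

theorem exists_three_data (S : Full z Q χ u h x c X0) : ∃ b g, Three S b g := by
  haveI : Fact (Nat.Prime 3) := ⟨Nat.prime_three⟩
  obtain ⟨g, h1, h2, h3, h4⟩ := S.exists_three
  obtain ⟨b, hb⟩ := exists_prime_orderOf_dvd_card' (G := X0) 3 (by rw [S.card_X0]; norm_num)
  exact ⟨b, g, b.2, (Subgroup.orderOf_coe b).trans hb, h1, h2, h3, h4⟩

variable {S : Full z Q χ u h x c X0} {b g : G}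

theorem Three.b3 (T : Three S b g) : b ^ 3 = 1 := orderOf_dvd_iff_pow_eq_one.mp T.bo.dvd

theorem Three.g3 (T : Three S b g) : g ^ 3 = 1 := orderOf_dvd_iff_pow_eq_one.mp T.go.dvd

theorem Three.b1 (T : Three S b g) : b ≠ 1 := fun e => by have := T.bo; rw [e, orderOf_one] at this; omega

theorem Three.g1 (T : Three S b g) : g ≠ 1 := fun e => by have := T.go; rw [e, orderOf_one] at this; omega

theorem Three.comm (T : Three S b g) : Commute b g := (S.DD_comm_X0 T.gD T.bX).symm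

theorem Three.DD_comm_b (T : Three S b g) {d : G} (hd : d ∈ DD (x * c) X0) : Commute d b :=
  S.DD_comm_X0 hd T.bX

theorem DD_inter (S : Full z Q χ u h x c X0) {d : G} (hd : d ∈ DD (x * c) X0) (hk : d ∈ X0) : d = 1 :=
  S.cent_X0_z hk fun _ hl => S.DD_comm_X0 hd hl

theorem Three.cent_b (T : Three S b g) {r : G} (hr : Commute r b) :
    ∃ d ∈ DD (x * c) X0, ∃ j : ℤ, r = b ^ j * d := by
  classical
  let f : DD (x * c) X0 × Subgroup.zpowers b → Subgroup.centralizer ({b} : Set G) := fun p =>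
    ⟨(p.2 : G) * p.1, Subgroup.mem_centralizer_singleton_iff.mpr (by
      obtain ⟨j, hj⟩ := Subgroup.mem_zpowers_iff.mp p.2.2
      exact ((hj ▸ (Commute.refl b).zpow_left j).mul_left (T.DD_comm_b p.1.2)).eq)⟩
  have hf : Function.Injective f := by
    rintro ⟨a, k⟩ ⟨a', k'⟩ e
    have e' : (k : G) * a = k' * a' := congrArg Subtype.val e
    have hm : (k' : G)⁻¹ * k = a' * (a : G)⁻¹ := by
      calc (k' : G)⁻¹ * k = (k' : G)⁻¹ * ((k : G) * a) * (a : G)⁻¹ := by group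
        _ = a' * (a : G)⁻¹ := by rw [e']; group
    have hkX : (k' : G)⁻¹ * k ∈ X0 :=
      mul_mem (inv_mem (Subgroup.zpowers_le.mpr T.bX k'.2)) (Subgroup.zpowers_le.mpr T.bX k.2)
    have h1 : (k' : G)⁻¹ * k = 1 := S.DD_inter (hm ▸ mul_mem a'.2 (inv_mem a.2)) hkX
    obtain rfl : k' = k := Subtype.ext (inv_mul_eq_one.mp h1)
    rw [Subtype.ext (mul_left_cancel e')]
  obtain ⟨⟨d, k⟩, e⟩ := (hf.bijective_of_nat_card_le (by
    rw [Nat.card_prod, S.card_DD, Nat.card_zpowers, T.bo, S.card_cent_three T.bX T.bo])).2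
    ⟨r, Subgroup.mem_centralizer_singleton_iff.mpr hr.eq⟩
  obtain ⟨j, hj⟩ := Subgroup.mem_zpowers_iff.mp k.2
  exact ⟨d, d.2, j, by rw [hj]; exact (congrArg Subtype.val e).symm⟩

theorem Three.DD_decomp (T : Three S b g) {d : G} (hd : d ∈ DD (x * c) X0) :
    ∃ f ∈ FF (x * c) X0, ∃ j : ℤ, d = f * g ^ j := by
  classical
  let φ : FF (x * c) X0 × Subgroup.zpowers g → DD (x * c) X0 := fun p =>
    ⟨(p.1 : G) * p.2, mul_mem (S.FF_le_DD p.1.2) (Subgroup.zpowers_le.mpr T.gD p.2.2)⟩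
  have hφ : Function.Injective φ := by
    rintro ⟨a, k⟩ ⟨a', k'⟩ e
    have e' : (a : G) * k = a' * k' := congrArg Subtype.val e
    have hm : (a' : G)⁻¹ * a = k' * (k : G)⁻¹ := by
      calc (a' : G)⁻¹ * a = (a' : G)⁻¹ * ((a : G) * k) * (k : G)⁻¹ := by group
        _ = k' * (k : G)⁻¹ := by rw [e']; group
    have h1 : (a' : G)⁻¹ * a = 1 := (show IsOdd g from Or.inl T.go).eq_one_of_sq
      (hm ▸ mul_mem k'.2 (inv_mem k.2)) (S.FF_sq (mul_mem (inv_mem a'.2) a.2))
    obtain rfl : a' = a := Subtype.ext (inv_mul_eq_one.mp h1)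
    rw [Subtype.ext (mul_left_cancel e')]
  obtain ⟨⟨f, k⟩, e⟩ := (hφ.bijective_of_nat_card_le (by
    rw [Nat.card_prod, S.card_FF, Nat.card_zpowers, T.go, S.card_DD])).2 ⟨d, hd⟩
  obtain ⟨j, hj⟩ := Subgroup.mem_zpowers_iff.mp k.2
  exact ⟨f, f.2, j, by rw [hj]; exact (congrArg Subtype.val e).symm⟩

theorem Three.FF_comm_g (T : Three S b g) {f : G} (hf : f ∈ FF (x * c) X0) (hc : Commute f g) : f = 1 := by
  by_contra hf1
  have : g ∈ Subgroup.centralizer ({f} : Set G) := Subgroup.mem_centralizer_singleton_iff.mpr hc.symm.eq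
  rw [S.cent_FF hf hf1, Subgroup.mem_centralizer_singleton_iff] at this
  exact T.gny this

theorem Three.mem_cases (T : Three S b g) {a : G} (ha : a ∈ AT b g) :
    ∃ i j : ℤ, a = b ^ i * g ^ j := by
  obtain ⟨hab, hag⟩ := mem_AT.mp ha
  obtain ⟨d, hd, i, rfl⟩ := T.cent_b hab
  obtain ⟨f, hf, j, rfl⟩ := T.DD_decomp hd
  refine ⟨i, j, ?_⟩
  have h1 : Commute f g := by
    have h2 := (((T.comm.zpow_left i).inv_left).mul_left hag).mul_left
      (((Commute.refl g).zpow_left j).inv_left)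
    rwa [inv_mul_cancel_left, mul_inv_cancel_right] at h2
  rw [T.FF_comm_g hf h1, one_mul]

theorem Three.mem_of_pows (T : Three S b g) (i j : ℤ) : b ^ i * g ^ j ∈ AT b g :=
  mem_AT.mpr ⟨((Commute.refl b).zpow_left i).mul_left (T.comm.symm.zpow_left j),
    (T.comm.zpow_left i).mul_left ((Commute.refl g).zpow_left j)⟩

theorem Three.b_mem (T : Three S b g) : b ∈ AT b g := mem_AT.mpr ⟨Commute.refl b, T.comm⟩

theorem Three.g_mem (T : Three S b g) : g ∈ AT b g := mem_AT.mpr ⟨T.comm.symm, Commute.refl g⟩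

theorem Three.card_AT (T : Three S b g) : Nat.card (AT b g) = 9 := by
  classical
  let φ : Subgroup.zpowers b × Subgroup.zpowers g → AT b g := fun p =>
    ⟨(p.1 : G) * p.2, mul_mem (Subgroup.zpowers_le.mpr T.b_mem p.1.2) (Subgroup.zpowers_le.mpr T.g_mem p.2.2)⟩
  have hφ : Function.Bijective φ := by
    constructor
    · rintro ⟨a, k⟩ ⟨a', k'⟩ e
      have e' : (a : G) * k = a' * k' := congrArg Subtype.val e
      have hm : (a' : G)⁻¹ * a = k' * (k : G)⁻¹ := by
        calc (a' : G)⁻¹ * a = (a' : G)⁻¹ * ((a : G) * k) * (k : G)⁻¹ := by group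
          _ = k' * (k : G)⁻¹ := by rw [e']; group
      have h1 : (a' : G)⁻¹ * a = 1 := S.DD_inter
        (hm ▸ Subgroup.zpowers_le.mpr T.gD (mul_mem k'.2 (inv_mem k.2)))
        (Subgroup.zpowers_le.mpr T.bX (mul_mem (inv_mem a'.2) a.2))
      obtain rfl : a' = a := Subtype.ext (inv_mul_eq_one.mp h1)
      rw [Subtype.ext (mul_left_cancel e')]
    · rintro ⟨a, ha⟩
      obtain ⟨i, j, rfl⟩ := T.mem_cases ha
      exact ⟨(⟨b ^ i, Subgroup.zpow_mem _ (Subgroup.mem_zpowers b) i⟩,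
        ⟨g ^ j, Subgroup.zpow_mem _ (Subgroup.mem_zpowers g) j⟩), rfl⟩
  rw [← Nat.card_eq_of_bijective φ hφ, Nat.card_prod, Nat.card_zpowers, Nat.card_zpowers, T.bo, T.go]

theorem Three.AT_comm (T : Three S b g) {a a' : G} (ha : a ∈ AT b g) (ha' : a' ∈ AT b g) :
    Commute a a' := by
  obtain ⟨i, j, rfl⟩ := T.mem_cases ha
  obtain ⟨hab, hag⟩ := mem_AT.mp ha'
  exact (hab.symm.zpow_left i).mul_left (hag.symm.zpow_left j)

/-- No conjugate of `b` lies in the cyclic group of `g`. -/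
theorem Three.not_conj (T : Three S b g) {a : G} (hc : IsConj b a) (ha : a ∈ Subgroup.zpowers g) :
    False := by
  obtain ⟨k, hk⟩ := isConj_iff.mp hc
  obtain ⟨j, hj⟩ := Subgroup.mem_zpowers_iff.mp ha
  exact S.two.no_both S.ctx (show IsOdd a from hk ▸ (show IsOdd b from Or.inl T.bo).conj)
    (IsConj.refl z) (isConj_iff.mpr ⟨k, rfl⟩) (hj ▸ T.gz.zpow_left j)
    (hk ▸ conj_commute_iff.mpr (S.kernel.comm_y T.bX))

theorem Three.exists_inverter (T : Three S b g) : ∃ k ∈ X0, k * b * k⁻¹ = b⁻¹ := by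
  obtain ⟨e⟩ := S.X0_iso
  obtain ⟨a, ha⟩ := a5_three_inverted (e ⟨b, T.bX⟩) (by
    rw [← map_pow, show (⟨b, T.bX⟩ : X0) ^ 3 = 1 from Subtype.ext (by simp [T.b3]), map_one])
  obtain ⟨k, rfl⟩ := e.surjective a
  rw [← map_inv, ← map_mul, ← map_mul, ← map_inv] at ha
  exact ⟨k, k.2, congrArg Subtype.val (e.injective ha)⟩

theorem card_P3 (S : Full z Q χ u h x c X0) (P : Sylow 3 G) : Nat.card P = 27 := by
  haveI : Fact (Nat.Prime 3) := ⟨Nat.prime_three⟩
  rw [H62.card_sylow_coe (a := 3) (m := 22400) (by rw [S.card_G]; norm_num) (by norm_num) P]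
  norm_num

theorem Three.exists_sylow (T : Three S b g) : ∃ P : Sylow 3 G, AT b g ≤ P := by
  haveI : Fact (Nat.Prime 3) := ⟨Nat.prime_three⟩
  exact (IsPGroup.of_card (n := 2) (by rw [T.card_AT]; norm_num) : IsPGroup 3 (AT b g)).exists_le_sylow

theorem Three.not_comm_P (T : Three S b g) (P : Sylow 3 G) : ∃ p ∈ (P : Subgroup G), ¬ Commute p b := by
  by_contra! hall
  have := Subgroup.card_dvd_of_le (show (P : Subgroup G) ≤ Subgroup.centralizer ({b} : Set G) from
    fun p hp => Subgroup.mem_centralizer_singleton_iff.mpr (hall p hp).eq)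
  rw [S.card_P3 P, S.card_cent_three T.bX T.bo] at this
  norm_num at this

theorem Three.extraspecial (T : Three S b g) {P : Sylow 3 G} (hP : AT b g ≤ P) :
    Cfsg.IsExtraspecial 3 (P : Subgroup G) := by
  haveI : Fact (Nat.Prime 3) := ⟨Nat.prime_three⟩
  obtain ⟨p, hp, hpb⟩ := T.not_comm_P P
  exact H79.extraspecial_of_card_cube (X := (P : Subgroup G)) (p := 3)
    (by rw [S.card_P3 P]; norm_num) (a := ⟨p, hp⟩) (c := ⟨b, hP T.b_mem⟩)
    fun e => hpb (congrArg Subtype.val e)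

/-- The action of `P` on `⟨b, g⟩`: the centre is `⟨g⟩` and every other element is a `P`-conjugate of a
power of `b`. -/
theorem Three.structure_P (T : Three S b g) {P : Sylow 3 G} (hP : AT b g ≤ P) :
    (∀ p ∈ (P : Subgroup G), Commute p g) ∧
      (∀ p ∈ (P : Subgroup G), ∀ a ∈ AT b g, p * a * p⁻¹ ∈ AT b g) ∧
      ∀ a ∈ AT b g, a ∉ Subgroup.zpowers g →
        ∃ p ∈ (P : Subgroup G), p * b * p⁻¹ = a ∨ p * b⁻¹ * p⁻¹ = a := by
  classical
  obtain ⟨p, hp, hpb⟩ := T.not_comm_P P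
  have hex := T.extraspecial hP
  obtain ⟨⟨-, -, hcd⟩, hZ⟩ := hex
  set bP : (P : Subgroup G) := ⟨b, hP T.b_mem⟩
  have hcen : ∀ p' : (P : Subgroup G), ⁅p', bP⁆ ∈ Subgroup.center (P : Subgroup G) := fun p' => by
    rw [← hcd, commutator_def]
    exact Subgroup.commutator_mem_commutator (Subgroup.mem_top _) (Subgroup.mem_top _)
  set ζP := ⁅(⟨p, hp⟩ : (P : Subgroup G)), bP⁆
  have hζc := hcen ⟨p, hp⟩
  set ζ : G := (ζP : G)
  have hζ : ζ = p * b * p⁻¹ * b⁻¹ := rfl
  have hζP : ∀ {q : G}, q ∈ (P : Subgroup G) → Commute q ζ := fun {q} hq =>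
    congrArg Subtype.val (Subgroup.mem_center_iff.mp hζc ⟨q, hq⟩)
  have hζ3 : ζ ^ 3 = 1 := by
    have := pow_card_eq_one' (x := (⟨ζP, hζc⟩ : Subgroup.center (P : Subgroup G)))
    rw [hZ] at this
    exact congrArg (fun q : Subgroup.center (P : Subgroup G) => ((q : (P : Subgroup G)) : G)) this
  have hζ1 : ζ ≠ 1 := fun e => hpb (by
    rw [hζ, mul_inv_eq_one] at e
    exact mul_inv_eq_iff_eq_mul.mp e)
  have hζA : ζ ∈ AT b g :=
    mem_AT.mpr ⟨(hζP (hP T.b_mem)).symm, (hζP (hP T.g_mem)).symm⟩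
  have hconj : ∀ m : ℕ, p ^ m * b * (p ^ m)⁻¹ = b * ζ ^ m := by
    intro m
    induction m with
    | zero => simp
    | succ m ih =>
      have e1 : p * b * p⁻¹ = b * ζ := by
        rw [hζ, ← (show Commute b (p * b * p⁻¹ * b⁻¹) from hζ ▸ hζP (hP T.b_mem)).symm.eq]
        group
      rw [pow_succ', show p * p ^ m * b * (p * p ^ m)⁻¹ = p * (p ^ m * b * (p ^ m)⁻¹) * p⁻¹ by group, ih,
        show p * (b * ζ ^ m) * p⁻¹ = (p * b * p⁻¹) * (p * ζ ^ m * p⁻¹) by group, e1,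
        ((hζP hp).pow_right m).eq, mul_inv_cancel_right, mul_assoc, ← pow_succ']
  -- every element of `A` is `b ^ i * ζ ^ k`
  let φ : Fin 3 × Fin 3 → AT b g := fun q => ⟨b ^ (q.1 : ℕ) * ζ ^ (q.2 : ℕ),
    mul_mem (pow_mem T.b_mem _) (pow_mem hζA _)⟩
  have hnb : ζ ∉ Subgroup.zpowers b := fun hm => by
    have hgen := zpowers_eq_of_mem hm ((orderOf_eq_prime (p := 3) (hp := ⟨Nat.prime_three⟩) hζ3 hζ1).trans T.bo.symm)
    have hb' : b ∈ Subgroup.zpowers ζ := hgen ▸ Subgroup.mem_zpowers b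
    obtain ⟨j, hj⟩ := Subgroup.mem_zpowers_iff.mp hb'
    exact hpb (hj ▸ (hζP hp).zpow_right j)
  have hφ : Function.Injective φ := by
    rintro ⟨i, k⟩ ⟨i', k'⟩ e
    have e' : b ^ (i : ℕ) * ζ ^ (k : ℕ) = b ^ (i' : ℕ) * ζ ^ (k' : ℕ) := congrArg Subtype.val e
    have h1 : ζ ^ ((k : ℤ) - k') = b ^ ((i' : ℤ) - i) := by
      rw [zpow_sub, zpow_sub, zpow_natCast, zpow_natCast, zpow_natCast, zpow_natCast]
      calc ζ ^ (k : ℕ) * (ζ ^ (k' : ℕ))⁻¹
          = (b ^ (i : ℕ))⁻¹ * (b ^ (i : ℕ) * ζ ^ (k : ℕ)) * (ζ ^ (k' : ℕ))⁻¹ := by group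
        _ = (b ^ (i : ℕ))⁻¹ * b ^ (i' : ℕ) := by rw [e']; group
        _ = b ^ (i' : ℕ) * (b ^ (i : ℕ))⁻¹ := ((Commute.refl b).pow_pow _ _).inv_left.eq
    have hk : (k : ℕ) = k' := by
      by_contra hne
      refine hnb ?_
      have ho : orderOf ζ = 3 := orderOf_eq_prime (p := 3) (hp := ⟨Nat.prime_three⟩) hζ3 hζ1
      have hm : ζ ^ ((k : ℤ) - k') ∈ Subgroup.zpowers b := h1 ▸ Subgroup.zpow_mem _ (Subgroup.mem_zpowers b) _
      have h2 : ζ ^ ((k : ℤ) - k') ≠ 1 := fun e1 => by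
        have := orderOf_dvd_iff_zpow_eq_one.mpr e1
        rw [ho] at this
        have := k.isLt; have := k'.isLt
        omega
      have hgen := zpowers_eq_of_mem (Subgroup.zpow_mem _ (Subgroup.mem_zpowers ζ) ((k : ℤ) - k'))
        ((orderOf_eq_prime (p := 3) (hp := ⟨Nat.prime_three⟩)
          (by rw [← zpow_natCast, ← zpow_mul, mul_comm, zpow_mul, zpow_natCast, hζ3, one_zpow]) h2).trans ho.symm)
      exact Subgroup.zpowers_le.mpr hm (hgen ▸ Subgroup.mem_zpowers ζ)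
    have hi : (i : ℕ) = i' := by
      rw [hk] at e'
      have h2 := pow_inj_mod.mp (mul_right_cancel e')
      rw [T.bo] at h2
      have := i.isLt; have := i'.isLt
      omega
    exact Prod.ext (Fin.ext hi) (Fin.ext hk)
  have hsurj := (hφ.bijective_of_nat_card_le (by rw [T.card_AT]; simp)).2
  have hAT : ∀ a ∈ AT b g, ∃ i k : ℕ, i < 3 ∧ k < 3 ∧ a = b ^ i * ζ ^ k := fun a ha => by
    obtain ⟨q, hq⟩ := hsurj ⟨a, ha⟩
    exact ⟨q.1, q.2, q.1.isLt, q.2.isLt, (congrArg Subtype.val hq).symm⟩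
  obtain ⟨k0, hk0X, hk0⟩ := T.exists_inverter
  have horbit : ∀ i k : ℕ, i < 3 → k < 3 → i ≠ 0 →
      ∃ q ∈ (P : Subgroup G), q * b * q⁻¹ = b ^ i * ζ ^ k ∨ q * b⁻¹ * q⁻¹ = b ^ i * ζ ^ k := by
    intro i k hi hk hi0
    interval_cases i
    · omega
    · exact ⟨p ^ k, pow_mem hp _, Or.inl (by rw [hconj, pow_one])⟩
    · refine ⟨p ^ (2 * k), pow_mem hp _, Or.inr ?_⟩
      have e1 : p ^ (2 * k) * b⁻¹ * (p ^ (2 * k))⁻¹ = (p ^ (2 * k) * b * (p ^ (2 * k))⁻¹)⁻¹ := by group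
      rw [e1, hconj, mul_inv_rev, ← inv_pow,
        show ζ⁻¹ = ζ ^ 2 by exact inv_eq_of_mul_eq_one_right (by rw [← pow_succ', hζ3]),
        show b⁻¹ = b ^ 2 by exact inv_eq_of_mul_eq_one_right (by rw [← pow_succ', T.b3]), ← pow_mul,
        show 2 * (2 * k) = k + 3 * k by ring, pow_add, pow_mul, hζ3, one_pow, mul_one]
      exact (((hζP (hP T.b_mem)).pow_right k).pow_left 2).symm.eq
  have hgζ : g ∈ Subgroup.zpowers ζ := by
    obtain ⟨i, k, hi, hk, e⟩ := hAT g T.g_mem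
    by_cases hi0 : i = 0
    · rw [hi0, pow_zero, one_mul] at e
      rw [e]; exact Subgroup.npow_mem_zpowers ζ k
    exfalso
    obtain ⟨q, -, hq⟩ := horbit i k hi hk hi0
    rw [← e] at hq
    rcases hq with hq | hq
    · exact T.not_conj (isConj_iff.mpr ⟨q, hq⟩) (Subgroup.mem_zpowers g)
    · exact T.not_conj (isConj_iff.mpr ⟨q * k0, by rw [← hq, ← hk0]; group⟩) (Subgroup.mem_zpowers g)
  obtain ⟨j, hj⟩ := Subgroup.mem_zpowers_iff.mp hgζ
  have hζg : Subgroup.zpowers ζ = Subgroup.zpowers g :=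
    (zpowers_eq_of_mem hgζ (T.go.trans (orderOf_eq_prime (p := 3) (hp := ⟨Nat.prime_three⟩) hζ3 hζ1).symm)).symm
  refine ⟨fun q hq => hj ▸ (hζP hq).zpow_right j, fun q hq a ha => ?_, fun a ha hag => ?_⟩
  · obtain ⟨i, k, -, -, rfl⟩ := hAT a ha
    have hqb : q * b * q⁻¹ ∈ AT b g := by
      have h1 := hcen ⟨q, hq⟩
      have h2 : Commute b (q * b * q⁻¹ * b⁻¹) :=
        congrArg Subtype.val (Subgroup.mem_center_iff.mp h1 ⟨b, hP T.b_mem⟩)
      have h3 : Commute g (q * b * q⁻¹ * b⁻¹) :=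
        congrArg Subtype.val (Subgroup.mem_center_iff.mp h1 ⟨g, hP T.g_mem⟩)
      have h4 := mul_mem (mem_AT.mpr ⟨h2.symm, h3.symm⟩) T.b_mem
      rwa [inv_mul_cancel_right] at h4
    rw [show q * (b ^ i * ζ ^ k) * q⁻¹ = (q * b * q⁻¹) ^ i * (q * ζ ^ k * q⁻¹) by rw [conj_pow]; group,
      ((hζP hq).pow_right k).eq, mul_inv_cancel_right]
    exact mul_mem (pow_mem hqb i) (pow_mem hζA k)
  · obtain ⟨i, k, hi, hk, rfl⟩ := hAT a ha
    refine horbit i k hi hk fun hi0 => hag ?_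
    rw [hi0, pow_zero, one_mul, ← hζg]
    exact Subgroup.npow_mem_zpowers ζ k

theorem Three.conj_b (T : Three S b g) {a : G} (ha : a ∈ AT b g) (hag : a ∉ Subgroup.zpowers g) :
    ∃ n ∈ Subgroup.normalizer (AT b g : Set G), n * b * n⁻¹ = a := by
  obtain ⟨P, hP⟩ := T.exists_sylow
  obtain ⟨hPg, hPA, hconj⟩ := T.structure_P hP
  obtain ⟨k, hk, hkb⟩ := T.exists_inverter
  have hkN : k ∈ Subgroup.normalizer (AT b g : Set G) := by
    refine mem_normalizer_of_maps fun r hr => ?_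
    obtain ⟨i, j, rfl⟩ := T.mem_cases hr
    rw [show k * (b ^ i * g ^ j) * k⁻¹ = (k * b * k⁻¹) ^ i * (k * g ^ j * k⁻¹) by rw [conj_zpow]; group, hkb,
      ((S.DD_comm_X0 T.gD hk).zpow_left j).symm.eq, mul_inv_cancel_right, inv_zpow', ]
    exact T.mem_of_pows (-i) j
  obtain ⟨p, hp, e⟩ := hconj a ha hag
  have hpN : p ∈ Subgroup.normalizer (AT b g : Set G) := mem_normalizer_of_maps (hPA p hp)
  rcases e with e | e
  · exact ⟨p, hpN, e⟩
  · refine ⟨p * k, mul_mem hpN hkN, ?_⟩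
    rw [show p * k * b * (p * k)⁻¹ = p * (k * b * k⁻¹) * p⁻¹ by group, hkb, e]

theorem Three.card_AT_diff (T : Three S b g) :
    Nat.card {a : G // a ∈ AT b g ∧ a ∉ Subgroup.zpowers g} = 6 := by
  classical
  haveI := Fintype.ofFinite G
  have h9 : Nat.card {a : G // a ∈ AT b g} = 9 := T.card_AT
  have h3 : Nat.card {a : G // a ∈ Subgroup.zpowers g} = 3 := (Nat.card_zpowers g).trans T.go
  rw [Nat.card_eq_fintype_card, Fintype.card_subtype] at h9 h3 ⊢
  rw [show (Finset.univ.filter fun a : G => a ∈ AT b g ∧ a ∉ Subgroup.zpowers g) =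
      (Finset.univ.filter fun a : G => a ∈ AT b g) \ (Finset.univ.filter fun a : G => a ∈ Subgroup.zpowers g) by
    ext a; simp, Finset.card_sdiff_of_subset, h9, h3]
  intro a ha
  simp only [Finset.mem_filter, Finset.mem_univ, true_and] at ha ⊢
  exact Subgroup.zpowers_le.mpr T.g_mem ha

theorem Three.stab (T : Three S b g) {r : G} (hr : r ∈ Subgroup.normalizer (AT b g : Set G))
    (hrb : Commute r b) : r ∈ AT b g := by
  obtain ⟨d, hd, i, rfl⟩ := T.cent_b hrb
  obtain ⟨f, hf, j, rfl⟩ := T.DD_decomp hd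
  have hbi : b ^ i ∈ Subgroup.normalizer (AT b g : Set G) :=
    Subgroup.le_normalizer (Subgroup.zpow_mem _ T.b_mem i)
  have hgj : g ^ j ∈ Subgroup.normalizer (AT b g : Set G) :=
    Subgroup.le_normalizer (Subgroup.zpow_mem _ T.g_mem j)
  have hfN : f ∈ Subgroup.normalizer (AT b g : Set G) := by
    have := mul_mem (mul_mem (inv_mem hbi) hr) (inv_mem hgj)
    rwa [inv_mul_cancel_left, mul_inv_cancel_right] at this
  have hm : f * g * f⁻¹ * g⁻¹ ∈ AT b g :=
    mul_mem ((Subgroup.mem_normalizer_iff.mp hfN g).mp T.g_mem) (inv_mem T.g_mem)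
  have hmF : f * g * f⁻¹ * g⁻¹ ∈ FF (x * c) X0 := by
    rw [mul_assoc f g, mul_assoc f]
    exact mul_mem hf ((Subgroup.mem_normalizer_iff.mp (Subgroup.mem_inf.mp T.gD).1 _).mp (inv_mem hf))
  have h1 := T.FF_comm_g hmF (mem_AT.mp hm).2
  have hfg : Commute f g := mul_inv_eq_iff_eq_mul.mp (mul_inv_eq_one.mp h1)
  rw [T.FF_comm_g hf hfg, one_mul]
  exact T.mem_of_pows i j

theorem Three.card_NA (T : Three S b g) :
    Nat.card (Subgroup.normalizer (AT b g : Set G)) = 54 := by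
  classical
  set N := Subgroup.normalizer (AT b g : Set G)
  set b' : N := ⟨b, Subgroup.le_normalizer T.b_mem⟩
  have e1 := H65.card_conjugates_mul b'
  have hconj : Nat.card {r : N // IsConj b' r} =
      Nat.card {a : G // a ∈ AT b g ∧ a ∉ Subgroup.zpowers g} := by
    refine Nat.card_congr
      { toFun := fun r => ⟨((r : N) : G), ?_, ?_⟩
        invFun := fun a => ⟨⟨a.1, Subgroup.le_normalizer a.2.1⟩, ?_⟩
        left_inv := fun r => rfl
        right_inv := fun r => rfl }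
    · obtain ⟨n, hn⟩ := isConj_iff.mp r.2
      rw [show ((r : N) : G) = (n : G) * b * (n : G)⁻¹ from (congrArg Subtype.val hn).symm]
      exact (Subgroup.mem_normalizer_iff.mp n.2 b).mp T.b_mem
    · obtain ⟨n, hn⟩ := isConj_iff.mp r.2
      exact fun hm => T.not_conj (isConj_iff.mpr ⟨n, congrArg Subtype.val hn⟩) hm
    · obtain ⟨n, hn, he⟩ := T.conj_b a.2.1 a.2.2
      exact isConj_iff.mpr ⟨⟨n, hn⟩, Subtype.ext he⟩
  have hcent : Nat.card (Subgroup.centralizer ({b'} : Set N)) = Nat.card (AT b g) :=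
    Nat.card_congr
      { toFun := fun r => ⟨((r : N) : G), T.stab (r : N).2
          (congrArg Subtype.val (Subgroup.mem_centralizer_singleton_iff.mp r.2))⟩
        invFun := fun r => ⟨⟨r.1, Subgroup.le_normalizer r.2⟩, Subgroup.mem_centralizer_singleton_iff.mpr
          (Subtype.ext (mem_AT.mp r.2).1.eq)⟩
        left_inv := fun r => rfl
        right_inv := fun r => rfl }
  rw [hconj, hcent, T.card_AT_diff, T.card_AT] at e1
  exact e1.symm

theorem Three.NA_le (T : Three S b g) {P : Sylow 3 G} (hP : AT b g ≤ P) :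
    Subgroup.normalizer (AT b g : Set G) ≤ Subgroup.normalizer ((P : Subgroup G) : Set G) := by
  classical
  haveI : Fact (Nat.Prime 3) := ⟨Nat.prime_three⟩
  set M := Subgroup.normalizer (AT b g : Set G)
  have hPM : (P : Subgroup G) ≤ M := fun p hp => mem_normalizer_of_maps ((T.structure_P hP).2.1 p hp)
  set R : Sylow 3 M := P.subtype hPM
  have h1 : Nat.card (Sylow 3 M) = 1 := by
    have hmod : Nat.card (Sylow 3 M) % 3 = 1 := H62.card_sylow_mod
    have hd : Nat.card (Sylow 3 M) ∣ 2 :=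
      H62.card_sylow_dvd (a := 3) (by rw [T.card_NA]; norm_num) (by norm_num)
    have := Nat.le_of_dvd (by norm_num) hd
    omega
  have htop : Subgroup.normalizer ((R : Subgroup M) : Set M) = ⊤ :=
    Subgroup.index_eq_one.mp (by
      rw [← (show Nat.card (Sylow 3 M) = (Subgroup.normalizer ((R : Subgroup M) : Set M)).index from
        R.card_eq_index_normalizer), h1])
  intro m hm
  refine mem_normalizer_of_maps fun a ha => ?_
  have hmem : (⟨m, hm⟩ : M) ∈ Subgroup.normalizer ((R : Subgroup M) : Set M) := htop ▸ Subgroup.mem_top _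
  exact Subgroup.mem_subgroupOf.mp
    ((Subgroup.mem_normalizer_iff.mp hmem ⟨a, hPM ha⟩).mp (Subgroup.mem_subgroupOf.mpr ha))

/-- An element of the normaliser of `P` inverting the centre. -/
theorem Three.exists_center_inverter (T : Three S b g) {P : Sylow 3 G} (hP : AT b g ≤ P) :
    ∃ n ∈ Subgroup.normalizer ((P : Subgroup G) : Set G), n * g * n⁻¹ = g⁻¹ := by
  classical
  haveI : Fact (Nat.Prime 3) := ⟨Nat.prime_three⟩
  have H := S.hyp
  set a := img χ T.gz with ha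
  have ha3 : a ^ 3 = 1 := by
    rw [ha, ← img_pow]; exact (H.img_eq_one _).mpr (by rw [T.g3]; exact one_mem Q)
  have ha1 : a ≠ 1 := fun e => H.not_mem_odd (Or.inl T.go) ((H.img_eq_one _).mp e)
  obtain ⟨r, hr⟩ := a5_three_inverted a ha3
  obtain ⟨t, rfl⟩ := H.surj r
  set gC : Subgroup.centralizer ({z} : Set G) := ⟨g, mem_C.mpr T.gz⟩
  have hgC : χ gC = a := rfl
  set L : Subgroup (Subgroup.centralizer ({z} : Set G)) := (Subgroup.zpowers a).comap χ
  set gL : L := ⟨gC, Subgroup.mem_comap.mpr (hgC ▸ Subgroup.mem_zpowers a)⟩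
  have htg : χ (t * gC * t⁻¹) = a⁻¹ := by rw [map_mul, map_mul, map_inv, hgC, hr]
  set gL' : L := ⟨t * gC * t⁻¹, Subgroup.mem_comap.mpr (htg ▸ inv_mem (Subgroup.mem_zpowers a))⟩
  have hoC : orderOf gC = 3 := (Subgroup.orderOf_mk g _).trans T.go
  have ho : orderOf gL = 3 := by rw [Subgroup.orderOf_mk, hoC]
  have ho' : orderOf gL' = 3 := by
    rw [Subgroup.orderOf_mk]
    exact (orderOf_injective (MulAut.conj t).toMonoidHom (MulAut.conj t).injective gC).trans hoC
  have hsyl : ∀ {v : L}, orderOf v = 3 → ∃ R : Sylow 3 L, (R : Subgroup L) = Subgroup.zpowers v := by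
    intro v hv
    have hp : IsPGroup 3 (Subgroup.zpowers v) :=
      IsPGroup.of_card (n := 1) (by rw [Nat.card_zpowers, hv, pow_one])
    refine ⟨hp.toSylow ?_, IsPGroup.toSylow_coe _ _⟩
    intro h3
    have := Subgroup.card_mul_index (Subgroup.zpowers v)
    rw [Nat.card_zpowers, hv] at this
    have h9 : 3 * 3 ∣ Nat.card L := this ▸ Nat.mul_dvd_mul_left 3 h3
    have h9' := h9.trans (Subgroup.card_subgroup_dvd_card L)
    rw [H.card_C] at h9'
    norm_num at h9'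
  obtain ⟨R, hR⟩ := hsyl ho
  obtain ⟨R', hR'⟩ := hsyl ho'
  obtain ⟨k, hk⟩ := MulAction.exists_smul_eq L R R'
  have hmem : k * gL * k⁻¹ ∈ (R' : Subgroup L) := by
    rw [← hk, Sylow.coe_subgroup_smul]
    exact ⟨gL, hR ▸ Subgroup.mem_zpowers gL, rfl⟩
  rw [hR'] at hmem
  have hkimg : χ ((k * gL * k⁻¹ : L) : Subgroup.centralizer ({z} : Set G)) = a := by
    have hk' : χ (k : Subgroup.centralizer ({z} : Set G)) ∈ Subgroup.zpowers a := Subgroup.mem_comap.mp k.2
    obtain ⟨j, hj⟩ := Subgroup.mem_zpowers_iff.mp hk'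
    show χ ((k : Subgroup.centralizer ({z} : Set G)) * gC * (k : Subgroup.centralizer ({z} : Set G))⁻¹) = a
    rw [map_mul, map_mul, map_inv, hgC, ← hj, ((Commute.refl a).zpow_left j).eq, mul_inv_cancel_right]
  -- it is the inverse of `t g t⁻¹`
  have hinv : k * gL * k⁻¹ = gL'⁻¹ := by
    obtain ⟨j, hj⟩ := Subgroup.mem_zpowers_iff.mp hmem
    have h1 : a = a⁻¹ ^ j := by
      have e := congrArg (fun v : L => χ (v : Subgroup.centralizer ({z} : Set G))) hj
      simp only [SubgroupClass.coe_zpow, map_zpow] at e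
      rw [← htg]
      exact (e.trans hkimg).symm
    have ha1' : orderOf a = 3 := orderOf_eq_prime ha3 ha1
    have h2 : (3 : ℤ) ∣ 1 + j := by
      rw [show (3 : ℤ) = ((orderOf a : ℕ) : ℤ) by rw [ha1']; rfl, orderOf_dvd_iff_zpow_eq_one, zpow_add,
        zpow_one]
      conv_lhs => arg 1; rw [h1]
      rw [inv_zpow, inv_mul_cancel]
    have h3 : gL' ^ (1 + j) = 1 := orderOf_dvd_iff_zpow_eq_one.mp (by rw [ho']; exact h2)
    rw [zpow_add, zpow_one, hj] at h3
    exact (inv_eq_of_mul_eq_one_right h3).symm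
  set n0 : G := (t : G)⁻¹ * ((k : Subgroup.centralizer ({z} : Set G)) : G)
  have hn0 : n0 * g * n0⁻¹ = g⁻¹ := by
    have e := congrArg (fun v : L => ((v : Subgroup.centralizer ({z} : Set G)) : G)) hinv
    have e' : ((k : Subgroup.centralizer ({z} : Set G)) : G) * g *
        ((k : Subgroup.centralizer ({z} : Set G)) : G)⁻¹ = ((t : G) * g * (t : G)⁻¹)⁻¹ := e
    rw [show n0 * g * n0⁻¹ = (t : G)⁻¹ * (((k : Subgroup.centralizer ({z} : Set G)) : G) * g *
        ((k : Subgroup.centralizer ({z} : Set G)) : G)⁻¹) * t by simp only [n0]; group, e']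
    group
  set M := Subgroup.centralizer ({g} : Set G)
  have hPM : (P : Subgroup G) ≤ M := fun p hp =>
    Subgroup.mem_centralizer_singleton_iff.mpr ((T.structure_P hP).1 p hp).eq
  have hP'M : ((n0 • P : Sylow 3 G) : Subgroup G) ≤ M := by
    rw [Sylow.coe_subgroup_smul]
    rintro _ ⟨p, hp, rfl⟩
    have h1 : Commute (n0 * p * n0⁻¹) (n0 * g * n0⁻¹) := conj_commute_iff.mpr ((T.structure_P hP).1 p hp)
    rw [hn0] at h1
    have h2 := h1.inv_right
    rw [inv_inv] at h2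
    exact Subgroup.mem_centralizer_singleton_iff.mpr h2.eq
  obtain ⟨m, hm⟩ := MulAction.exists_smul_eq M ((n0 • P : Sylow 3 G).subtype hP'M) (P.subtype hPM)
  refine ⟨(m : G) * n0, mem_normalizer_of_maps fun p hp => ?_, ?_⟩
  · have hq : n0 * p * n0⁻¹ ∈ ((n0 • P : Sylow 3 G) : Subgroup G) := by
      rw [Sylow.coe_subgroup_smul]; exact ⟨p, hp, rfl⟩
    have h1 : m * ⟨_, hP'M hq⟩ * m⁻¹ ∈ ((P.subtype hPM : Sylow 3 M) : Subgroup M) := by
      rw [← hm, Sylow.coe_subgroup_smul]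
      exact ⟨⟨_, hP'M hq⟩, Subgroup.mem_subgroupOf.mpr hq, rfl⟩
    rw [show (m : G) * n0 * p * ((m : G) * n0)⁻¹ = (m : G) * (n0 * p * n0⁻¹) * (m : G)⁻¹ by group]
    exact Subgroup.mem_subgroupOf.mp h1
  · rw [show (m : G) * n0 * g * ((m : G) * n0)⁻¹ = (m : G) * (n0 * g * n0⁻¹) * (m : G)⁻¹ by group, hn0,
      (show Commute (m : G) g from Subgroup.mem_centralizer_singleton_iff.mp m.2).inv_right.eq,
      mul_inv_cancel_right]

theorem Three.zg_char (T : Three S b g) {P : Sylow 3 G} (hP : AT b g ≤ P) {n : G}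
    (hn : n ∈ Subgroup.normalizer ((P : Subgroup G) : Set G)) : n * g * n⁻¹ ∈ Subgroup.zpowers g := by
  obtain ⟨hPg, -, -⟩ := T.structure_P hP
  have hmem : n * g * n⁻¹ ∈ (P : Subgroup G) := (Subgroup.mem_normalizer_iff.mp hn g).mp (hP T.g_mem)
  have hc : ∀ p ∈ (P : Subgroup G), Commute p (n * g * n⁻¹) := fun p hp => by
    have h1 := (conj_commute_iff (g := n)).mpr (hPg _ ((Subgroup.mem_normalizer_iff.mp (inv_mem hn) p).mp hp))
    rwa [show n * (n⁻¹ * p * n⁻¹⁻¹) * n⁻¹ = p by group] at h1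
  have hA : n * g * n⁻¹ ∈ AT b g := mem_AT.mpr ⟨(hc b (hP T.b_mem)).symm, (hc g (hP T.g_mem)).symm⟩
  by_contra hg
  obtain ⟨q, -, hq⟩ := T.conj_b hA hg
  have hg' : n * g * n⁻¹ = q * b * q⁻¹ := hq.symm
  exact T.not_conj (a := g) (isConj_iff.mpr ⟨n⁻¹ * q, by
    calc n⁻¹ * q * b * (n⁻¹ * q)⁻¹ = n⁻¹ * (q * b * q⁻¹) * n := by group
      _ = g := by rw [← hg']; group⟩) (Subgroup.mem_zpowers g)

theorem Three.card_N (T : Three S b g) {P : Sylow 3 G} (hP : AT b g ≤ P) :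
    Nat.card (Subgroup.normalizer ((P : Subgroup G) : Set G)) = 216 ∧
      ∀ p ∈ (P : Subgroup G), p ∉ Subgroup.zpowers g → IsConj b p := by
  classical
  haveI : Fact (Nat.Prime 3) := ⟨Nat.prime_three⟩
  haveI := Fintype.ofFinite G
  set N := Subgroup.normalizer ((P : Subgroup G) : Set G)
  set NA := (Subgroup.normalizer (AT b g : Set G)).subgroupOf N with hNA
  have hNAc : Nat.card NA = 54 :=
    (Nat.card_congr (Subgroup.subgroupOfEquivOfLe (T.NA_le hP)).toEquiv).trans T.card_NA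
  have hgchar : ∀ n ∈ N, ∀ {a : G}, a ∉ Subgroup.zpowers g → n * a * n⁻¹ ∉ Subgroup.zpowers g := by
    intro n hn a ha hm
    refine ha ?_
    obtain ⟨j, hj⟩ := Subgroup.mem_zpowers_iff.mp hm
    have h2 := T.zg_char hP (inv_mem hn)
    have e : a = (n⁻¹ * g * n⁻¹⁻¹) ^ j := by rw [conj_zpow, hj]; group
    rw [e]
    exact Subgroup.zpow_mem _ h2 j
  let φ : (N ⧸ NA) × {a : G // a ∈ AT b g ∧ a ∉ Subgroup.zpowers g} →
      {p : G // p ∈ (P : Subgroup G) ∧ p ∉ Subgroup.zpowers g} := fun q =>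
    ⟨(q.1.out : G) * q.2.1 * (q.1.out : G)⁻¹,
      (Subgroup.mem_normalizer_iff.mp q.1.out.2 _).mp (hP q.2.2.1), hgchar _ q.1.out.2 q.2.2.2⟩
  have hφ : Function.Injective φ := by
    rintro ⟨q, ⟨a, ha⟩⟩ ⟨q', ⟨a', ha'⟩⟩ e
    have e' : (q.out : G) * a * (q.out : G)⁻¹ = (q'.out : G) * a' * (q'.out : G)⁻¹ := congrArg Subtype.val e
    set r : G := (q'.out : G)⁻¹ * q.out with hr
    have hra : r * a * r⁻¹ = a' := by
      calc r * a * r⁻¹ = (q'.out : G)⁻¹ * ((q.out : G) * a * (q.out : G)⁻¹) * q'.out := by rw [hr]; group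
        _ = a' := by rw [e']; group
    have hrN : r ∈ N := mul_mem (inv_mem q'.out.2) q.out.2
    have hrA : r ∈ Subgroup.normalizer (AT b g : Set G) := by
      -- both groups are generated by `a'` and `g`
      set A' := (AT b g).map (MulAut.conj r).toMonoidHom
      have hA'c : Nat.card A' = 9 := by
        rw [← Nat.card_congr ((AT b g).equivMapOfInjective _ (MulAut.conj r).injective).toEquiv, T.card_AT]
      have hgA' : g ∈ A' := by
        have h1 := T.zg_char hP (inv_mem hrN)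
        refine ⟨r⁻¹ * g * r⁻¹⁻¹, Subgroup.zpowers_le.mpr T.g_mem h1, ?_⟩
        show r * (r⁻¹ * g * r⁻¹⁻¹) * r⁻¹ = g
        group
      have ha'A' : a' ∈ A' := ⟨a, ha.1, hra⟩
      set I := AT b g ⊓ A'
      have hd : Nat.card I ∣ 3 ^ 2 := by
        rw [show (3 : ℕ) ^ 2 = 9 by norm_num, ← T.card_AT]; exact Subgroup.card_dvd_of_le inf_le_left
      obtain ⟨i, hi, hIc⟩ := (Nat.dvd_prime_pow Nat.prime_three).mp hd
      have hgI : Subgroup.zpowers g ≤ I := Subgroup.zpowers_le.mpr ⟨T.g_mem, hgA'⟩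
      have h9 : Nat.card I = 9 := by
        by_contra hne
        have hle : Nat.card I ≤ 3 := by interval_cases i <;> simp_all
        have := Subgroup.eq_of_le_of_card_ge hgI (by rw [Nat.card_zpowers, T.go]; exact hle)
        exact ha'.2 (this.ge ⟨ha'.1, ha'A'⟩)
      have e1 : I = AT b g := Subgroup.eq_of_le_of_card_ge inf_le_left (by rw [h9, T.card_AT])
      have e2 : I = A' := Subgroup.eq_of_le_of_card_ge inf_le_right (by rw [h9, hA'c])
      refine mem_normalizer_of_maps fun w hw => ?_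
      have : r * w * r⁻¹ ∈ A' := ⟨w, hw, rfl⟩
      rwa [← e2, e1] at this
    have hq : q' = q := by
      rw [← QuotientGroup.out_eq' q, ← QuotientGroup.out_eq' q', QuotientGroup.eq]
      exact Subgroup.mem_subgroupOf.mpr hrA
    subst hq
    have : a = a' := mul_left_cancel (mul_right_cancel e')
    subst this
    rfl
  have h24 : Nat.card {p : G // p ∈ (P : Subgroup G) ∧ p ∉ Subgroup.zpowers g} = 24 := by
    have h27 : Nat.card {p : G // p ∈ (P : Subgroup G)} = 27 := S.card_P3 P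
    have h3 : Nat.card {a : G // a ∈ Subgroup.zpowers g} = 3 := (Nat.card_zpowers g).trans T.go
    rw [Nat.card_eq_fintype_card, Fintype.card_subtype] at h27 h3 ⊢
    rw [show (Finset.univ.filter fun a : G => a ∈ (P : Subgroup G) ∧ a ∉ Subgroup.zpowers g) =
        (Finset.univ.filter fun a : G => a ∈ (P : Subgroup G)) \
          (Finset.univ.filter fun a : G => a ∈ Subgroup.zpowers g) by
      ext a; simp, Finset.card_sdiff_of_subset, h27, h3]
    intro a ha
    simp only [Finset.mem_filter, Finset.mem_univ, true_and] at ha ⊢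
    exact Subgroup.zpowers_le.mpr (hP T.g_mem) ha
  have hle := Nat.card_le_card_of_injective φ hφ
  rw [Nat.card_prod, T.card_AT_diff, h24, show Nat.card (N ⧸ NA) = NA.index from rfl] at hle
  have hN : Nat.card N = 54 * NA.index := by rw [← hNAc, Subgroup.card_mul_index]
  have hidx : Nat.card (Sylow 3 G) = N.index := P.card_eq_index_normalizer
  have hmod : Nat.card (Sylow 3 G) % 3 = 1 := H62.card_sylow_mod
  have hmul := Subgroup.card_mul_index N
  rw [S.card_G, ← hidx, hN] at hmul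
  have hne1 : NA.index ≠ 1 := by
    intro h1
    obtain ⟨n, hn, hng⟩ := T.exists_center_inverter hP
    have hnA : n ∈ Subgroup.normalizer (AT b g : Set G) := by
      have : (⟨n, hn⟩ : N) ∈ NA := (Subgroup.index_eq_one.mp h1) ▸ Subgroup.mem_top _
      exact this
    -- every element of `N(A)` centralises `g`
    obtain ⟨-, hPA, hconj⟩ := T.structure_P hP
    obtain ⟨k, hk, hkb⟩ := T.exists_inverter
    have hnb : n * b * n⁻¹ ∈ AT b g := (Subgroup.mem_normalizer_iff.mp hnA b).mp T.b_mem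
    have hnbg : n * b * n⁻¹ ∉ Subgroup.zpowers g := fun hm => T.not_conj (isConj_iff.mpr ⟨n, rfl⟩) hm
    obtain ⟨p, hp, e⟩ := hconj _ hnb hnbg
    have hkg : Commute k g := (S.DD_comm_X0 T.gD hk).symm
    have hpg : Commute p g := (T.structure_P hP).1 p hp
    have key : ∀ m, m * b * m⁻¹ = n * b * n⁻¹ → Commute m g → m ∈ Subgroup.normalizer (AT b g : Set G) →
        False := by
      intro m hm hmg hmN
      have hc : Commute (m⁻¹ * n) b := mul_inv_eq_iff_eq_mul.mp (by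
        calc m⁻¹ * n * b * (m⁻¹ * n)⁻¹ = m⁻¹ * (n * b * n⁻¹) * m := by group
          _ = b := by rw [← hm]; group)
      have h2 := (mem_AT.mp (T.stab (mul_mem (inv_mem hmN) hnA) hc)).2
      have h3 : Commute n g := by
        have := hmg.mul_left h2
        rwa [mul_inv_cancel_left] at this
      rw [h3.eq, mul_inv_cancel_right] at hng
      exact T.g1 ((show IsOdd g from Or.inl T.go).eq_one_of_sq (Subgroup.mem_zpowers g)
        (mul_eq_one_iff_eq_inv.mpr hng))
    have hpN : p ∈ Subgroup.normalizer (AT b g : Set G) := mem_normalizer_of_maps (hPA p hp)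
    rcases e with e | e
    · exact key p e hpg hpN
    · refine key (p * k) ?_ (hpg.mul_left hkg) (mul_mem hpN ?_)
      · rw [← e, ← hkb]; group
      · refine mem_normalizer_of_maps fun r hr => ?_
        obtain ⟨i, j, rfl⟩ := T.mem_cases hr
        rw [show k * (b ^ i * g ^ j) * k⁻¹ = (k * b * k⁻¹) ^ i * (k * g ^ j * k⁻¹) by rw [conj_zpow]; group,
          hkb, (hkg.zpow_right j).eq, mul_inv_cancel_right, inv_zpow']
        exact T.mem_of_pows (-i) j
  have ho4 : NA.index = 4 := by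
    have : NA.index ≤ 4 := by omega
    interval_cases hi : NA.index <;> omega
  refine ⟨by rw [hN, ho4], fun p hp hpg => ?_⟩
  obtain ⟨⟨q, ⟨a, ha⟩⟩, hq⟩ := (hφ.bijective_of_nat_card_le (by
    rw [Nat.card_prod, T.card_AT_diff, h24, show Nat.card (N ⧸ NA) = NA.index from rfl, ho4])).2 ⟨p, hp, hpg⟩
  obtain ⟨n, -, hn⟩ := T.conj_b ha.1 ha.2
  exact (isConj_iff.mpr ⟨n, hn⟩).trans (isConj_iff.mpr ⟨q.out, congrArg Subtype.val hq⟩)

theorem Three.classes (T : Three S b g) {a : G} (ha : orderOf a = 3) : IsConj a b ∨ IsConj a g := by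
  classical
  haveI : Fact (Nat.Prime 3) := ⟨Nat.prime_three⟩
  obtain ⟨P, hP⟩ := T.exists_sylow
  obtain ⟨R, hR⟩ := (IsPGroup.of_card (n := 1) (by rw [Nat.card_zpowers, ha, pow_one]) :
    IsPGroup 3 (Subgroup.zpowers a)).exists_le_sylow
  obtain ⟨k, hk⟩ := MulAction.exists_smul_eq G R P
  have hka : k * a * k⁻¹ ∈ (P : Subgroup G) := by
    rw [← hk, Sylow.coe_subgroup_smul]; exact ⟨a, hR (Subgroup.mem_zpowers a), rfl⟩
  have hc : IsConj a (k * a * k⁻¹) := isConj_iff.mpr ⟨k, rfl⟩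
  by_cases hm : k * a * k⁻¹ ∈ Subgroup.zpowers g
  · right
    refine hc.trans ?_
    obtain ⟨n, -, hn⟩ := T.exists_center_inverter hP
    obtain ⟨j, hj⟩ := Subgroup.mem_zpowers_iff.mp hm
    rw [← hj]
    have h3 : g ^ j = g ^ (j % 3) := by
      conv_lhs => rw [← Int.emod_add_mul_ediv j 3, zpow_add, zpow_mul,
        show g ^ (3 : ℤ) = 1 by rw [show (3 : ℤ) = ((3 : ℕ) : ℤ) from rfl, zpow_natCast, T.g3], one_zpow, mul_one]
    have h1 := Int.emod_nonneg j (show (3 : ℤ) ≠ 0 by norm_num)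
    have h2 := Int.emod_lt_of_pos j (show (0 : ℤ) < 3 by norm_num)
    have hne : j % 3 ≠ 0 := fun e0 => by
      rw [h3, e0, zpow_zero] at hj
      rw [conj_eq_one_iff.mp hj.symm, orderOf_one] at ha
      omega
    have h12 : j % 3 = 1 ∨ j % 3 = 2 := by omega
    rcases h12 with e | e <;> rw [h3, e]
    · rw [zpow_one]
    · refine isConj_iff.mpr ⟨n, ?_⟩
      have h6 : g ^ (2 : ℤ) = g⁻¹ :=
        eq_inv_of_mul_eq_one_left (by rw [← zpow_add_one]; norm_num; exact_mod_cast T.g3)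
      rw [h6, show n * g⁻¹ * n⁻¹ = (n * g * n⁻¹)⁻¹ by group, hn, inv_inv]
  · exact Or.inl (hc.trans ((T.card_N hP).2 _ hka hm).symm)

theorem sylow_three (S : Full z Q χ u h x c X0) (P : Sylow 3 G) :
    Cfsg.IsExtraspecial 3 (P : Subgroup G) ∧ Nat.card P = 27 ∧
      Nat.card (Subgroup.normalizer ((P : Subgroup G) : Set G)) = 216 ∧
        ∃ a b : G, orderOf a = 3 ∧ orderOf b = 3 ∧ ¬ IsConj a b ∧
          ∀ d : G, orderOf d = 3 → IsConj d a ∨ IsConj d b := by
  classical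
  haveI : Fact (Nat.Prime 3) := ⟨Nat.prime_three⟩
  obtain ⟨b, g, T⟩ := S.exists_three_data
  obtain ⟨P0, hP0⟩ := T.exists_sylow
  obtain ⟨k, hk⟩ := MulAction.exists_smul_eq G P0 P
  have hP : (P : Subgroup G) = (P0 : Subgroup G).map (MulAut.conj k).toMonoidHom := by
    rw [← hk, Sylow.coe_subgroup_smul]; rfl
  refine ⟨?_, S.card_P3 P, ?_, b, g, T.bo, T.go, fun hc => T.not_conj hc (Subgroup.mem_zpowers g),
    fun d hd => T.classes hd⟩
  · exact isExtraspecial_congr (((P0 : Subgroup G).equivMapOfInjective _ (MulAut.conj k).injective).trans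
      (MulEquiv.subgroupCongr hP.symm)) (T.extraspecial hP0)
  · rw [← (T.card_N hP0).1, hP, ← Subgroup.map_normalizer_eq_of_bijective _ (MulAut.conj k).bijective]
    exact (Nat.card_congr ((Subgroup.normalizer ((P0 : Subgroup G) : Set G)).equivMapOfInjective _
      (MulAut.conj k).injective).toEquiv).symm

end Full

end H36.HJ
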