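import Cfsg.Agent.H36.HJ.Five
import Cfsg.Agent.H65.BrauerFowler

/-!
Groups of Hall–Janko type, part 12: the centraliser of an element of order three of `X0` has order 36.
-/

set_option autoImplicit false

namespace H36.HJ

local notation "A5" => alternatingGroup (Fin 5)

variable {G : Type*} [Group G] [Finite G]
variable {z : G} {Q : Subgroup G} {χ : Subgroup.centralizer ({z} : Set G) →* A5}
variable {u h x c : G} {X0 : Subgroup G}

omit [Finite G] in
theorem mem_zpowers_of_pow {a : G} {k : ℕ} (hp : (orderOf a).Coprime k) :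
    a ∈ Subgroup.zpowers (a ^ k) := by
  obtain ⟨m, hm⟩ := exists_pow_eq_self_of_coprime hp.symm
  exact ⟨(m : ℤ), by simpa using hm⟩

/-- A prime order element in the cyclic group of another generates it. -/
theorem zpowers_eq_of_mem {a b : G} (hb : b ∈ Subgroup.zpowers a) (ho : orderOf b = orderOf a) :
    Subgroup.zpowers b = Subgroup.zpowers a :=
  Subgroup.eq_of_le_of_card_ge (Subgroup.zpowers_le.mpr hb) (by rw [Nat.card_zpowers, Nat.card_zpowers, ho])

theorem Hyp.not_mem_odd (H : Hyp z Q χ) {w : G} (hw : IsOdd w) : w ∉ Q := fun hm => by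
  have h1 := orderOf_dvd_natCard (⟨w, hm⟩ : Q)
  rw [Subgroup.orderOf_mk, H.card] at h1
  rcases hw with e | e <;> rw [e] at h1 <;> norm_num at h1

theorem img_pow {w : G} (hwz : Commute w z) (n : ℕ) : img χ (hwz.pow_left n) = img χ hwz ^ n := by
  show χ _ = χ _ ^ n
  rw [← map_pow]
  rfl

/-- The image of the centraliser of an element of order three or five in `C(z)` is cyclic. -/
theorem Hyp.cent_img (H : Hyp z Q χ) {w r : G} (hw : IsOdd w) (hwz : Commute w z) (hrz : Commute r z)
    (hrw : Commute r w) : ∃ j : ℕ, (w ^ j)⁻¹ * r ∈ Q := by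
  have h1 : img χ hwz ≠ 1 := fun e => H.not_mem_odd hw ((H.img_eq_one _).mp e)
  have hp : img χ hwz ^ 3 = 1 ∨ img χ hwz ^ 5 = 1 := by
    rcases hw.pow_cases with e | e
    · left; rw [← img_pow]; exact (H.img_eq_one _).mpr (by rw [e]; exact one_mem Q)
    · right; rw [← img_pow]; exact (H.img_eq_one _).mpr (by rw [e]; exact one_mem Q)
  have hc : img χ hwz * img χ hrz = img χ hrz * img χ hwz := by
    rw [← H.img_mul hwz hrz, ← H.img_mul hrz hwz, H.img_eq_iff, hrw.eq, inv_mul_cancel]
    exact one_mem Q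
  have key : ∀ j : ℕ, img χ hrz = img χ hwz ^ j → ∃ j : ℕ, (w ^ j)⁻¹ * r ∈ Q := fun j e => by
    rw [← img_pow] at e
    exact ⟨j, (H.img_eq_iff _ _).mp e.symm⟩
  rcases a5_odd_cent _ _ hp h1 hc with e | e | e | e | e
  · exact key 0 (by rw [e, pow_zero])
  · exact key 1 (by rw [e, pow_one])
  · exact key 2 e
  · exact key 3 e
  · exact key 4 e

/-- An element of order five of `C(z)` centralises only `z` in `Q`. -/
theorem Hyp.five_fix (H : Hyp z Q χ) {f q : G} (hf : orderOf f = 5) (hfz : Commute f z) (hq : q ∈ Q)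
    (hc : Commute f q) : q = 1 ∨ q = z := by
  classical
  haveI : Fact (Nat.Prime 5) := ⟨by norm_num⟩
  obtain ⟨f0, hf0z, hf05, hf01, hfix⟩ := H.exists_five
  have hf0o : orderOf f0 = 5 := orderOf_eq_prime hf05 hf01
  set C := Subgroup.centralizer ({z} : Set G)
  have hsyl : ∀ {a : C}, orderOf a = 5 → ∃ R : Sylow 5 C, (R : Subgroup C) = Subgroup.zpowers a := by
    intro a ha
    have hp : IsPGroup 5 (Subgroup.zpowers a) := IsPGroup.of_card (n := 1) (by rw [Nat.card_zpowers, ha, pow_one])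
    refine ⟨hp.toSylow ?_, IsPGroup.toSylow_coe _ _⟩
    intro h5
    have := Subgroup.card_mul_index (Subgroup.zpowers a)
    rw [Nat.card_zpowers, ha, H.card_C] at this
    omega
  obtain ⟨R, hR⟩ := hsyl (a := ⟨f, mem_C.mpr hfz⟩) (by rw [Subgroup.orderOf_mk, hf])
  obtain ⟨R0, hR0⟩ := hsyl (a := ⟨f0, mem_C.mpr hf0z⟩) (by rw [Subgroup.orderOf_mk, hf0o])
  obtain ⟨k, hk⟩ := MulAction.exists_smul_eq C R R0
  have hm : k * ⟨f, mem_C.mpr hfz⟩ * k⁻¹ ∈ (R0 : Subgroup C) := by
    rw [← hk, Sylow.coe_subgroup_smul]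
    exact ⟨_, hR ▸ Subgroup.mem_zpowers _, rfl⟩
  rw [hR0] at hm
  have hm' : (k : G) * f * (k : G)⁻¹ ∈ Subgroup.zpowers f0 := by
    obtain ⟨j, hj⟩ := Subgroup.mem_zpowers_iff.mp hm
    exact ⟨j, congrArg Subtype.val hj⟩
  have hgen := zpowers_eq_of_mem hm'
    ((orderOf_injective (MulAut.conj (k : G)).toMonoidHom (MulAut.conj (k : G)).injective f).trans
      (hf.trans hf0o.symm))
  have hf0m : f0 ∈ Subgroup.zpowers ((k : G) * f * (k : G)⁻¹) := hgen ▸ Subgroup.mem_zpowers f0
  obtain ⟨j, hj⟩ := Subgroup.mem_zpowers_iff.mp hf0m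
  have hc' : Commute f0 ((k : G) * q * (k : G)⁻¹) := hj ▸ (conj_commute_iff.mpr hc).zpow_left j
  have hkz : Commute (k : G) z := mem_C.mp k.2
  rcases hfix _ (H.conj_memQ hkz hq) hc' with e | e
  · exact Or.inl (conj_eq_one_iff.mp e)
  · refine Or.inr ?_
    calc q = (k : G)⁻¹ * ((k : G) * q * (k : G)⁻¹) * k := by group
      _ = z := by rw [e, mul_assoc, ← hkz.eq, inv_mul_cancel_left]

namespace Full

theorem zfive_cent (S : Full z Q χ u h x c X0) {s i r : G} (hs : orderOf s = 5) (hi : IsConj z i)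
    (hsi : Commute s i) (hri : Commute r i) (hrs : Commute r s) :
    r ∈ Subgroup.zpowers s ∨ r * i ∈ Subgroup.zpowers s := by
  have H := S.hyp
  obtain ⟨g, rfl⟩ := isConj_iff.mp hi
  set s' := g⁻¹ * s * g
  set r' := g⁻¹ * r * g
  have hs' : g * s' * g⁻¹ = s := by simp only [s']; group
  have hr' : g * r' * g⁻¹ = r := by simp only [r']; group
  have c1 : Commute s' z := (conj_commute_iff (g := g)).mp (by rw [hs']; exact hsi)
  have c2 : Commute r' z := (conj_commute_iff (g := g)).mp (by rw [hr']; exact hri)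
  have c3 : Commute r' s' := (conj_commute_iff (g := g)).mp (by rw [hs', hr']; exact hrs)
  have ho : orderOf s' = 5 := by
    rw [← hs]; conv_rhs => rw [← hs']
    exact (orderOf_injective (MulAut.conj g).toMonoidHom (MulAut.conj g).injective s').symm
  obtain ⟨j, hj⟩ := H.cent_img (Or.inr ho) c1 c2 c3
  have hq := H.five_fix ho c1 hj (((Commute.refl s').pow_right j).inv_right.mul_right c3.symm)
  rcases hq with e | e
  · left
    rw [← hr', ← inv_mul_eq_one.mp e, ← conj_pow, hs']
    exact Subgroup.npow_mem_zpowers s j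
  · right
    have e' : r' * z = s' ^ j := by
      rw [show r' = s' ^ j * z by rw [← e, mul_inv_cancel_left], mul_assoc, H.zz, mul_one]
    rw [← hr', show g * r' * g⁻¹ * (g * z * g⁻¹) = g * (r' * z) * g⁻¹ by group, e', ← conj_pow, hs']
    exact Subgroup.npow_mem_zpowers s j

variable {S : Full z Q χ u h x c X0} {P : Sylow 5 G} {w s : G}

theorem Five.no_three_N (D : Five S P w s) {r : G}
    (hr : r ∈ Subgroup.normalizer ((P : Subgroup G) : Set G)) (hr3 : orderOf r = 3)
    (hrs : Commute r s) : False := by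
  classical
  have hr31 : r ^ 3 = 1 := orderOf_dvd_iff_pow_eq_one.mp hr3.dvd
  have hmod := fixed_card_mod hr31 (fun b hb => (Subgroup.mem_normalizer_iff.mp hr b).mp hb)
  set R := (P : Subgroup G) ⊓ Subgroup.centralizer ({r} : Set G)
  have hd : Nat.card R ∣ 5 ^ 2 := by
    rw [show (5 : ℕ) ^ 2 = 25 by norm_num, ← S.card_P5 P]; exact Subgroup.card_dvd_of_le inf_le_left
  obtain ⟨i, hi, hRc⟩ := (Nat.dvd_prime_pow (by norm_num)).mp hd
  rw [S.card_P5 P, hRc] at hmod
  interval_cases i
  · rw [pow_zero, Subgroup.card_eq_one] at hRc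
    exact (show IsOdd s from Or.inr D.so).ne_one ((Subgroup.eq_bot_iff_forall _).mp hRc s
      ⟨D.sP, Subgroup.mem_centralizer_singleton_iff.mpr hrs.symm.eq⟩)
  · simp [Nat.ModEq] at hmod
  · have hle : (P : Subgroup G) ≤ R :=
      (Subgroup.eq_of_le_of_card_ge inf_le_left (by rw [hRc, S.card_P5 P]; norm_num)).ge
    have hgC : r ∈ Subgroup.centralizer ((P : Subgroup G) : Set G) := mem_cent_set.mpr fun k hk =>
      (show Commute k r from Subgroup.mem_centralizer_singleton_iff.mp (hle hk).2).symm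
    rw [D.self_cent] at hgC
    have := orderOf_dvd_natCard (⟨r, hgC⟩ : (P : Subgroup G))
    rw [Subgroup.orderOf_mk, hr3, S.card_P5 P] at this
    norm_num at this

/-- Elements of odd order centralising the second kind of element of order five normalise `P`. -/
theorem Five.cent_s_norm (D : Five S P w s) {r : G} (hr : Odd (orderOf r)) (hrs : Commute r s) :
    r ∈ Subgroup.normalizer ((P : Subgroup G) : Set G) := by
  classical
  haveI : Fact (Nat.Prime 2) := ⟨Nat.prime_two⟩
  obtain ⟨i, hi, hsi⟩ := D.sz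
  set M := Subgroup.centralizer ({s} : Set G)
  have hMm : ∀ {m : G}, m ∈ M ↔ Commute m s := Subgroup.mem_centralizer_singleton_iff
  have hio := two_of_conj hi S.hyp.ord
  set iM : M := ⟨i, hMm.mpr hsi.symm⟩
  -- a Sylow 2-subgroup has order two
  have h4 : ¬ 4 ∣ Nat.card M := by
    intro h4
    obtain ⟨R, hR⟩ := Sylow.exists_subgroup_card_pow_prime (G := M) 2 (n := 2) h4
    haveI hRc : IsMulCommutative R := IsPGroup.isMulCommutative_of_card_eq_prime_sq (p := 2) hR
    obtain ⟨⟨k, hkR⟩, hk⟩ := exists_prime_orderOf_dvd_card' (G := R) 2 (by rw [hR]; norm_num)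
    rw [Subgroup.orderOf_mk] at hk
    have hkG : orderOf (k : G) = 2 := (Subgroup.orderOf_coe k).trans hk
    have hks : Commute s (k : G) := (hMm.mp k.2).symm
    have hkz : IsConj z (k : G) := by
      rcases S.hyp.invol_cases S.ctx hkG with e | e
      · exact e
      · exact (S.two.no_both S.ctx (Or.inr D.so) hi e hsi hks).elim
    have hsub : ∀ r : R, ((r : M) : G) ∈ Subgroup.zpowers s ∨
        ((r : M) : G) * (k : G) ∈ Subgroup.zpowers s := fun r =>
      S.zfive_cent D.so hkz hks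
        (congrArg (fun t : R => ((t : M) : G)) (hRc.is_comm.comm r ⟨k, hkR⟩)) (hMm.mp (r : M).2)
    have h2R : ∀ r : R, r * r = 1 → ((r : M) : G) = 1 ∨ ((r : M) : G) = k := by
      intro r hr
      have hr2 : ((r : M) : G) * (r : M) = 1 := congrArg (fun t : R => ((t : M) : G)) hr
      rcases hsub r with e | e
      · exact Or.inl ((show IsOdd s from Or.inr D.so).eq_one_of_sq e hr2)
      · have hc : Commute ((r : M) : G) (k : G) :=
          congrArg (fun t : R => ((t : M) : G)) (hRc.is_comm.comm r ⟨k, hkR⟩)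
        have := (show IsOdd s from Or.inr D.so).eq_one_of_sq e (by
          rw [mul_assoc, ← mul_assoc (k : G), ← hc.eq, mul_assoc ((r : M) : G) (k : G),
            sq_one_of_orderOf hkG, mul_one, hr2])
        exact Or.inr ((eq_inv_of_mul_eq_one_left this).trans (inv_eq_of_mul_eq_one_right (sq_one_of_orderOf hkG)))
    have hall : ∀ r : R, r * r = 1 := by
      intro r
      have h16 : r ^ 4 = 1 := by
        have := pow_card_eq_one' (x := r); rwa [hR] at this
      have hr2 := h2R (r * r) (by rw [← pow_two, ← pow_two, ← pow_mul]; exact h16)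
      rcases hr2 with e | e
      · exact Subtype.ext (Subtype.ext e)
      · exfalso
        rcases hsub r with e' | e'
        · have : ((r * r : R) : M).1 ∈ Subgroup.zpowers s := mul_mem e' e'
          rw [e] at this
          exact ne_one_of_orderOf hkG
            ((show IsOdd s from Or.inr D.so).eq_one_of_sq this (sq_one_of_orderOf hkG))
        · have hkk : ((r : M) : G) * k * (((r : M) : G) * k) = k := by
            have hc : Commute ((r : M) : G) (k : G) :=
              congrArg (fun t : R => ((t : M) : G)) (hRc.is_comm.comm r ⟨k, hkR⟩)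
            rw [mul_assoc, ← mul_assoc (k : G), ← hc.eq, mul_assoc ((r : M) : G) (k : G),
              sq_one_of_orderOf hkG, mul_one]
            exact e
          have : (k : G) ∈ Subgroup.zpowers s := hkk ▸ mul_mem e' e'
          exact ne_one_of_orderOf hkG
            ((show IsOdd s from Or.inr D.so).eq_one_of_sq this (sq_one_of_orderOf hkG))
    have hle : Nat.card R ≤ 2 := by
      haveI := Fintype.ofFinite G
      refine le_trans (Nat.card_le_card_of_injective
        (fun r : R => (⟨((r : M) : G), h2R r (hall r)⟩ : {t : G // t = 1 ∨ t = (k : G)}))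
        fun a b e => Subtype.ext (Subtype.ext (congrArg Subtype.val e :))) ?_
      rw [Nat.card_eq_fintype_card, Fintype.card_subtype]
      exact le_trans (Finset.card_le_card (fun t ht => by simpa using ht : _ ⊆ ({1, (k : G)} : Finset G)))
        Finset.card_le_two
    rw [hR] at hle
    norm_num at hle
  have h2 : 2 ∣ Nat.card M := by
    rw [← hio, show orderOf i = orderOf iM from Subgroup.orderOf_coe iM]
    exact orderOf_dvd_natCard iM
  obtain ⟨M1, hM1⟩ := H65.exists_index_two_of_card_mod_four (G := M) (by omega)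
  haveI hM1n : M1.Normal := Subgroup.normal_of_index_eq_two hM1
  have hM1odd : ¬ 2 ∣ Nat.card M1 := fun hd => by
    have := Subgroup.card_mul_index M1
    rw [hM1] at this
    exact h4 (by omega)
  have hodd : ∀ m : M, Odd (orderOf m) → m ∈ M1 := by
    intro m hm
    obtain ⟨j, hj⟩ := hm
    have h1 : m ^ orderOf m ∈ M1 := (pow_orderOf_eq_one m).symm ▸ one_mem M1
    rw [hj, pow_succ, pow_mul] at h1
    have h2' : (m ^ 2) ^ j ∈ M1 := pow_mem (hM1 ▸ Subgroup.pow_index_mem M1 m) j
    exact (mul_mem_cancel_left h2').mp h1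
  set K : Subgroup M := (Subgroup.zpowers s).subgroupOf M
  have hKn : K.Normal := ⟨fun k hk m => by
    rw [Subgroup.mem_subgroupOf] at hk ⊢
    obtain ⟨j, hj⟩ := Subgroup.mem_zpowers_iff.mp hk
    have : ((m * k * m⁻¹ : M) : G) = (k : G) := by
      show (m : G) * k * (m : G)⁻¹ = k
      rw [← hj, ((hMm.mp m.2).zpow_right j).eq, mul_inv_cancel_right]
    rw [this]; exact hk⟩
  let mk : M →* M ⧸ K := QuotientGroup.mk' K
  have hmk : ∀ a b : M, mk a = mk b ↔ (a : G)⁻¹ * b ∈ Subgroup.zpowers s := fun a b =>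
    QuotientGroup.eq.trans Subgroup.mem_subgroupOf
  set V := M1.map mk
  set σ := mk iM
  have hσ2 : σ * σ = 1 := by
    rw [← map_mul, show iM * iM = 1 from Subtype.ext (sq_one_of_orderOf hio), map_one]
  have hσV : ∀ a ∈ V, σ * a * σ⁻¹ ∈ V := by
    rintro _ ⟨m, hm, rfl⟩
    exact ⟨iM * m * iM⁻¹, hM1n.conj_mem m hm iM, by rw [map_mul, map_mul, map_inv]⟩
  have hfix : ∀ a ∈ V, σ * a * σ⁻¹ = a → a = 1 := by
    rintro _ ⟨m, hm, rfl⟩ he
    have e : mk (iM * m * iM⁻¹) = mk m := by rw [map_mul, map_mul, map_inv]; exact he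
    have hk := (hmk _ _).mp e.symm
    set k := (m : G)⁻¹ * (iM * m * iM⁻¹ : M) with hkdef
    have hik : Commute i k := by
      obtain ⟨j, hj⟩ := Subgroup.mem_zpowers_iff.mp hk
      rw [← hj]; exact hsi.symm.zpow_right j
    have e1 : i * (m : G) * i⁻¹ = m * k := by rw [hkdef]; simp [iM, mul_assoc]
    have hk1 : k = 1 := by
      refine (show IsOdd s from Or.inr D.so).eq_one_of_sq hk ?_
      have e2 : (m : G) = m * (k * k) := by
        calc (m : G) = (i * i) * m * (i * i)⁻¹ := by rw [sq_one_of_orderOf hio]; group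
          _ = i * (i * m * i⁻¹) * i⁻¹ := by group
          _ = i * ((m : G) * k) * i⁻¹ := by rw [e1]
          _ = (i * m * i⁻¹) * (i * k * i⁻¹) := by group
          _ = m * (k * k) := by rw [e1, hik.eq, mul_inv_cancel_right, mul_assoc]
      exact (mul_eq_left.mp e2.symm)
    rw [hk1, mul_one] at e1
    rcases S.zfive_cent D.so hi hsi (mul_inv_eq_iff_eq_mul.mp e1).symm (hMm.mp m.2) with e' | e'
    · rw [← map_one mk, hmk]
      simpa using inv_mem e'
    · exfalso
      -- then `i` would lie in the subgroup of index two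
      have hmem : m * iM ∈ M1 := hodd _ (by
        have : orderOf (m * iM) ∣ 5 := by
          rw [← Subgroup.orderOf_coe, ← D.so]
          exact orderOf_dvd_of_mem_zpowers e'
        exact Odd.of_dvd_nat (by decide) this)
      exact hM1odd (by
        rw [← hio, show orderOf i = orderOf (⟨iM, (mul_mem_cancel_left hm).mp hmem⟩ : M1) by
          rw [Subgroup.orderOf_mk]; exact Subgroup.orderOf_coe iM]
        exact orderOf_dvd_natCard _)
  have hinv : ∀ a ∈ V, σ * a * σ⁻¹ = a⁻¹ := by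
    intro b hb
    let f : V → V := fun a => ⟨(a : M ⧸ K)⁻¹ * (σ * a * σ⁻¹), mul_mem (inv_mem a.2) (hσV _ a.2)⟩
    have hf : Function.Injective f := by
      intro a a' e
      have e0 : (a : M ⧸ K)⁻¹ * (σ * a * σ⁻¹) = (a' : M ⧸ K)⁻¹ * (σ * a' * σ⁻¹) := congrArg Subtype.val e
      have h1 : σ * ((a' : M ⧸ K) * (a : M ⧸ K)⁻¹) * σ⁻¹ = (a' : M ⧸ K) * (a : M ⧸ K)⁻¹ := by
        calc σ * ((a' : M ⧸ K) * (a : M ⧸ K)⁻¹) * σ⁻¹
            = (a' : M ⧸ K) * ((a' : M ⧸ K)⁻¹ * (σ * a' * σ⁻¹)) * (σ * a * σ⁻¹)⁻¹ := by group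
          _ = (a' : M ⧸ K) * (a : M ⧸ K)⁻¹ := by rw [← e0]; group
      exact Subtype.ext (mul_inv_eq_one.mp (hfix _ (mul_mem a'.2 (inv_mem a.2)) h1)).symm
    obtain ⟨a, ha⟩ := (Finite.injective_iff_surjective.mp hf) ⟨b, hb⟩
    rw [show b = (a : M ⧸ K)⁻¹ * (σ * a * σ⁻¹) from (congrArg Subtype.val ha).symm,
      inv_eq_of_mul_eq_one_right hσ2,
      show σ * ((a : M ⧸ K)⁻¹ * (σ * a * σ)) * σ = σ * (a : M ⧸ K)⁻¹ * σ * a * (σ * σ) by group, hσ2,
      mul_one, mul_inv_rev, inv_inv, mul_inv_rev, mul_inv_rev, inv_eq_of_mul_eq_one_right hσ2]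
    group
  have hcomm : ∀ a ∈ V, ∀ b ∈ V, a * b = b * a := by
    intro a ha b hb
    have h1 := hinv _ (mul_mem ha hb)
    rw [show σ * (a * b) * σ⁻¹ = (σ * a * σ⁻¹) * (σ * b * σ⁻¹) by group, hinv a ha, hinv b hb] at h1
    have := congrArg Inv.inv h1
    rw [mul_inv_rev, inv_inv, inv_inv, inv_inv] at this
    exact this.symm
  set rM : M := ⟨r, hMm.mpr hrs⟩
  have hrM1 : rM ∈ M1 := hodd rM (by rw [Subgroup.orderOf_mk]; exact hr)
  refine mem_normalizer_of_maps fun a ha => ?_
  set aM : M := ⟨a, hMm.mpr (S.P5_commute P ha D.sP)⟩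
  have haM1 : aM ∈ M1 := hodd aM (by
    have h1 := orderOf_dvd_natCard (⟨a, ha⟩ : (P : Subgroup G))
    rw [Subgroup.orderOf_mk, S.card_P5 P] at h1
    rw [Subgroup.orderOf_mk]
    exact Odd.of_dvd_nat (by decide) h1)
  have e : mk (rM * aM) = mk (aM * rM) := by
    rw [map_mul, map_mul]; exact hcomm _ ⟨_, hrM1, rfl⟩ _ ⟨_, haM1, rfl⟩
  have hk : (r * a)⁻¹ * (a * r) ∈ (P : Subgroup G) :=
    Subgroup.zpowers_le.mpr D.sP ((hmk _ _).mp e)
  have hcm : Commute ((r * a)⁻¹ * (a * r)) r := by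
    obtain ⟨j, hj⟩ := Subgroup.mem_zpowers_iff.mp ((hmk _ _).mp e)
    have hj' : s ^ j = (r * a)⁻¹ * (a * r) := hj
    rw [← hj']; exact hrs.symm.zpow_left j
  set k := (r * a)⁻¹ * (a * r) with hkdef
  have e1 : a * r = r * a * k := by rw [hkdef, mul_inv_cancel_left]
  have e2 : r * a * r⁻¹ = a * k⁻¹ := by
    calc r * a * r⁻¹ = (r * a * k) * k⁻¹ * r⁻¹ := by group
      _ = a * r * k⁻¹ * r⁻¹ := by rw [e1]
      _ = a * (r * k⁻¹) * r⁻¹ := by group
      _ = a * k⁻¹ := by rw [← hcm.inv_left.eq]; group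
  rw [e2]
  exact mul_mem ha (inv_mem hk)

/-- The centraliser of the second kind of element of order five has no element of order three. -/
theorem Five.no_three_s (D : Five S P w s) {r : G} (hr3 : orderOf r = 3) (hrs : Commute r s) :
    False :=
  D.no_three_N (D.cent_s_norm (by rw [hr3]; decide) hrs) hr3 hrs

/-- The centraliser of an element of order three of `X0` has order 36. -/
theorem card_cent_three (S : Full z Q χ u h x c X0) {b : G} (hb : b ∈ X0) (hbo : orderOf b = 3) :
    Nat.card (Subgroup.centralizer ({b} : Set G)) = 36 := by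
  classical
  haveI : Fact (Nat.Prime 5) := ⟨by norm_num⟩
  rcases S.card_cent_odd hb (Or.inl hbo) with e | e <;> rw [hbo] at e
  · exact e
  exfalso
  obtain ⟨⟨a, ha⟩, hao⟩ := exists_prime_orderOf_dvd_card'
    (G := Subgroup.centralizer ({b} : Set G)) 5 (by rw [e]; norm_num)
  rw [Subgroup.orderOf_mk] at hao
  have hab : Commute a b := Subgroup.mem_centralizer_singleton_iff.mp ha
  obtain ⟨P, w, s, D⟩ := S.exists_five_data
  obtain ⟨R, hR⟩ := (IsPGroup.of_card (n := 1) (by rw [Nat.card_zpowers, hao, pow_one]) :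
    IsPGroup 5 (Subgroup.zpowers a)).exists_le_sylow
  obtain ⟨k, hk⟩ := MulAction.exists_smul_eq G R P
  have hka : k * a * k⁻¹ ∈ (P : Subgroup G) := by
    rw [← hk, Sylow.coe_subgroup_smul]; exact ⟨a, hR (Subgroup.mem_zpowers a), rfl⟩
  obtain ⟨l, hl⟩ := D.classes hka (inv_ne_one_conj fun e1 => by rw [e1, orderOf_one] at hao; omega)
  set m := l * k
  have hma : l * (k * a * k⁻¹) * l⁻¹ = m * a * m⁻¹ := by simp only [m]; group
  rw [hma] at hl
  have hmo : orderOf (m * a * m⁻¹) = 5 :=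
    (orderOf_injective (MulAut.conj m).toMonoidHom (MulAut.conj m).injective a).trans hao
  set b' := m * b * m⁻¹
  have hb'o : orderOf b' = 3 :=
    (orderOf_injective (MulAut.conj m).toMonoidHom (MulAut.conj m).injective b).trans hbo
  have hab' : Commute (m * a * m⁻¹) b' := conj_commute_iff.mpr hab
  have hgen : ∀ v, m * a * m⁻¹ ∈ Subgroup.zpowers v → orderOf v = 5 → Commute b' v := by
    intro v hv hvo
    have hz := zpowers_eq_of_mem hv (hmo.trans hvo.symm)
    have hv' : v ∈ Subgroup.zpowers (m * a * m⁻¹) := hz ▸ Subgroup.mem_zpowers v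
    obtain ⟨j, hj⟩ := Subgroup.mem_zpowers_iff.mp hv'
    rw [← hj]; exact hab'.symm.zpow_right j
  rcases hl with hl | hl
  · have hbw := hgen w hl D.wo
    haveI : Fact (Nat.Prime 3) := ⟨Nat.prime_three⟩
    obtain ⟨g, hgo, hgD, hgz, -⟩ := S.exists_three
    set M := Subgroup.centralizer ({w} : Set G)
    have hsyl : ∀ {v : M}, orderOf v = 3 → ∃ T : Sylow 3 M, (T : Subgroup M) = Subgroup.zpowers v := by
      intro v hv
      have hp : IsPGroup 3 (Subgroup.zpowers v) :=
        IsPGroup.of_card (n := 1) (by rw [Nat.card_zpowers, hv, pow_one])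
      refine ⟨hp.toSylow ?_, IsPGroup.toSylow_coe _ _⟩
      intro h3
      have := Subgroup.card_mul_index (Subgroup.zpowers v)
      rw [Nat.card_zpowers, hv, D.card_Cw] at this
      omega
    obtain ⟨T, hT⟩ := hsyl (v := ⟨b', Subgroup.mem_centralizer_singleton_iff.mpr hbw.eq⟩)
      (by rw [Subgroup.orderOf_mk, hb'o])
    obtain ⟨T', hT'⟩ := hsyl (v := ⟨g, Subgroup.mem_centralizer_singleton_iff.mpr
      (S.DD_comm_X0 hgD D.wX).eq⟩) (by rw [Subgroup.orderOf_mk, hgo])
    obtain ⟨n, hn⟩ := MulAction.exists_smul_eq M T' T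
    have hmem : (⟨b', Subgroup.mem_centralizer_singleton_iff.mpr hbw.eq⟩ : M) ∈ (T : Subgroup M) :=
      hT ▸ Subgroup.mem_zpowers _
    rw [← hn, Sylow.coe_subgroup_smul, hT'] at hmem
    obtain ⟨v, hv, hvb⟩ := hmem
    obtain ⟨j, hj⟩ := Subgroup.mem_zpowers_iff.mp hv
    have e' : b' = (n : G) * g ^ j * (n : G)⁻¹ := by
      have := congrArg Subtype.val hvb
      rw [← hj] at this
      exact this.symm
    exact S.two.no_both S.ctx (show IsOdd b' from Or.inl hb'o)
      (isConj_iff.mpr ⟨(n : G), rfl⟩) (isConj_iff.mpr ⟨m, rfl⟩)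
      (e' ▸ conj_commute_iff.mpr (hgz.zpow_left j)) (conj_commute_iff.mpr (S.kernel.comm_y hb))
  · exact D.no_three_s hb'o (hgen s hl D.so)

end Full

end H36.HJ
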